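import Cfsg.Agent.Lib.TwoCover.Linear
import Cfsg.Agent.Lib.Classical.UnitaryStab
import Cfsg.Agent.Lib.Classical.UnitaryConj
import Cfsg.Agent.Lib.Classical.WittExtension

/-!
Isometries of a finite Hermitian space: kernels of irreducible polynomials in them, extension of
isometries, and correction of determinants.
-/

set_option autoImplicit false

namespace CfsgLib.TwoCover

open Polynomial Matrix Cfsg CfsgLib.Classical.Herm
open CfsgLib.ClassicalAut (Unitary.Conj Unitary.space Unitary.exists_conj Unitary.herm_apply)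

variable {F : Type*} [Field F] [Finite F] {q : ℕ} {n : ℕ}

local notation "H" => hermForm n F q
local notation "V" => (Fin n → F)

theorem exists_conj_of_card [Fintype F] (h : Fintype.card F = q ^ 2) :
    ∃ p : ℕ, p.Prime ∧ CharP F p ∧ (∃ j, q = p ^ j) ∧ Nonempty (Unitary.Conj F q) := by
  obtain ⟨p, hp⟩ := CharP.exists F
  obtain ⟨c, hpp, hc⟩ := FiniteField.card F p
  obtain ⟨j, -, hj⟩ : ∃ j, j ≤ (c : ℕ) ∧ q = p ^ j :=
    (Nat.dvd_prime_pow hpp).1 (by rw [← hc, h]; exact dvd_pow_self _ two_ne_zero)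
  haveI : Fact p.Prime := ⟨hpp⟩
  exact ⟨p, hpp, hp, ⟨j, hj⟩,
    Unitary.exists_conj (p := p) (f := j) hj (by rw [Nat.card_eq_fintype_card, h])⟩

/-- The linear map of an element. -/
noncomputable def op (g : SU n F q) : Module.End F (Fin n → F) :=
  Matrix.toLin' (g.1 : Matrix (Fin n) (Fin n) F)

omit [Finite F] in
theorem op_apply (g : SU n F q) (x : Fin n → F) : op g x = app g x := Matrix.toLin'_apply _ _

omit [Finite F] in
theorem op_iso (g : SU n F q) (x y : Fin n → F) : H (op g x) (op g y) = H x y := by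
  rw [op_apply, op_apply, h_app]

section Poly

variable (K : Unitary.Conj F q) {T : Module.End F (Fin n → F)}

omit [Finite F] in
theorem aeval_mem_ker {r : F[X]} (s : F[X]) {x : V} (hx : aeval T r x = 0) :
    aeval T r (aeval T s x) = 0 := by
  rw [← Module.End.mul_apply, ← map_mul, mul_comm, map_mul, Module.End.mul_apply, hx, map_zero]

omit [Finite F] in
theorem aeval_eq_self {r s : F[X]} (hs : AdjoinRoot.mk r s = 1) {x : V} (hx : aeval T r x = 0) :
    aeval T s x = x := by
  obtain ⟨t, ht⟩ : r ∣ s - 1 := by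
    rw [← AdjoinRoot.mk_eq_zero, map_sub, hs, map_one, sub_self]
  rw [eq_add_of_sub_eq ht, map_add, map_one, LinearMap.add_apply, mul_comm r t, map_mul,
    Module.End.mul_apply, hx, map_zero, zero_add]
  rfl

include K in
theorem kernel_isotropic (hT : ∀ x y, H (T x) (T y) = H x y) {r : F[X]} [Fact (Irreducible r)]
    (hr0 : AdjoinRoot.root r ≠ 0)
    (hns : aeval ((AdjoinRoot.root r)⁻¹ ^ q) r ≠ 0) (hq : ∃ p j : ℕ, p.Prime ∧ CharP F p ∧ q = p ^ j)
    {x y : V} (hx : aeval T r x = 0) (hy : aeval T r y = 0) : H x y = 0 := by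
  obtain ⟨u, hu⟩ := AdjoinRoot.mk_surjective (AdjoinRoot.root r)⁻¹
  have hTu : ∀ z, aeval T r z = 0 → T (aeval T u z) = z := fun z hz => by
    have h := aeval_eq_self (T := T) (r := r) (s := X * u)
      (by rw [map_mul, hu, AdjoinRoot.mk_X, mul_inv_cancel₀ hr0]) hz
    rwa [map_mul, aeval_X, Module.End.mul_apply] at h
  have hkey : ∀ s : F[X], ∀ z, aeval T r z = 0 →
      H (aeval T s x) z = H x (aeval T ((s.map K.bar.toRingHom).comp u) z) := by
    intro s
    induction s using Polynomial.induction_on with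
    | C a =>
      intro z _
      rw [Polynomial.map_C, C_comp, aeval_C, aeval_C, Module.algebraMap_end_apply,
        Module.algebraMap_end_apply, h_smul_left K, h_smul_right K]
      show _ = K.bar (K.bar a) * _
      rw [K.bar_bar]
    | add a b ha hb =>
      intro z hz
      simp only [map_add, Polynomial.map_add, add_comp, LinearMap.add_apply, h_add_left K,
        h_add_right K, ha z hz, hb z hz]
    | monomial m a ih =>
      intro z hz
      have e1 : C a * X ^ (m + 1) = X * (C a * X ^ m) := by ring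
      have e2 : ((X * (C a * X ^ m)).map K.bar.toRingHom).comp u =
          (((C a * X ^ m).map K.bar.toRingHom).comp u) * u := by
        rw [Polynomial.map_mul, Polynomial.map_X, mul_comp, X_comp, mul_comm]
      rw [e1, e2, map_mul (aeval T) X, aeval_X, Module.End.mul_apply, map_mul (aeval T) _ u,
        Module.End.mul_apply]
      conv_lhs => rw [← hTu z hz, hT]
      exact ih _ (aeval_mem_ker u hz)
  -- the twisted polynomial does not vanish in the residue field
  have hne : AdjoinRoot.mk r ((r.map K.bar.toRingHom).comp u) ≠ 0 := by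
    intro e
    obtain ⟨p, j, hp, hcp, rfl⟩ := hq
    have := Fact.mk hp
    have : CharP (AdjoinRoot r) p := charP_of_injective_algebraMap
      (algebraMap F (AdjoinRoot r)).injective p
    rw [← AdjoinRoot.aeval_eq, aeval_comp, AdjoinRoot.aeval_eq, hu] at e
    have h := congrArg (iterateFrobenius (AdjoinRoot r) p j) e
    rw [map_zero, aeval_def, hom_eval₂, eval₂_map, iterateFrobenius_def] at h
    apply hns
    rw [aeval_def, ← h]
    congr 1
    refine RingHom.ext fun c => ?_
    show algebraMap F (AdjoinRoot r) c = iterateFrobenius (AdjoinRoot r) p j (algebraMap F _ (K.bar c))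
    rw [iterateFrobenius_def, ← map_pow, ← K.bar_apply, K.bar_bar]
  obtain ⟨v, hv⟩ := AdjoinRoot.mk_surjective (AdjoinRoot.mk r ((r.map K.bar.toRingHom).comp u))⁻¹
  have h1 := hkey r (aeval T v y) (aeval_mem_ker v hy)
  rw [hx, h_zero_left K] at h1
  have h2 : aeval T ((r.map K.bar.toRingHom).comp u * v) y = y :=
    aeval_eq_self (r := r) (by rw [map_mul, hv, mul_inv_cancel₀ hne]) hy
  rw [← h2, map_mul, Module.End.mul_apply]
  exact h1.symm

include K in
/-- A root whose twisted inverse is a conjugate: the degree is odd. -/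
theorem twisted_root {r : F[X]} [Fact (Irreducible r)]
    (h : aeval ((AdjoinRoot.root r)⁻¹ ^ q) r = 0) :
    Odd r.natDegree ∧ (r.natDegree = 3 → AdjoinRoot.root r ≠ 0 →
      AdjoinRoot.root r ^ (q ^ 3 + 1) = 1) := by
  have : Fintype F := Fintype.ofFinite F
  have hirr : Irreducible r := Fact.out
  set pb := AdjoinRoot.powerBasis hirr.ne_zero
  have : Module.Finite F (AdjoinRoot r) := pb.finite
  have : Finite (AdjoinRoot r) := Module.finite_of_finite F
  let φ₀ : AdjoinRoot r →ₐ[F] AdjoinRoot r :=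
    AdjoinRoot.liftAlgHom r (Algebra.ofId F (AdjoinRoot r)) ((AdjoinRoot.root r)⁻¹ ^ q) h
  let φ : AdjoinRoot r ≃ₐ[F] AdjoinRoot r :=
    AlgEquiv.ofBijective φ₀ (Finite.injective_iff_bijective.1 φ₀.toRingHom.injective)
  have hφ : φ (AdjoinRoot.root r) = (AdjoinRoot.root r)⁻¹ ^ q := AdjoinRoot.liftAlgHom_root r (Algebra.ofId F (AdjoinRoot r)) _ h
  have hfr : φ * φ = FiniteField.frobeniusAlgEquivOfAlgebraic F (AdjoinRoot r) := by
    refine AlgEquiv.coe_algHom_injective (AdjoinRoot.algHom_ext ?_)
    show φ (φ (AdjoinRoot.root r)) = (AdjoinRoot.root r) ^ Fintype.card F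
    rw [hφ, map_pow, map_inv₀, hφ, ← inv_pow, inv_inv, ← pow_mul, ← sq,
      Fintype.card_eq_nat_card, K.card]
  obtain ⟨⟨i, hilt⟩, hi⟩ := (FiniteField.bijective_frobeniusAlgEquivOfAlgebraic_pow F (AdjoinRoot r)).2 φ
  simp only at hi
  have hd : Module.finrank F (AdjoinRoot r) = r.natDegree := pb.finrank.trans rfl
  have hmod : i + i ≡ 1 [MOD r.natDegree] := by
    rw [← hd, ← FiniteField.orderOf_frobeniusAlgEquivOfAlgebraic, ← pow_eq_pow_iff_modEq, pow_add,
      hi, hfr, pow_one]
  refine ⟨?_, fun h3 h0 => ?_⟩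
  · by_contra hev
    have he : 2 ∣ r.natDegree := even_iff_two_dvd.1 (Nat.not_odd_iff_even.1 hev)
    have := hmod.of_dvd he
    unfold Nat.ModEq at this
    omega
  · rw [h3] at hmod
    have hlt : i < 3 := by rw [← h3, ← hd]; exact hilt
    unfold Nat.ModEq at hmod
    have h2 : i = 2 := by omega
    have e := congrArg (fun f : AdjoinRoot r ≃ₐ[F] AdjoinRoot r => f (AdjoinRoot.root r)) hi
    simp only [h2, hφ] at e
    rw [sq] at e
    change ((AdjoinRoot.root r) ^ Fintype.card F) ^ Fintype.card F = _ at e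
    rw [Fintype.card_eq_nat_card, K.card, ← pow_mul] at e
    have e2 : (AdjoinRoot.root r ^ (q ^ 3 + 1)) ^ q = 1 := by
      rw [← pow_mul, show (q ^ 3 + 1) * q = q ^ 2 * q ^ 2 + q by ring, pow_add, e, ← mul_pow,
        inv_mul_cancel₀ h0, one_pow]
    obtain ⟨p, hp⟩ := CharP.exists F
    obtain ⟨c, hpp, hc⟩ := FiniteField.card F p
    obtain ⟨j, -, hj⟩ : ∃ j, j ≤ (c : ℕ) ∧ q = p ^ j := (Nat.dvd_prime_pow hpp).1 (by
      rw [← hc, Fintype.card_eq_nat_card, K.card]; exact dvd_pow_self _ two_ne_zero)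
    have := Fact.mk hpp
    have : CharP (AdjoinRoot r) p := charP_of_injective_algebraMap
      (algebraMap F (AdjoinRoot r)).injective p
    refine (iterateFrobenius (AdjoinRoot r) p j).injective ?_
    rw [iterateFrobenius_def, iterateFrobenius_def, ← hj, e2, one_pow]

omit [Finite F] in
/-- The kernel of an irreducible factor has at least its degree as dimension. -/
theorem le_finrank_ker {r : F[X]} (hr : Irreducible r) {x : V} (hx : aeval T r x = 0) (hx0 : x ≠ 0) :
    r.natDegree ≤ Module.finrank F (LinearMap.ker (aeval T r)) := by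
  let L : Polynomial.degreeLT F r.natDegree →ₗ[F] LinearMap.ker (aeval T r) :=
    { toFun := fun s => ⟨aeval T (s : F[X]) x, aeval_mem_ker (s : F[X]) hx⟩
      map_add' := fun s t => by ext1; simp
      map_smul' := fun c s => by ext1; simp }
  have hL : Function.Injective L := (injective_iff_map_eq_zero L).2 fun s hs => by
    by_contra hne
    have hs0 : (s : F[X]) ≠ 0 := fun e => hne (Subtype.ext e)
    have hlt : (s : F[X]).natDegree < r.natDegree :=
      (natDegree_lt_iff_degree_lt hs0).2 (Polynomial.mem_degreeLT.1 s.2)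
    obtain ⟨a, b, hab⟩ := hr.isCoprime_or_dvd (s : F[X]) |>.resolve_right fun hd =>
      (not_le.2 hlt) (natDegree_le_of_dvd hd hs0)
    apply hx0
    have := congrArg (fun p => aeval T p x) hab
    simp only [map_add, map_mul, map_one, LinearMap.add_apply, Module.End.mul_apply, hx,
      map_zero, show aeval T (s : F[X]) x = 0 from congrArg Subtype.val hs, add_zero,
      Module.End.one_apply] at this
    exact this.symm
  have h := LinearMap.finrank_le_finrank_of_injective hL
  rwa [(Polynomial.degreeLTEquiv F r.natDegree).finrank_eq, Module.finrank_fin_fun] at h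

omit [Finite F] in
theorem exists_ker_ne_zero {r : F[X]} (hr : Irreducible r) (h : r ∣ minpoly F T) :
    ∃ x : V, x ≠ 0 ∧ aeval T r x = 0 := by
  obtain ⟨s, hs⟩ := h
  have hm := minpoly.monic (Algebra.IsIntegral.isIntegral (R := F) T)
  have hs0 : s ≠ 0 := fun e => hm.ne_zero (by rw [hs, e, mul_zero])
  have hne : aeval T s ≠ 0 := fun e => by
    have hd := minpoly.dvd F T e
    have := natDegree_le_of_dvd hd hs0
    rw [hs, natDegree_mul hr.ne_zero hs0] at this
    have := hr.natDegree_pos
    omega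
  obtain ⟨y, hy⟩ : ∃ y, aeval T s y ≠ 0 := by
    by_contra hc
    push Not at hc
    exact hne (LinearMap.ext hc)
  refine ⟨_, hy, ?_⟩
  rw [← Module.End.mul_apply, ← map_mul, ← hs, minpoly.aeval, LinearMap.zero_apply]

include K in
/-- A totally isotropic subspace has dimension at most half. -/
theorem isotropic_le {W : Submodule F V} (hW : ∀ x ∈ W, ∀ y ∈ W, H x y = 0) :
    2 * Module.finrank F W ≤ n := by
  classical
  obtain ⟨P, hP⟩ := W.exists_isCompl
  let b := Module.finBasis F W
  have hd : ∀ i, ∃ v : V, ∀ j, H (b j : V) v = if i = j then 1 else 0 := fun i => by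
    obtain ⟨v, hv⟩ := exists_repr K ((b.coord i).comp (W.projectionOnto P hP))
    refine ⟨v, fun j => ?_⟩
    rw [hv, LinearMap.comp_apply, Submodule.projectionOnto_apply_left,
      Module.Basis.coord_apply, Module.Basis.repr_self, Finsupp.single_apply]
    simp only [eq_comm]
  choose v hv using hd
  let f : Fin (Module.finrank F W) ⊕ Fin (Module.finrank F W) → V := Sum.elim (fun i => (b i : V)) v
  have hf : LinearIndependent F f := by
    refine Fintype.linearIndependent_iff.2 fun c hc => ?_
    rw [Fintype.sum_sum_type] at hc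
    simp only [f, Sum.elim_inl, Sum.elim_inr] at hc
    let R : V → (V →ₗ[F] F) := fun z =>
      { toFun := fun y => H y z, map_add' := fun x y => h_add_left K x y z,
        map_smul' := fun a x => h_smul_left K a x z }
    have hbar : ∀ x y : V, H y x = K.bar (H x y) := fun x y => h_swap K x y
    have h2 : ∀ j, c (.inr j) = 0 := fun j => by
      have := congrArg (R (b j : V)) hc
      simp only [map_add, map_sum, map_smul, map_zero, smul_eq_mul] at this
      rw [Finset.sum_eq_zero (fun i _ => by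
        rw [show R (b j : V) (b i : V) = 0 from hW _ (b i).2 _ (b j).2, mul_zero]), zero_add,
        Finset.sum_eq_single j] at this
      · rwa [show R (b j : V) (v j) = 1 by
          show H (v j) (b j : V) = 1
          rw [hbar, hv, if_pos rfl, map_one], mul_one] at this
      · intro i _ hi
        show _ * H (v i) (b j : V) = 0
        rw [hbar, hv, if_neg hi, map_zero, mul_zero]
      · simp
    have h1 : ∀ j, c (.inl j) = 0 := fun j => by
      have := congrArg (R (v j)) hc
      simp only [map_add, map_sum, map_smul, map_zero, smul_eq_mul, h2, zero_mul,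
        Finset.sum_const_zero, add_zero] at this
      rw [Finset.sum_eq_single j] at this
      · rwa [show R (v j) (b j : V) = 1 from (hv j j).trans (if_pos rfl), mul_one] at this
      · intro i _ hi
        show _ * H (b i : V) (v j) = 0
        rw [hv, if_neg (Ne.symm hi), mul_zero]
      · simp
    exact fun i => match i with
      | .inl j => h1 j
      | .inr j => h2 j
  have := hf.fintype_card_le_finrank
  rw [Fintype.card_sum, Fintype.card_fin, Module.finrank_fin_fun] at this
  omega

end Poly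

/-! ### Isometries with prescribed values, and determinants -/

section Witt

variable (K : Unitary.Conj F q)

include K in
theorem exists_iso_map {k : ℕ} (f f' : Fin k → V) (hf : LinearIndependent F f)
    (hf' : LinearIndependent F f') (hgram : ∀ i j, H (f i) (f j) = H (f' i) (f' j)) :
    ∃ A : Matrix (Fin n) (Fin n) F, (∀ x y, H (A *ᵥ x) (A *ᵥ y) = H x y) ∧ ∀ i, A *ᵥ f i = f' i := by
  classical
  let B : V →ₛₗ[K.bar.toRingHom] V →ₗ[F] F :=
    LinearMap.mk₂'ₛₗ K.bar.toRingHom (RingHom.id F) (fun u v => H v u)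
      (fun u u' v => h_add_right K v u u') (fun a u v => h_smul_right K a v u)
      (fun u v v' => h_add_left K v v' u) (fun a u v => h_smul_left K a v u)
  let X := Submodule.span F (Set.range f)
  let Y := Submodule.span F (Set.range f')
  let bX : Module.Basis (Fin k) F X := Module.Basis.span hf
  let bY : Module.Basis (Fin k) F Y := Module.Basis.span hf'
  let φ : X ≃ₗ[F] Y := bX.equiv bY (Equiv.refl _)
  have hbX : ∀ i, (bX i : V) = f i := fun i => congrArg Subtype.val (Module.Basis.span_apply hf i)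
  have hbY : ∀ i, (bY i : V) = f' i := fun i => congrArg Subtype.val (Module.Basis.span_apply hf' i)
  have hφb : ∀ i, (φ (bX i) : V) = f' i := fun i => by
    rw [Module.Basis.equiv_apply, Equiv.refl_apply, hbY]
  have hφ : ∀ x x' : X, B (φ x : V) (φ x' : V) = B (x : V) (x' : V) := by
    intro x x'
    rw [← bX.sum_repr x, ← bX.sum_repr x']
    simp only [map_sum, map_smul, LinearMap.coe_sum, Finset.sum_apply, LinearMap.map_smulₛₗ,
      LinearMap.smul_apply, Submodule.coe_sum, Submodule.coe_smul, hφb, hbX]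
    refine Finset.sum_congr rfl fun i _ => congrArg _ (Finset.sum_congr rfl fun j _ => congrArg _ ?_)
    exact (hgram i j).symm
  have hσ : K.bar.toRingHom ≠ RingHom.id F := fun e => by
    obtain ⟨y, hy⟩ := K.exists_moved
    exact hy (RingHom.congr_fun e y)
  obtain ⟨g, hg1, hg2⟩ := CfsgLib.Classical.Witt.witt_hermitian K.bar.toRingHom hσ K.bar_bar B
    (fun u v => (h_swap K v u).symm) (fun v hv => h_nondeg K fun y => h_eq_zero_symm K (hv y))
    X Y φ hφ
  refine ⟨LinearMap.toMatrix' (g : V →ₗ[F] V), fun x y => ?_, fun i => ?_⟩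
  · simp only [LinearMap.toMatrix'_mulVec]
    exact hg1 y x
  · rw [LinearMap.toMatrix'_mulVec]
    have := hg2 (bX i)
    rw [hφb, hbX] at this
    exact this

include K in
theorem det_norm_one {A : Matrix (Fin n) (Fin n) F} (hA : ∀ x y, H (A *ᵥ x) (A *ᵥ y) = H x y) :
    A.det * K.bar A.det = 1 := by
  have e : Aᵀ * A.map K.bar = 1 := by
    ext i j
    have h := hA (Pi.single i 1) (Pi.single j 1)
    rw [Unitary.herm_apply K, Unitary.herm_apply K] at h
    simp [Pi.single_apply] at h
    rw [Matrix.mul_apply, Matrix.one_apply]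
    simp only [Matrix.transpose_apply, Matrix.map_apply]
    rw [h]
    rcases eq_or_ne i j with rfl | hij
    · simp
    · simp [hij, hij.symm]
  have := congrArg Matrix.det e
  rwa [Matrix.det_mul, Matrix.det_transpose, Matrix.det_one, ← RingEquiv.coe_toRingHom,
    ← RingHom.mapMatrix_apply, ← RingHom.map_det] at this

include K in
theorem exists_bar_quot {c : F} (hc : c * K.bar c = 1) : ∃ a : F, a ≠ 0 ∧ a * (K.bar a)⁻¹ = c := by
  by_cases h : c = -1
  · obtain ⟨θ, hθ0, hθ⟩ := exists_skew K
    refine ⟨θ, hθ0, ?_⟩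
    rw [eq_neg_of_add_eq_zero_right hθ, inv_neg, mul_neg, mul_inv_cancel₀ hθ0, h]
  · have h1 : 1 + c ≠ 0 := fun e => h (eq_neg_of_add_eq_zero_right e)
    refine ⟨1 + c, h1, ?_⟩
    rw [mul_inv_eq_iff_eq_mul₀ ((map_ne_zero K.bar).2 h1), map_add, map_one]
    linear_combination -hc

/-- An element of `SU` from a unitary matrix of determinant one. -/
def mkSU {A : Matrix (Fin n) (Fin n) F} (hd : A.det = 1) (hA : ∀ x y, H (A *ᵥ x) (A *ᵥ y) = H x y) :
    SU n F q := ⟨⟨A, hd⟩, hA⟩

omit [Finite F] in
theorem app_mkSU {A : Matrix (Fin n) (Fin n) F} (hd : A.det = 1)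
    (hA : ∀ x y, H (A *ᵥ x) (A *ᵥ y) = H x y) (x : V) : app (mkSU hd hA) x = A *ᵥ x := rfl

include K in
/-- Conjugate in `GL` with determinants corrected. -/
theorem exists_su_conj [Fintype F] (hF : Fintype.card F = q ^ 2) (g y : SU n F q)
    {P : Matrix (Fin n) (Fin n) F} (hP : P.det ≠ 0)
    (hconj : P * (g.1 : Matrix (Fin n) (Fin n) F) = (y.1 : Matrix (Fin n) (Fin n) F) * P)
    (hfix : ∀ δ : F, δ * K.bar δ = 1 → ∃ D : Matrix (Fin n) (Fin n) F,
      (∀ u v, H (D *ᵥ u) (D *ᵥ v) = H u v) ∧ D.det = δ ∧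
        D * (y.1 : Matrix (Fin n) (Fin n) F) = (y.1 : Matrix (Fin n) (Fin n) F) * D) :
    ∃ x : SU n F q, x * g * x⁻¹ = y := by
  classical
  let toGU : SU n F q → GU n F q := fun a =>
    ⟨Matrix.SpecialLinearGroup.toGL a.1, fun u v => a.2 u v⟩
  have hc : IsConj (toGU g) (toGU y) := by
    refine (CfsgLib.Classical.UnitaryConj.gu_isConj_iff hF _ _).2 (isConj_iff.2
      ⟨Matrix.GeneralLinearGroup.mkOfDetNeZero P hP, ?_⟩)
    rw [mul_inv_eq_iff_eq_mul]
    exact Units.ext hconj
  obtain ⟨X, hX⟩ := isConj_iff.1 hc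
  set A : Matrix (Fin n) (Fin n) F := ((X.1 : GL (Fin n) F) : Matrix (Fin n) (Fin n) F) with hA
  have hAiso : ∀ u v, H (A *ᵥ u) (A *ᵥ v) = H u v := fun u v => X.2 u v
  have hAg : A * (g.1 : Matrix (Fin n) (Fin n) F) = (y.1 : Matrix (Fin n) (Fin n) F) * A :=
    congrArg (fun z : GU n F q => ((z.1 : GL (Fin n) F) : Matrix (Fin n) (Fin n) F))
      (mul_inv_eq_iff_eq_mul.1 hX)
  have hn1 := det_norm_one K hAiso
  have hd0 : A.det ≠ 0 := left_ne_zero_of_mul (ne_of_eq_of_ne hn1 one_ne_zero)
  obtain ⟨D, hDiso, hDdet, hDy⟩ := hfix A.det⁻¹ (by rw [map_inv₀, ← mul_inv, hn1, inv_one])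
  refine ⟨mkSU (A := D * A) (by rw [det_mul, hDdet, inv_mul_cancel₀ hd0])
    (fun u v => by rw [← mulVec_mulVec, ← mulVec_mulVec, hDiso, hAiso]), ?_⟩
  rw [mul_inv_eq_iff_eq_mul]
  refine Subtype.ext (Subtype.ext ?_)
  show D * A * (g.1 : Matrix (Fin n) (Fin n) F) = (y.1 : Matrix (Fin n) (Fin n) F) * (D * A)
  rw [mul_assoc, hAg, ← mul_assoc, hDy, mul_assoc]

end Witt

end CfsgLib.TwoCover
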