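import Mathlib

/-!
Two-coverings: groups that are the union of the conjugates of two proper subgroups.  Passage to a
central quotient, and copies of a finite field inside the algebra generated by an endomorphism all
of whose irreducible factors have degree divisible by the degree of the field.
-/

set_option autoImplicit false

namespace CfsgLib.TwoCover

open Polynomial
open scoped commutatorElement

/-- The group is the union of the conjugates of two proper subgroups. -/
def Covered (G : Type*) [Group G] : Prop :=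
  ∃ H K : Subgroup G, H ≠ ⊤ ∧ K ≠ ⊤ ∧ ∀ g : G, ∃ x : G, x * g * x⁻¹ ∈ H ∨ x * g * x⁻¹ ∈ K

variable {G : Type*} [Group G]

/-- A subgroup which is not normal stays proper modulo central subgroups. -/
theorem map_ne_top {Z : Subgroup G} [Z.Normal] (hZ : Z ≤ Subgroup.center G) {H : Subgroup G}
    {a x : G} (ha : a ∈ H) (hx : x * a * x⁻¹ ∉ H) : H.map (QuotientGroup.mk' Z) ≠ ⊤ := by
  intro h
  obtain ⟨b, hb, e⟩ : (QuotientGroup.mk' Z x) ∈ H.map (QuotientGroup.mk' Z) := h ▸ Subgroup.mem_top _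
  have hz : b⁻¹ * x ∈ Subgroup.center G := hZ (QuotientGroup.eq.1 e)
  refine hx ?_
  have hc := Subgroup.mem_center_iff.1 hz a
  rw [show x * a * x⁻¹ = b * ((b⁻¹ * x) * a * (b⁻¹ * x)⁻¹) * b⁻¹ by group, ← hc, mul_inv_cancel_right]
  exact mul_mem (mul_mem hb ha) (inv_mem hb)

/-- In a perfect group a proper subgroup stays proper modulo central subgroups. -/
theorem map_ne_top_of_perfect {Z : Subgroup G} [Z.Normal] (hZ : Z ≤ Subgroup.center G)
    (hG : commutator G = ⊤) {H : Subgroup G} (hH : H ≠ ⊤) : H.map (QuotientGroup.mk' Z) ≠ ⊤ := by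
  intro h
  refine hH (eq_top_iff.2 ?_)
  rw [← hG, commutator_eq_closure, Subgroup.closure_le]
  rintro c ⟨g₁, g₂, rfl⟩
  have hd : ∀ g : G, ∃ a ∈ H, ∃ z ∈ Subgroup.center G, g = a * z := fun g => by
    obtain ⟨a, ha, e⟩ : QuotientGroup.mk' Z g ∈ H.map (QuotientGroup.mk' Z) := h ▸ Subgroup.mem_top _
    exact ⟨a, ha, a⁻¹ * g, hZ (QuotientGroup.eq.1 e), by group⟩
  obtain ⟨a, ha, z, hz, rfl⟩ := hd g₁
  obtain ⟨b, hb, w, hw, rfl⟩ := hd g₂
  have hz' := Subgroup.mem_center_iff.1 hz
  have hw' := Subgroup.mem_center_iff.1 hw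
  have e : (⁅a * z, b * w⁆ : G) = a * b * a⁻¹ * b⁻¹ := by
    rw [commutatorElement_def]
    calc a * z * (b * w) * (a * z)⁻¹ * (b * w)⁻¹
        = a * (z * b) * (w * z⁻¹) * a⁻¹ * w⁻¹ * b⁻¹ := by group
      _ = a * (b * z) * (z⁻¹ * w) * a⁻¹ * w⁻¹ * b⁻¹ := by rw [hz' b, hw' z⁻¹]
      _ = a * b * (w * a⁻¹) * w⁻¹ * b⁻¹ := by group
      _ = a * b * (a⁻¹ * w) * w⁻¹ * b⁻¹ := by rw [hw' a⁻¹]
      _ = _ := by group
  show _ ∈ H
  rw [e]
  exact mul_mem (mul_mem (mul_mem ha hb) (inv_mem ha)) (inv_mem hb)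

/-- Covering of a perfect group passes to central quotients. -/
theorem covered_of_perfect {Z : Subgroup G} [Z.Normal] (hZ : Z ≤ Subgroup.center G)
    (hG : commutator G = ⊤) {H K : Subgroup G} (hH : H ≠ ⊤) (hK : K ≠ ⊤)
    (hcov : ∀ g : G, ∃ z ∈ Z, ∃ x : G, x * (g * z) * x⁻¹ ∈ H ∨ x * (g * z) * x⁻¹ ∈ K) :
    Covered (G ⧸ Z) := by
  refine ⟨H.map (QuotientGroup.mk' Z), K.map (QuotientGroup.mk' Z), map_ne_top_of_perfect hZ hG hH,
    map_ne_top_of_perfect hZ hG hK, fun g => ?_⟩
  induction g using QuotientGroup.induction_on with | H g => ?_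
  obtain ⟨z, hz, u, hu⟩ := hcov g
  refine ⟨QuotientGroup.mk' Z u, ?_⟩
  have e : QuotientGroup.mk' Z u * (g : G ⧸ Z) * (QuotientGroup.mk' Z u)⁻¹ =
      QuotientGroup.mk' Z (u * (g * z) * u⁻¹) := by
    have hg : QuotientGroup.mk' Z (g * z) = (g : G ⧸ Z) := by
      rw [map_mul, show QuotientGroup.mk' Z z = 1 from (QuotientGroup.eq_one_iff z).2 hz, mul_one]
      rfl
    rw [map_mul _ (u * (g * z)), map_mul _ u, map_inv, hg]
  rw [e]
  exact hu.imp (fun h => Subgroup.mem_map_of_mem _ h) fun h => Subgroup.mem_map_of_mem _ h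

/-- Two subgroups, neither normal, covering up to conjugation and the centre. -/
theorem covered_quotient {Z : Subgroup G} [Z.Normal] (hZ : Z ≤ Subgroup.center G) {H K : Subgroup G}
    (hH : ∃ a ∈ H, ∃ x : G, x * a * x⁻¹ ∉ H) (hK : ∃ a ∈ K, ∃ x : G, x * a * x⁻¹ ∉ K)
    (hcov : ∀ g : G, ∃ z ∈ Z, ∃ x : G, x * (g * z) * x⁻¹ ∈ H ∨ x * (g * z) * x⁻¹ ∈ K) :
    Covered (G ⧸ Z) := by
  obtain ⟨a, ha, x, hx⟩ := hH
  obtain ⟨b, hb, y, hy⟩ := hK
  refine ⟨H.map (QuotientGroup.mk' Z), K.map (QuotientGroup.mk' Z), map_ne_top hZ ha hx,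
    map_ne_top hZ hb hy, fun g => ?_⟩
  induction g using QuotientGroup.induction_on with | H g => ?_
  obtain ⟨z, hz, u, hu⟩ := hcov g
  refine ⟨QuotientGroup.mk' Z u, ?_⟩
  have e : QuotientGroup.mk' Z u * (g : G ⧸ Z) * (QuotientGroup.mk' Z u)⁻¹ =
      QuotientGroup.mk' Z (u * (g * z) * u⁻¹) := by
    have hg : QuotientGroup.mk' Z (g * z) = (g : G ⧸ Z) := by
      rw [map_mul, show QuotientGroup.mk' Z z = 1 from (QuotientGroup.eq_one_iff z).2 hz, mul_one]
      rfl
    rw [map_mul _ (u * (g * z)), map_mul _ u, map_inv, hg]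
  rw [e]
  exact hu.imp (fun h => Subgroup.mem_map_of_mem _ h) fun h => Subgroup.mem_map_of_mem _ h

section Field

variable {F : Type*} [Field F] [Finite F]

/-- A finite field maps into the algebra generated by `T` when its degree divides the degrees of all
irreducible factors of the minimal polynomial of `T`. -/
theorem exists_algHom_adjoin {A : Type*} [Ring A] [Algebra F A] [FiniteDimensional F A] (T : A)
    (E : Type*) [Field E] [Finite E] [Algebra F E]
    (hdeg : ∀ r : F[X], Irreducible r → r.Monic → r ∣ minpoly F T →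
      Module.finrank F E ∣ r.natDegree) :
    ∃ φ : E →ₐ[F] A, ∀ e, φ e ∈ Algebra.adjoin F ({T} : Set A) := by
  classical
  set m := minpoly F T with hm
  have hmon : m.Monic := minpoly.monic (Algebra.IsIntegral.isIntegral T)
  let R := AdjoinRoot m
  have : Module.Finite F R := (AdjoinRoot.powerBasis' hmon).finite
  have : Finite R := Module.finite_of_finite F
  let pb := Field.powerBasisOfFiniteOfSeparable F E
  set p := minpoly F pb.gen with hp
  have hsep : p.Separable := Algebra.IsSeparable.isSeparable F pb.gen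
  -- roots in the residue fields
  have hres : ∀ I : MaximalSpectrum R, ∃ a : R, Ideal.Quotient.mk I.asIdeal (aeval a p) = 0 := by
    intro I
    have := I.isMaximal
    letI : Field (R ⧸ I.asIdeal) := Ideal.Quotient.field _
    have : Finite (R ⧸ I.asIdeal) := Finite.of_surjective _ Ideal.Quotient.mk_surjective
    set x : R ⧸ I.asIdeal := Ideal.Quotient.mk _ (AdjoinRoot.root m) with hx
    have hxint : IsIntegral F x := Algebra.IsIntegral.isIntegral x
    have hdvd : minpoly F x ∣ m := minpoly.dvd F x (by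
      show aeval (Ideal.Quotient.mkₐ F I.asIdeal (AdjoinRoot.root m)) m = 0
      rw [aeval_algHom_apply, AdjoinRoot.aeval_eq, AdjoinRoot.mk_self, map_zero])
    have htop : Algebra.adjoin F ({x} : Set (R ⧸ I.asIdeal)) = ⊤ := by
      refine eq_top_iff.2 fun z _ => ?_
      obtain ⟨y, rfl⟩ := Ideal.Quotient.mk_surjective z
      obtain ⟨q, rfl⟩ := AdjoinRoot.mk_surjective y
      rw [← AdjoinRoot.aeval_eq]
      show Ideal.Quotient.mkₐ F I.asIdeal (aeval (AdjoinRoot.root m) q) ∈ _
      rw [← aeval_algHom_apply]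
      exact aeval_mem_adjoin_singleton _ _
    have hfin : Module.finrank F (R ⧸ I.asIdeal) = (minpoly F x).natDegree := by
      rw [← (Subalgebra.topEquiv (R := F) (A := R ⧸ I.asIdeal)).toLinearEquiv.finrank_eq, ← htop]
      exact (Algebra.adjoin.powerBasis hxint).finrank.trans
        (Algebra.adjoin.powerBasis_dim hxint)
    have hE : Module.finrank F E ∣ Module.finrank F (R ⧸ I.asIdeal) :=
      hfin ▸ hdeg _ (minpoly.irreducible hxint) (minpoly.monic hxint) hdvd
    obtain ⟨f⟩ := FiniteField.nonempty_algHom_of_finrank_dvd hE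
    obtain ⟨a, ha⟩ := Ideal.Quotient.mk_surjective (f pb.gen)
    refine ⟨a, ?_⟩
    show Ideal.Quotient.mkₐ F I.asIdeal (aeval a p) = 0
    rw [← aeval_algHom_apply, show Ideal.Quotient.mkₐ F I.asIdeal a = f pb.gen from ha,
      aeval_algHom_apply, hp, minpoly.aeval, map_zero]
  choose a ha using hres
  obtain ⟨y, hy⟩ := Ideal.pi_quotient_surjective (I := fun I : MaximalSpectrum R => I.asIdeal)
    (fun I J hIJ => I.isCoprime_of_ne hIJ) (fun I => Ideal.Quotient.mk _ (a I))
  have hnil : IsNilpotent (aeval y p) := by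
    rw [← mem_nilradical, IsArtinianRing.nilradical_eq_iInf, Ideal.mem_iInf]
    intro I
    rw [← Ideal.Quotient.eq_zero_iff_mem, ← ha I]
    show Ideal.Quotient.mkₐ F I.asIdeal (aeval y p) = Ideal.Quotient.mkₐ F I.asIdeal (aeval (a I) p)
    rw [← aeval_algHom_apply, ← aeval_algHom_apply]
    exact congrArg (aeval · p) (hy I)
  have hunit : IsUnit (aeval y (derivative p)) := by
    obtain ⟨c, d, hcd⟩ := hsep
    have h1 := congrArg (aeval y) hcd
    rw [map_add, map_mul, map_mul, map_one] at h1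
    have h2 : IsUnit (aeval y d * aeval y (derivative p)) := by
      rw [eq_sub_of_add_eq' h1]
      exact IsNilpotent.isUnit_one_sub ((Commute.all _ _).isNilpotent_mul_left hnil)
    exact isUnit_of_mul_isUnit_right h2
  obtain ⟨r, ⟨-, hr⟩, -⟩ := existsUnique_nilpotent_sub_and_aeval_eq_zero hnil hunit
  let φ₁ : E →ₐ[F] R := pb.lift r hr
  let ψ : R →ₐ[F] A := Ideal.Quotient.liftₐ (Ideal.span {m}) (aeval T) fun q hq => by
    obtain ⟨c, rfl⟩ := Ideal.mem_span_singleton'.1 hq
    rw [map_mul, hm, minpoly.aeval, mul_zero]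
  refine ⟨ψ.comp φ₁, fun e => ?_⟩
  obtain ⟨q, hq⟩ := AdjoinRoot.mk_surjective (φ₁ e)
  show ψ (φ₁ e) ∈ _
  rw [← hq]
  show aeval T q ∈ _
  exact aeval_mem_adjoin_singleton _ _

end Field

end CfsgLib.TwoCover
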