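import Cfsg.Agent.Lib.TwoCover.Linear
import Cfsg.Agent.Lib.GTwoZorn.Stab
import Cfsg.Agent.Lib.GTwoZorn.Pairs

/-!
Two-covering of `G₂(q)`, `q` even: the stabilisers of the two kinds of linear functionals on the
trace zero part of Zorn's algebra taking the value one at the identity.
-/

set_option autoImplicit false

namespace CfsgLib.TwoCover

open Matrix Cfsg.Lie Cfsg.Agent.GTwoZorn

variable {F : Type*} [Field F]

/-- Apply an element of `G₂`. -/
def gApp (g : Cfsg.Lie.G2 F) (x : Fin 8 → F) : Fin 8 → F :=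
  ((g : GL (Fin 8) F) : Matrix (Fin 8) (Fin 8) F) *ᵥ x

theorem gApp_mul (g h : Cfsg.Lie.G2 F) (x : Fin 8 → F) : gApp (g * h) x = gApp g (gApp h x) :=
  (Matrix.mulVec_mulVec _ _ _).symm

theorem gApp_one (x : Fin 8 → F) : gApp (1 : Cfsg.Lie.G2 F) x = x := Matrix.one_mulVec _

theorem gApp_inv (g : Cfsg.Lie.G2 F) (x : Fin 8 → F) : gApp g (gApp g⁻¹ x) = x := by
  rw [← gApp_mul, mul_inv_cancel, gApp_one]

theorem gApp_zornMul (g : Cfsg.Lie.G2 F) (x y : Fin 8 → F) :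
    gApp g (zornMul x y) = zornMul (gApp g x) (gApp g y) := g.2 x y

theorem gApp_one8 (g : Cfsg.Lie.G2 F) : gApp g (pk 1 0 0 1) = pk 1 0 0 1 := by
  have hl : ∀ x : Fin 8 → F, zornMul (pk 1 0 0 1) x = x := fun x => by
    conv_lhs => rw [← pk_eta x, pk_mul]
    conv_rhs => rw [← pk_eta x]
    simp [dot3, cross3_zero_left]
  have hr : ∀ x : Fin 8 → F, zornMul x (pk 1 0 0 1) = x := fun x => by
    conv_lhs => rw [← pk_eta x, pk_mul]
    conv_rhs => rw [← pk_eta x]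
    simp [dot3, cross3_zero_right]
  calc gApp g (pk 1 0 0 1) = zornMul (gApp g (pk 1 0 0 1)) (pk 1 0 0 1) := (hr _).symm
    _ = zornMul (gApp g (pk 1 0 0 1)) (gApp g (gApp g⁻¹ (pk 1 0 0 1))) := by rw [gApp_inv]
    _ = gApp g (zornMul (pk 1 0 0 1) (gApp g⁻¹ (pk 1 0 0 1))) := (gApp_zornMul g _ _).symm
    _ = _ := by rw [hl, gApp_inv]

/-- The functional attached to two vectors. -/
def fn (p : (Fin 3 → F) × (Fin 3 → F)) : (Fin 8 → F) →ₗ[F] F where
  toFun x := x 0 + dot3 p.1 (zA F x) + dot3 p.2 (zB F x)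
  map_add' x y := by simp [dot3, zA, zB]; ring
  map_smul' a x := by simp [dot3, zA, zB]; ring

theorem fn_pk (p : (Fin 3 → F) × (Fin 3 → F)) (α : F) (a b : Fin 3 → F) (β : F) :
    fn p (pk α a b β) = α + dot3 p.1 a + dot3 p.2 b := by
  show (pk α a b β) 0 + dot3 p.1 (zA F _) + dot3 p.2 (zB F _) = _
  rw [zA_pk, zB_pk]
  rfl

theorem fn_eq (p : (Fin 3 → F) × (Fin 3 → F)) (x : Fin 8 → F) :
    fn p x = toM x 0 0 + p.1 0 * toM x 0 1 + p.1 1 * toW x 0 0 + p.1 2 * toW x 1 0 +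
      p.2 0 * toM x 1 0 + p.2 1 * (-toW x 1 1) + p.2 2 * toW x 0 1 := by
  show x 0 + dot3 p.1 (zA F x) + dot3 p.2 (zB F x) = _
  simp [dot3, zA, zB, toM, toW]
  ring

variable (h2 : (2 : F) = 0)
include h2

theorem trace_zero_iff (x : Fin 8 → F) :
    x 0 = x 7 ↔ ∃ c : F, zornMul x x = c • pk 1 0 0 1 := by
  have hsym : ∀ u v : Fin 3 → F, dot3 u v = dot3 v u := fun u v => by simp [dot3]; ring
  have e : zornMul x x = pk (x 0 * x 0 + dot3 (zA F x) (zB F x)) ((x 0 + x 7) • zA F x)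
      ((x 0 + x 7) • zB F x) (dot3 (zA F x) (zB F x) + x 7 * x 7) := by
    conv_lhs => rw [← pk_eta x, pk_mul]
    rw [hsym (zB F x), show cross3 (zB F x) (zB F x) = 0 by funext i; fin_cases i <;> simp [cross3] <;> ring,
      show cross3 (zA F x) (zA F x) = 0 by funext i; fin_cases i <;> simp [cross3] <;> ring,
      sub_zero, add_zero, add_smul, add_smul]
  refine ⟨fun h => ⟨x 0 * x 0 + dot3 (zA F x) (zB F x), ?_⟩, ?_⟩
  · rw [e, pk_smul, pk_inj, ← h, show x 0 + x 0 = 0 by linear_combination x 0 * h2]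
    refine ⟨by ring, by simp, by simp, by ring⟩
  · rintro ⟨c, hc⟩
    rw [e, pk_smul, pk_inj] at hc
    have hsq : (x 0 - x 7) ^ 2 = 0 := by
      linear_combination hc.1 - hc.2.2.2 + (x 7 * x 7 - x 0 * x 7) * h2
    exact sub_eq_zero.1 (pow_eq_zero_iff two_ne_zero |>.1 hsq)

theorem gApp_trace_zero (g : Cfsg.Lie.G2 F) {x : Fin 8 → F} (hx : x 0 = x 7) :
    gApp g x 0 = gApp g x 7 := by
  obtain ⟨c, hc⟩ := (trace_zero_iff h2 x).1 hx
  refine (trace_zero_iff h2 _).2 ⟨c, ?_⟩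
  rw [← gApp_zornMul, hc, gApp, Matrix.mulVec_smul, ← gApp, gApp_one8]

/-- Two pairs related by an automorphism. -/
def Eqv (p p' : (Fin 3 → F) × (Fin 3 → F)) : Prop :=
  ∃ t : Cfsg.Lie.G2 F, ∀ x : Fin 8 → F, x 0 = x 7 → fn p (gApp t x) = fn p' x

theorem Eqv.symm {p p' : (Fin 3 → F) × (Fin 3 → F)} (h : Eqv p p') : Eqv p' p := by
  obtain ⟨t, ht⟩ := h
  refine ⟨t⁻¹, fun x hx => ?_⟩
  rw [← ht _ (gApp_trace_zero h2 _ hx), gApp_inv]

theorem Eqv.trans {p p' p'' : (Fin 3 → F) × (Fin 3 → F)} (h : Eqv p p') (h' : Eqv p' p'') :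
    Eqv p p'' := by
  obtain ⟨s, hs⟩ := h
  obtain ⟨t, ht⟩ := h'
  refine ⟨s * t, fun x hx => ?_⟩
  rw [gApp_mul, hs _ (gApp_trace_zero h2 _ hx), ht x hx]

/-- The automorphisms keeping the functional. -/
def fnStab (p : (Fin 3 → F) × (Fin 3 → F)) : Subgroup (Cfsg.Lie.G2 F) where
  carrier := {g | ∀ x : Fin 8 → F, x 0 = x 7 → fn p (gApp g x) = fn p x}
  one_mem' x _ := by rw [gApp_one]
  mul_mem' {g h} hg hh x hx := by rw [gApp_mul, hg _ (gApp_trace_zero h2 _ hx), hh x hx]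
  inv_mem' {g} hg x hx := by
    have h := hg _ (gApp_trace_zero h2 g⁻¹ hx)
    rw [gApp_inv] at h
    exact h.symm

theorem exists_mem_fnStab (g : Cfsg.Lie.G2 F) :
    ∃ p, g ∈ fnStab h2 p := by
  let T0 : Submodule F (Fin 8 → F) :=
    LinearMap.ker ((LinearMap.proj 0 : (Fin 8 → F) →ₗ[F] F) - LinearMap.proj 7)
  have hT0 : ∀ x : Fin 8 → F, x ∈ T0 ↔ x 0 = x 7 := fun x => by
    show (x 0 - x 7 = 0) ↔ _
    exact sub_eq_zero
  let D : (Fin 8 → F) →ₗ[F] (Fin 8 → F) :=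
    Matrix.toLin' ((g : GL (Fin 8) F) : Matrix (Fin 8) (Fin 8) F) - LinearMap.id
  have hD : ∀ x, D x = gApp g x - x := fun x => by
    show Matrix.toLin' _ x - x = _
    rw [Matrix.toLin'_apply]; rfl
  have hnot : (pk 1 0 0 1 : Fin 8 → F) ∉ T0.map D := by
    rintro ⟨v, hv, e⟩
    rw [hD, sub_eq_iff_eq_add] at e
    obtain ⟨c, hc⟩ := (trace_zero_iff h2 v).1 ((hT0 v).1 hv)
    have h1 : zornMul (gApp g v) (gApp g v) = c • pk 1 0 0 1 := by
      rw [← gApp_zornMul, hc, gApp, Matrix.mulVec_smul, ← gApp, gApp_one8]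
    rw [e, ← pk_eta v, pk_add] at h1
    rw [← pk_eta v] at hc
    rw [pk_mul, pk_smul, pk_inj] at h1 hc
    simp only [zero_add, dot3] at h1 hc
    refine one_ne_zero (α := F) ?_
    linear_combination h1.1 - hc.1 - v 0 * h2
  obtain ⟨φ, hφ1, hφ⟩ := Submodule.exists_le_ker_of_notMem hnot
  set c : F := (φ (pk 1 0 0 1))⁻¹
  let ψ : (Fin 8 → F) →ₗ[F] F := c • φ
  have hψ1 : ψ (pk 1 0 0 1) = 1 := inv_mul_cancel₀ hφ1
  let p : (Fin 3 → F) × (Fin 3 → F) :=
    (fun i => ψ (pk 0 (Pi.single i 1) 0 0), fun i => ψ (pk 0 0 (Pi.single i 1) 0))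
  have hp : ∀ x : Fin 8 → F, x 0 = x 7 → fn p x = ψ x := fun x hx => by
    obtain ⟨α, a, b, rfl⟩ : ∃ α a b, x = pk α a b α :=
      ⟨x 0, zA F x, zB F x, by conv_lhs => rw [← pk_eta x, ← hx]⟩
    have e : (pk α a b α : Fin 8 → F) = α • pk 1 0 0 1 +
        (a 0 • pk 0 (Pi.single 0 1) 0 0 + a 1 • pk 0 (Pi.single 1 1) 0 0 + a 2 • pk 0 (Pi.single 2 1) 0 0) +
        (b 0 • pk 0 0 (Pi.single 0 1) 0 + b 1 • pk 0 0 (Pi.single 1 1) 0 + b 2 • pk 0 0 (Pi.single 2 1) 0) := by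
      funext i; fin_cases i <;> simp [pk]
    conv_rhs => rw [e]
    simp only [map_add, map_smul, hψ1, smul_eq_mul, mul_one]
    rw [fn_pk]
    simp only [p, dot3]
    ring
  refine ⟨p, fun x hx => ?_⟩
  rw [hp _ (gApp_trace_zero h2 g hx), hp x hx]
  have h : φ (D x) = 0 := hφ (Submodule.mem_map_of_mem ((hT0 x).2 hx))
  rw [hD, map_sub, sub_eq_zero] at h
  show c * φ _ = c * φ _
  rw [h]

theorem exists_conj_fnStab {p p' : (Fin 3 → F) × (Fin 3 → F)} (h : Eqv p p') {g : Cfsg.Lie.G2 F}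
    (hg : g ∈ fnStab h2 p') : ∃ t, t * g * t⁻¹ ∈ fnStab h2 p := by
  obtain ⟨t, ht⟩ := h
  refine ⟨t, fun x hx => ?_⟩
  have hy := gApp_trace_zero h2 t⁻¹ hx
  rw [gApp_mul, gApp_mul, ht _ (gApp_trace_zero h2 g hy), hg _ hy, ← ht _ hy, gApp_inv]

omit h2 in
/-- Moving by `SL₃`. -/
theorem eqv_sl (A : Matrix.SpecialLinearGroup (Fin 3) F) (u w : Fin 3 → F) :
    Eqv (u, w) ((A : Matrix (Fin 3) (Fin 3) F)ᵀ *ᵥ u, (A : Matrix (Fin 3) (Fin 3) F).adjugate *ᵥ w) := by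
  obtain ⟨ι, hι⟩ := exists_slHom (F := F)
  refine ⟨ι A, fun x _ => ?_⟩
  have hd : ∀ (M : Matrix (Fin 3) (Fin 3) F) (y z : Fin 3 → F), dot3 y (M *ᵥ z) = dot3 (Mᵀ *ᵥ y) z :=
    fun M y z => by simp [dot3, Matrix.mulVec, dotProduct, Fin.sum_univ_three]; ring
  conv_lhs => rw [← pk_eta x, gApp, hι, fn_pk]
  conv_rhs => rw [← pk_eta x, fn_pk]
  simp only [hd, Matrix.transpose_transpose]

omit h2 in
/-- Moving by a diagonal pair of `2 × 2` matrices. -/
theorem eqv_pair {c c' : Matrix (Fin 2) (Fin 2) F} (h : c * c' = 1)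
    {p p' : (Fin 3 → F) × (Fin 3 → F)}
    (hp : ∀ M W : Matrix (Fin 2) (Fin 2) F, M 0 0 = M 1 1 →
      (c * M * c') 0 0 + p.1 0 * (c * M * c') 0 1 + p.1 1 * (c * W * c') 0 0 +
        p.1 2 * (c * W * c') 1 0 + p.2 0 * (c * M * c') 1 0 + p.2 1 * (-(c * W * c') 1 1) +
        p.2 2 * (c * W * c') 0 1 =
      M 0 0 + p'.1 0 * M 0 1 + p'.1 1 * W 0 0 + p'.1 2 * W 1 0 + p'.2 0 * M 1 0 +
        p'.2 1 * (-W 1 1) + p'.2 2 * W 0 1) :
    Eqv p p' := by
  obtain ⟨f, hf⟩ := exists_pairHom (F := F)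
  let u : GL (Fin 2) F := ⟨c, c', h, mul_eq_one_comm.1 h⟩
  refine ⟨f ⟨(u, u), rfl⟩, fun x hx => ?_⟩
  have h1 := (hf ⟨(u, u), rfl⟩ x).1
  have h2 := (hf ⟨(u, u), rfl⟩ x).2
  rw [fn_eq, fn_eq, gApp, h1, h2]
  exact hp _ _ (by simpa [toM] using hx)

omit h2 in
theorem eqv_left {u : Fin 3 → F} (hu : u ≠ 0) (w : Fin 3 → F) :
    ∃ w', Eqv (u, w) (Pi.single 0 1, w') ∧ (w = 0 → w' = 0) ∧ (w ≠ 0 → w' ≠ 0) ∧ w' 0 = dot3 u w := by
  obtain ⟨x, hx⟩ := exists_sl_apply (F := F) (n := 3) (by norm_num) hu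
  let A : Matrix.SpecialLinearGroup (Fin 3) F :=
    ⟨((x⁻¹ : Matrix.SpecialLinearGroup (Fin 3) F) : Matrix (Fin 3) (Fin 3) F)ᵀ,
      by rw [Matrix.det_transpose, Matrix.SpecialLinearGroup.det_coe]⟩
  have hA : (A : Matrix (Fin 3) (Fin 3) F)ᵀ *ᵥ u = Pi.single 0 1 := by
    show ((x⁻¹ : Matrix.SpecialLinearGroup (Fin 3) F) : Matrix (Fin 3) (Fin 3) F)ᵀᵀ *ᵥ u = _
    rw [Matrix.transpose_transpose, ← hx, Matrix.mulVec_mulVec, ← Matrix.SpecialLinearGroup.coe_mul,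
      inv_mul_cancel, Matrix.SpecialLinearGroup.coe_one, Matrix.one_mulVec]
  refine ⟨(A : Matrix (Fin 3) (Fin 3) F).adjugate *ᵥ w, hA ▸ eqv_sl A u w,
    fun e => by rw [e, Matrix.mulVec_zero], fun e e' => e ?_, ?_⟩
  · have := congrArg ((A : Matrix (Fin 3) (Fin 3) F) *ᵥ ·) e'
    simpa [Matrix.mulVec_mulVec, Matrix.mul_adjugate, Matrix.SpecialLinearGroup.det_coe] using this
  · have := dot_cofactor (A := (A : Matrix (Fin 3) (Fin 3) F)ᵀ)
      (by rw [Matrix.det_transpose]; exact A.2) u w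
    rw [hA, Matrix.adjugate_transpose, Matrix.transpose_transpose] at this
    rw [← this]
    simp [dot3]

theorem eqv_dot_ne {u w : Fin 3 → F} (h : dot3 u w ≠ 0) :
    Eqv (u, w) (Pi.single 0 1, Pi.single 0 (dot3 u w)) := by
  obtain ⟨w', hw, -, -, h0⟩ := eqv_left (u := u) (fun e => h (by simp [e, dot3])) w
  refine Eqv.trans h2 hw ?_
  have hs : w' 0 ≠ 0 := h0 ▸ h
  obtain ⟨B, hB⟩ : ∃ B : Matrix.SpecialLinearGroup (Fin 3) F,
      (B : Matrix (Fin 3) (Fin 3) F) = !![1, 0, 0; w' 1 / w' 0, 1, 0; w' 2 / w' 0, 0, 1] :=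
    ⟨⟨_, by simp [Matrix.det_fin_three]⟩, rfl⟩
  have e := eqv_sl B (Pi.single 0 1) w'
  have e1 : (B : Matrix (Fin 3) (Fin 3) F)ᵀ *ᵥ Pi.single 0 1 = Pi.single 0 1 := by
    rw [hB]; funext i; fin_cases i <;> simp
  have e2 : (B : Matrix (Fin 3) (Fin 3) F).adjugate *ᵥ w' = Pi.single 0 (dot3 u w) := by
    rw [hB, ← h0, Matrix.adjugate_fin_three]
    funext i; fin_cases i <;>
      simp [Matrix.mulVec, dotProduct, Fin.sum_univ_three, hs, div_mul_cancel₀]
  rwa [e1, e2] at e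

theorem eqv_dot_zero {u w : Fin 3 → F} (hu : u ≠ 0) (hw : w ≠ 0) (h : dot3 u w = 0) :
    Eqv (u, w) (Pi.single 0 1, Pi.single 1 1) := by
  obtain ⟨w', hw', -, hne, h0⟩ := eqv_left hu w
  refine Eqv.trans h2 hw' ?_
  rw [h] at h0
  have hw0 := hne hw
  obtain ⟨B, e1, e2⟩ : ∃ B : Matrix.SpecialLinearGroup (Fin 3) F,
      (B : Matrix (Fin 3) (Fin 3) F)ᵀ *ᵥ Pi.single 0 1 = Pi.single 0 1 ∧
      (B : Matrix (Fin 3) (Fin 3) F).adjugate *ᵥ w' = Pi.single 1 1 := by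
    by_cases h1 : w' 1 = 0
    · have h3 : w' 2 ≠ 0 := fun e => hw0 (by funext i; fin_cases i <;> assumption)
      refine ⟨⟨!![1, 0, 0; 0, 0, (w' 2)⁻¹; 0, w' 2, 0], ?_⟩, ?_, ?_⟩
      · simp [Matrix.det_fin_three, h3]
        linear_combination -h2
      · funext i; fin_cases i <;> simp
      · show (!![1, 0, 0; 0, 0, (w' 2)⁻¹; 0, w' 2, 0] : Matrix (Fin 3) (Fin 3) F).adjugate *ᵥ w' = _
        rw [Matrix.adjugate_fin_three]
        funext i; fin_cases i <;>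
          simp [Matrix.mulVec, dotProduct, Fin.sum_univ_three, h0, h1, h3]
        linear_combination -h2
    · refine ⟨⟨!![1, 0, 0; 0, w' 1, 0; 0, w' 2, (w' 1)⁻¹], ?_⟩, ?_, ?_⟩
      · simp [Matrix.det_fin_three, h1]
      · funext i; fin_cases i <;> simp
      · show (!![1, 0, 0; 0, w' 1, 0; 0, w' 2, (w' 1)⁻¹] : Matrix (Fin 3) (Fin 3) F).adjugate *ᵥ w' = _
        rw [Matrix.adjugate_fin_three]
        funext i; fin_cases i <;>
          simp [Matrix.mulVec, dotProduct, Fin.sum_univ_three, h0, h1]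
        ring
  have e := eqv_sl B (Pi.single 0 1) w'
  rwa [e1, e2] at e

/-- Base functional with invariant `s`. -/
def base (s : F) : (Fin 3 → F) × (Fin 3 → F) := (Pi.single 0 1, Pi.single 0 s)

theorem eqv_base_zero : Eqv (F := F) (0, 0) (base 0) := by
  refine eqv_pair (c := !![1, 0; 1, 1]) (c' := !![1, 0; -1, 1]) ?_ fun M W hM => ?_
  · ext i j; fin_cases i <;> fin_cases j <;> simp [Matrix.mul_apply, Fin.sum_univ_two]
  · simp [base, Matrix.mul_apply, Fin.sum_univ_two, Matrix.vecMul, dotProduct]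
    linear_combination -(M 0 1) * h2

theorem eqv_base_add (s z : F) : Eqv (base s) (base (s + (z ^ 2 + z))) := by
  refine eqv_pair (c := !![1, z; 0, 1]) (c' := !![1, -z; 0, 1]) ?_ fun M W hM => ?_
  · ext i j; fin_cases i <;> fin_cases j <;> simp [Matrix.mul_apply, Fin.sum_univ_two]
  · simp [base, Matrix.mul_apply, Fin.sum_univ_two, Matrix.vecMul, dotProduct]
    linear_combination (-z) * hM - z ^ 2 * M 1 0 * h2

theorem eqv_swap : Eqv (F := F) (0, Pi.single 0 1) (base 0) := by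
  refine eqv_pair (c := !![0, 1; 1, 0]) (c' := !![0, 1; 1, 0]) ?_ fun M W hM => ?_
  · ext i j; fin_cases i <;> fin_cases j <;> simp [Matrix.mul_apply, Fin.sum_univ_two]
  · simp [base, Matrix.mul_apply, Fin.sum_univ_two, Matrix.vecMul, dotProduct]
    linear_combination -hM

theorem eqv_mixed (k : F) :
    Eqv (Pi.single 1 1, Pi.single 2 1) ((fun _ => 1 + k), (fun _ => k)) := by
  refine eqv_pair (c := !![1, 1; 1 + k, k]) (c' := !![k, 1; 1 + k, 1]) ?_ fun M W hM => ?_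
  · ext i j; fin_cases i <;> fin_cases j <;> simp [Matrix.mul_apply, Fin.sum_univ_two] <;>
      first
      | linear_combination k * h2
      | linear_combination h2
      | linear_combination (k + k ^ 2) * h2
      | ring1
  · simp [Matrix.mul_apply, Fin.sum_univ_two, Matrix.vecMul, dotProduct]
    linear_combination (1 + k) * (-hM) + (k * M 0 0 + W 1 1 * (k + 1) + W 0 1) * h2

variable [Finite F]

/-- `G₂(q)` is two-covered for even `q ≥ 4`. -/
theorem covered_g2 (hk : ∃ k : F, k ≠ 0 ∧ k ≠ 1) : Covered (Cfsg.Lie.G2 F) := by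
  classical
  obtain ⟨s₀, hs₀⟩ : ∃ a : F, ∀ y : F, a ≠ y ^ 2 + y := by
    by_contra h
    push Not at h
    have hs : Function.Surjective fun y : F => y ^ 2 + y := fun a => (h a).imp fun _ => Eq.symm
    exact zero_ne_one (α := F) ((Finite.injective_iff_surjective.2 hs) (by
      show (0 : F) ^ 2 + 0 = 1 ^ 2 + 1
      linear_combination -h2))
  refine ⟨fnStab h2 (0, 0), fnStab h2 (base s₀), ?_, ?_, fun g => ?_⟩
  · intro htop
    obtain ⟨t, ht⟩ := eqv_base_zero h2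
    have h := (htop ▸ Subgroup.mem_top t : t ∈ fnStab h2 (0, 0)) (pk 0 (Pi.single 0 1) 0 0) (by simp [pk])
    rw [ht _ (by simp [pk]), fn_pk, fn_pk] at h
    simp [base, dot3] at h
  · intro htop
    let A : Matrix.SpecialLinearGroup (Fin 3) F :=
      ⟨Matrix.transvection 0 1 1, Matrix.det_transvection_of_ne _ _ (by decide) 1⟩
    obtain ⟨t, ht⟩ := eqv_sl A (base s₀).1 (base s₀).2
    have h := (htop ▸ Subgroup.mem_top t : t ∈ fnStab h2 (base s₀)) (pk 0 (Pi.single 1 1) 0 0) (by simp [pk])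
    rw [show base s₀ = ((base s₀).1, (base s₀).2) from rfl, ht _ (by simp [pk]), fn_pk, fn_pk] at h
    simp [A, base, dot3, Matrix.transvection, Matrix.add_mulVec] at h
  obtain ⟨⟨u, w⟩, hg⟩ := exists_mem_fnStab h2 g
  suffices h : Eqv (0, 0) (u, w) ∨ Eqv (base s₀) (u, w) by
    rcases h with h | h
    · obtain ⟨t, ht⟩ := exists_conj_fnStab h2 h hg
      exact ⟨t, Or.inl ht⟩
    · obtain ⟨t, ht⟩ := exists_conj_fnStab h2 h hg
      exact ⟨t, Or.inr ht⟩
  have hne : ∀ {u w : Fin 3 → F}, dot3 u w ≠ 0 → Eqv (0, 0) (u, w) ∨ Eqv (base s₀) (u, w) := by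
    intro u w hs
    have hu := (eqv_dot_ne h2 hs).symm h2
    set s := dot3 u w
    by_cases hy : ∃ y : F, s = y ^ 2 + y
    · obtain ⟨y, hy⟩ := hy
      refine Or.inl (Eqv.trans h2 (eqv_base_zero h2) (Eqv.trans h2 (eqv_base_add h2 0 y) ?_))
      rwa [zero_add, ← hy]
    push Not at hy
    let p : F →+ F :=
      { toFun := fun t => t ^ 2 + t
        map_zero' := by ring
        map_add' := fun a b => by linear_combination (a * b) * h2 }
    have hker : Nat.card p.ker = 2 := by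
      have e : (p.ker : Set F) = {0, 1} := by
        ext t
        simp only [SetLike.mem_coe, AddMonoidHom.mem_ker, Set.mem_insert_iff, Set.mem_singleton_iff]
        refine ⟨fun (ht : t ^ 2 + t = 0) => ?_, ?_⟩
        · have : t * (t - 1) = 0 := by linear_combination ht - t * h2
          exact (mul_eq_zero.1 this).imp_right sub_eq_zero.1
        · rintro (rfl | rfl)
          · show (0 : F) ^ 2 + 0 = 0; ring
          · show (1 : F) ^ 2 + 1 = 0; linear_combination h2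
      show Nat.card (p.ker : Set F) = 2
      rw [e, Nat.card_coe_set_eq, Set.ncard_pair zero_ne_one]
    have hidx : p.range.index = 2 := by
      have h1 := p.range.card_mul_index
      have h2' := p.ker.card_mul_index
      rw [AddSubgroup.index_ker, hker, ← h1, mul_comm 2] at h2'
      exact (Nat.eq_of_mul_eq_mul_left Nat.card_pos h2').symm
    have hz : s₀ + s ∈ p.range := by
      rw [AddSubgroup.add_mem_iff_of_index_two hidx]
      exact ⟨fun ⟨y, hy'⟩ => absurd hy'.symm (hs₀ y), fun ⟨y, hy'⟩ => absurd hy'.symm (hy y)⟩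
    obtain ⟨z, hz⟩ := hz
    refine Or.inr (Eqv.trans h2 (eqv_base_add h2 s₀ z) ?_)
    rwa [show s₀ + (z ^ 2 + z) = s by
      have hz' : z ^ 2 + z = s₀ + s := hz
      linear_combination hz' + s₀ * h2]
  by_cases hs : dot3 u w = 0
  swap
  · exact hne hs
  rcases eq_or_ne w 0 with rfl | hw
  · rcases eq_or_ne u 0 with rfl | hu
    · exact Or.inl ⟨1, fun x _ => by rw [gApp_one]⟩
    obtain ⟨w', hw', h0, -, -⟩ := eqv_left hu (0 : Fin 3 → F)
    rw [h0 rfl] at hw'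
    refine Or.inl (Eqv.trans h2 (eqv_base_zero h2) ?_)
    simpa [base] using hw'.symm h2
  rcases eq_or_ne u 0 with rfl | hu
  · obtain ⟨x, hx⟩ := exists_sl_apply (F := F) (n := 3) (by norm_num) hw
    have e := eqv_sl x (0 : Fin 3 → F) w
    have e2 : (x : Matrix (Fin 3) (Fin 3) F).adjugate *ᵥ w = Pi.single 0 1 := by
      rw [← hx, Matrix.mulVec_mulVec, Matrix.adjugate_mul, Matrix.SpecialLinearGroup.det_coe, one_smul,
        Matrix.one_mulVec]
    rw [Matrix.mulVec_zero, e2] at e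
    exact Or.inl (Eqv.trans h2 (eqv_base_zero h2)
      (Eqv.trans h2 ((eqv_swap h2).symm h2) (e.symm h2)))
  obtain ⟨k, hk0, hk1⟩ := hk
  have hb : Eqv (u, w) ((fun _ => 1 + k), (fun _ => k)) :=
    Eqv.trans h2 (eqv_dot_zero h2 hu hw hs) (Eqv.trans h2
      ((eqv_dot_zero h2 (u := Pi.single 1 1) (w := Pi.single 2 1) (by simp) (by simp)
        (by simp [dot3])).symm h2) (eqv_mixed h2 k))
  have hd : dot3 (fun _ : Fin 3 => 1 + k) (fun _ => k) ≠ 0 := by
    intro e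
    have : (1 + k) * k = 0 := by
      simp only [dot3] at e
      linear_combination e - (1 + k) * k * h2
    rcases mul_eq_zero.1 this with e' | e'
    · exact hk1 (by linear_combination e' - h2)
    · exact hk0 e'
  exact (hne hd).imp (fun h => Eqv.trans h2 h (hb.symm h2)) fun h => Eqv.trans h2 h (hb.symm h2)

end CfsgLib.TwoCover
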