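import Cfsg.Agent.Lib.TwoCover.Common
import Cfsg.Prelude.Def_Classical

/-!
Two-coverings of `PSL_n(q)` for `n = 2, 3, 4`: the stabiliser of a point, and the centralizer of an
extension field of degree `2`, `3`, `2`.
-/

set_option autoImplicit false

namespace CfsgLib.TwoCover

open Polynomial Matrix
open scoped MatrixGroups

variable {F : Type*} [Field F]

theorem exists_linearEquiv_apply {V : Type*} [AddCommGroup V] [Module F V] [FiniteDimensional F V]
    {u v : V} (hu : u ≠ 0) (hv : v ≠ 0) : ∃ f : V ≃ₗ[F] V, f u = v := by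
  classical
  have hu' : LinearIndepOn F id ({u} : Set V) := (linearIndepOn_singleton_iff F).2 hu
  have hv' : LinearIndepOn F id ({v} : Set V) := (linearIndepOn_singleton_iff F).2 hv
  let bu := Module.Basis.extend hu'
  let bv := Module.Basis.extend hv'
  let iu : hu'.extend (Set.subset_univ _) := ⟨u, Module.Basis.subset_extend _ rfl⟩
  let iv : hv'.extend (Set.subset_univ _) := ⟨v, Module.Basis.subset_extend _ rfl⟩
  let e0 := bu.indexEquiv bv
  refine ⟨bu.equiv bv (e0.trans (Equiv.swap (e0 iu) iv)), ?_⟩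
  have h := Module.Basis.equiv_apply (b := bu) (i := iu) (b' := bv) (e := e0.trans (Equiv.swap (e0 iu) iv))
  rw [Equiv.trans_apply, Equiv.swap_apply_left, Module.Basis.extend_apply_self,
    Module.Basis.extend_apply_self] at h
  exact h

/-- A special linear conjugator from a linear one and a correction of the determinant. -/
theorem exists_sl_conj {n : ℕ} {P C : (Fin n → F) ≃ₗ[F] (Fin n → F)}
    (h : LinearMap.det (P : (Fin n → F) →ₗ[F] Fin n → F) *
      LinearMap.det (C : (Fin n → F) →ₗ[F] Fin n → F) = 1) :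
    ∃ x : SL(n, F), ∀ w, (x : Matrix (Fin n) (Fin n) F) *ᵥ w = P (C w) :=
  ⟨⟨LinearMap.toMatrix' ((P : (Fin n → F) →ₗ[F] Fin n → F) ∘ₗ (C : (Fin n → F) →ₗ[F] Fin n → F)),
    by rw [LinearMap.det_toMatrix', LinearMap.det_comp, h]⟩,
    fun w => by rw [LinearMap.toMatrix'_mulVec]; rfl⟩

section

variable {n : ℕ}

/-- The elements fixing the first coordinate line. -/
def pointStab (F : Type*) [Field F] (n : ℕ) [NeZero n] : Subgroup SL(n, F) where
  carrier := {A | ∃ c : F, c ≠ 0 ∧ (A : Matrix (Fin n) (Fin n) F) *ᵥ Pi.single 0 1 = c • Pi.single 0 1}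
  one_mem' := ⟨1, one_ne_zero, by rw [Matrix.SpecialLinearGroup.coe_one, Matrix.one_mulVec, one_smul]⟩
  mul_mem' := by
    rintro A B ⟨a, ha, hA⟩ ⟨b, hb, hB⟩
    refine ⟨a * b, mul_ne_zero ha hb, ?_⟩
    rw [Matrix.SpecialLinearGroup.coe_mul, ← Matrix.mulVec_mulVec, hB, Matrix.mulVec_smul, hA,
      smul_smul, mul_comm]
  inv_mem' := by
    rintro A ⟨a, ha, hA⟩
    refine ⟨a⁻¹, inv_ne_zero ha, ?_⟩
    have h := congrArg (((A⁻¹ : SL(n, F)) : Matrix (Fin n) (Fin n) F) *ᵥ ·) hA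
    simp only [Matrix.mulVec_mulVec, Matrix.mulVec_smul, ← Matrix.SpecialLinearGroup.coe_mul,
      inv_mul_cancel, Matrix.SpecialLinearGroup.coe_one, Matrix.one_mulVec] at h
    conv_rhs => rw [h, smul_smul, inv_mul_cancel₀ ha, one_smul]

theorem exists_sl_apply [NeZero n] (hn : 2 ≤ n) {v : Fin n → F} (hv : v ≠ 0) :
    ∃ x : SL(n, F), (x : Matrix (Fin n) (Fin n) F) *ᵥ Pi.single 0 1 = v := by
  classical
  obtain ⟨P, hP⟩ := exists_linearEquiv_apply (F := F) (u := (Pi.single 0 1 : Fin n → F)) (by simp) hv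
  set d := LinearMap.det (P : (Fin n → F) →ₗ[F] Fin n → F) with hd
  have hd0 : d ≠ 0 := (LinearEquiv.isUnit_det' P).ne_zero
  let i1 : Fin n := ⟨1, hn⟩
  let w : Fin n → Fˣ := fun i => if i = i1 then (Units.mk0 d hd0)⁻¹ else 1
  let C : (Fin n → F) ≃ₗ[F] (Fin n → F) := LinearEquiv.piCongrRight fun i => LinearEquiv.smulOfUnit (w i)
  have hC : LinearMap.det (C : (Fin n → F) →ₗ[F] Fin n → F) = d⁻¹ := by
    have e : (C : (Fin n → F) →ₗ[F] Fin n → F) = Matrix.toLin' (Matrix.diagonal fun i => (w i : F)) := by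
      refine LinearMap.ext fun z => funext fun i => ?_
      rw [Matrix.toLin'_apply, Matrix.mulVec_diagonal]
      rfl
    rw [e, LinearMap.det_toLin', Matrix.det_diagonal, Finset.prod_eq_single i1]
    · simp [w]
    · intro i _ hi; simp [w, hi]
    · simp
  obtain ⟨x, hx⟩ := exists_sl_conj (P := P) (C := C) (by rw [hC, ← hd, mul_inv_cancel₀ hd0])
  refine ⟨x, ?_⟩
  rw [hx, show C (Pi.single 0 1) = Pi.single 0 1 from ?_, hP]
  funext i
  show w i • (Pi.single 0 1 : Fin n → F) i = _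
  rcases eq_or_ne i 0 with rfl | hi
  · have : (0 : Fin n) ≠ i1 := fun e => by simpa [i1] using congrArg Fin.val e
    simp [w, this]
  · simp [Pi.single_eq_of_ne hi]

theorem pointStab_not_normal [NeZero n] (hn : 2 ≤ n) :
    ∃ a ∈ pointStab F n, ∃ x : SL(n, F), x * a * x⁻¹ ∉ pointStab F n := by
  let i1 : Fin n := ⟨1, hn⟩
  have h01 : (0 : Fin n) ≠ i1 := fun e => by simpa [i1] using congrArg Fin.val e
  let a : SL(n, F) := ⟨Matrix.transvection 0 i1 (1 : F), Matrix.det_transvection_of_ne _ _ h01 1⟩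
  refine ⟨a, ⟨1, one_ne_zero, ?_⟩, ?_⟩
  · show Matrix.transvection 0 i1 (1 : F) *ᵥ Pi.single 0 1 = _
    rw [Matrix.transvection, Matrix.add_mulVec, Matrix.one_mulVec, one_smul, add_eq_left]
    funext j
    simp [h01.symm]
  obtain ⟨x, hx⟩ := exists_sl_apply (F := F) hn (v := Pi.single i1 1) (by simp)
  refine ⟨x⁻¹, fun hm => ?_⟩
  obtain ⟨c, -, hc⟩ := hm
  rw [inv_inv, Matrix.SpecialLinearGroup.coe_mul, Matrix.SpecialLinearGroup.coe_mul,
    ← Matrix.mulVec_mulVec, ← Matrix.mulVec_mulVec, hx] at hc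
  have h := congrArg ((x : Matrix (Fin n) (Fin n) F) *ᵥ ·) hc
  simp only [Matrix.mulVec_mulVec, Matrix.mulVec_smul, ← Matrix.SpecialLinearGroup.coe_mul,
    mul_inv_cancel_left, Matrix.SpecialLinearGroup.coe_one, Matrix.one_mulVec, hx] at h
  have h0 := congrFun h 0
  simp [a, Matrix.transvection, Matrix.add_mulVec, Pi.single_eq_of_ne h01, h01, h01.symm] at h0

end

section Ext

variable [Finite F] {n : ℕ} {E : Type*} [Field E] [Finite E] [Algebra F E]

/-- The special linear maps commuting with an action of `E`. -/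
def fieldCent (φ : E →ₐ[F] Module.End F (Fin n → F)) : Subgroup SL(n, F) where
  carrier := {A | ∀ e w, φ e ((A : Matrix (Fin n) (Fin n) F) *ᵥ w) =
    (A : Matrix (Fin n) (Fin n) F) *ᵥ φ e w}
  one_mem' := fun e w => by simp
  mul_mem' := fun {A B} hA hB e w => by
    rw [Matrix.SpecialLinearGroup.coe_mul, ← Matrix.mulVec_mulVec, hA, hB, Matrix.mulVec_mulVec]
  inv_mem' := fun {A} hA e w => by
    have h := congrArg (((A⁻¹ : SL(n, F)) : Matrix (Fin n) (Fin n) F) *ᵥ ·)
      (hA e (((A⁻¹ : SL(n, F)) : Matrix (Fin n) (Fin n) F) *ᵥ w))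
    simp only [Matrix.mulVec_mulVec, ← Matrix.SpecialLinearGroup.coe_mul, mul_inv_cancel,
      inv_mul_cancel, Matrix.SpecialLinearGroup.coe_one, Matrix.one_mulVec] at h
    exact h.symm

/-- `Fⁿ` as a space over `E`. -/
def Sp' (_φ : E →ₐ[F] Module.End F (Fin n → F)) : Type _ := Fin n → F

instance (φ : E →ₐ[F] Module.End F (Fin n → F)) : AddCommGroup (Sp' φ) :=
  inferInstanceAs (AddCommGroup (Fin n → F))

instance (φ : E →ₐ[F] Module.End F (Fin n → F)) : Module F (Sp' φ) :=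
  inferInstanceAs (Module F (Fin n → F))

noncomputable instance (φ : E →ₐ[F] Module.End F (Fin n → F)) : Module E (Sp' φ) :=
  Module.compHom (Fin n → F) φ.toRingHom

instance (φ : E →ₐ[F] Module.End F (Fin n → F)) : IsScalarTower F E (Sp' φ) :=
  ⟨fun c e w => by
    show φ (c • e) w = c • (φ e w : Fin n → F)
    rw [map_smul]; rfl⟩

instance (φ : E →ₐ[F] Module.End F (Fin n → F)) : Module.Finite F (Sp' φ) :=
  inferInstanceAs (Module.Finite F (Fin n → F))

/-- The view as a space over `E`. -/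
def toSp (φ : E →ₐ[F] Module.End F (Fin n → F)) : (Fin n → F) ≃ₗ[F] Sp' φ := LinearEquiv.refl F _

/-- Any two actions of `E` are conjugate in `SL_n`. -/
theorem exists_conj_field (hn : 0 < n) (φ ψ : E →ₐ[F] Module.End F (Fin n → F)) :
    ∃ x : SL(n, F), ∀ e w, (x : Matrix (Fin n) (Fin n) F) *ᵥ φ e w =
      ψ e ((x : Matrix (Fin n) (Fin n) F) *ᵥ w) := by
  classical
  have : Module.Finite E (Sp' φ) := Module.Finite.of_restrictScalars_finite F E _
  have : Module.Finite E (Sp' ψ) := Module.Finite.of_restrictScalars_finite F E _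
  have hk : ∀ χ : E →ₐ[F] Module.End F (Fin n → F),
      Module.finrank F E * Module.finrank E (Sp' χ) = n := fun χ => by
    rw [Module.finrank_mul_finrank, ← (toSp χ).finrank_eq, Module.finrank_fin_fun]
  have hEF : 0 < Module.finrank F E := Module.finrank_pos
  obtain ⟨L⟩ : Nonempty (Sp' φ ≃ₗ[E] Sp' ψ) := FiniteDimensional.nonempty_linearEquiv_of_finrank_eq
    (Nat.eq_of_mul_eq_mul_left hEF ((hk φ).trans (hk ψ).symm))
  let P : (Fin n → F) ≃ₗ[F] (Fin n → F) :=
    (toSp φ).trans ((L.restrictScalars F).trans (toSp ψ).symm)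
  set d := LinearMap.det (P : (Fin n → F) →ₗ[F] Fin n → F) with hd
  have hd0 : d ≠ 0 := (LinearEquiv.isUnit_det' P).ne_zero
  obtain ⟨ε, hε⟩ := FiniteField.norm_surjective F E d⁻¹
  have hε0 : ε ≠ 0 := fun e => by rw [e, Algebra.norm_zero] at hε; exact inv_ne_zero hd0 hε.symm
  have hpos : 0 < Module.finrank E (Sp' φ) := by
    by_contra h
    have := hk φ
    rw [Nat.eq_zero_of_not_pos h, mul_zero] at this
    omega
  let b := Module.finBasis E (Sp' φ)
  let w : Fin (Module.finrank E (Sp' φ)) → Eˣ := fun i =>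
    if i = ⟨0, hpos⟩ then Units.mk0 ε hε0 else 1
  let M : Sp' φ ≃ₗ[E] Sp' φ := b.equiv (b.unitsSMul w) (Equiv.refl _)
  have hM : LinearMap.det (M : Sp' φ →ₗ[E] Sp' φ) = ε := by
    rw [← LinearMap.det_toMatrix b, show LinearMap.toMatrix b b (M : Sp' φ →ₗ[E] Sp' φ) =
      Matrix.diagonal fun i => (w i : E) from ?_, Matrix.det_diagonal, Finset.prod_eq_single ⟨0, hpos⟩]
    · simp [w]
    · intro i _ hi; simp [w, hi]
    · simp
    · ext i j
      rw [LinearMap.toMatrix_apply, LinearEquiv.coe_coe, Module.Basis.equiv_apply, Equiv.refl_apply,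
        Module.Basis.unitsSMul_apply, Units.smul_def, map_smul, Module.Basis.repr_self]
      rcases eq_or_ne i j with rfl | hij
      · simp
      · simp [hij, Finsupp.single_eq_of_ne hij]
  let C : (Fin n → F) ≃ₗ[F] (Fin n → F) := (toSp φ).trans ((M.restrictScalars F).trans (toSp φ).symm)
  have hC : LinearMap.det (C : (Fin n → F) →ₗ[F] Fin n → F) = d⁻¹ := by
    rw [← hε, ← hM, ← LinearMap.det_restrictScalars,
      ← LinearMap.det_conj ((M : Sp' φ →ₗ[E] Sp' φ).restrictScalars F) (toSp φ).symm]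
    rfl
  obtain ⟨x, hx⟩ := exists_sl_conj (P := P) (C := C) (by rw [hC, ← hd, mul_inv_cancel₀ hd0])
  refine ⟨x, fun e w => ?_⟩
  rw [hx, hx]
  show (toSp ψ).symm (L (M (e • toSp φ w))) = ψ e ((toSp ψ).symm (L (M (toSp φ w))))
  rw [map_smul, map_smul]
  rfl

theorem exists_field_action {d : ℕ} (hd : Module.finrank F E = d) (hdn : d ∣ n) :
    Nonempty (E →ₐ[F] Module.End F (Fin n → F)) := by
  obtain ⟨k, rfl⟩ := hdn
  obtain ⟨L⟩ : Nonempty ((Fin k → E) ≃ₗ[F] (Fin (d * k) → F)) :=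
    FiniteDimensional.nonempty_linearEquiv_of_finrank_eq (by
      rw [Module.finrank_pi_fintype, Module.finrank_fin_fun]
      simp [hd, mul_comm])
  exact ⟨(L.conjAlgEquiv F).toAlgHom.comp (Algebra.lsmul F F (Fin k → E))⟩

theorem center_le_fieldCent (φ : E →ₐ[F] Module.End F (Fin n → F)) :
    Subgroup.center SL(n, F) ≤ fieldCent φ := fun A hA e w => by
  obtain ⟨r, -, hr⟩ := Matrix.SpecialLinearGroup.mem_center_iff.1 hA
  rw [← hr, ← Matrix.smul_one_eq_diagonal r |>.trans (Matrix.scalar_apply r).symm, Matrix.smul_mulVec,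
    Matrix.one_mulVec, Matrix.smul_mulVec, Matrix.one_mulVec, map_smul]

theorem fieldCent_ne_top [NeZero n] (hn : 2 ≤ n) (φ : E →ₐ[F] Module.End F (Fin n → F))
    (hd : 2 ≤ Module.finrank F E) : fieldCent φ ≠ ⊤ := by
  classical
  intro htop
  obtain ⟨θ, hθ⟩ : ∃ θ : E, θ ∉ (algebraMap F E).range := by
    by_contra h
    push Not at h
    have : Module.finrank F E ≤ 1 := finrank_le_one (1 : E) fun z => by
      obtain ⟨c, rfl⟩ := h z
      exact ⟨c, by rw [Algebra.algebraMap_eq_smul_one]⟩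
    omega
  -- everything commutes with `φ θ`
  set M := LinearMap.toMatrix' (φ θ) with hM
  have hcomm : ∀ A : SL(n, F), M * (A : Matrix (Fin n) (Fin n) F) =
      (A : Matrix (Fin n) (Fin n) F) * M := fun A => by
    refine Matrix.ext_of_mulVec_single fun j => ?_
    have h := (htop ▸ Subgroup.mem_top A : A ∈ fieldCent φ) θ (Pi.single j 1)
    rw [← Matrix.mulVec_mulVec, ← Matrix.mulVec_mulVec, hM, LinearMap.toMatrix'_mulVec,
      LinearMap.toMatrix'_mulVec]
    exact h
  have hsc : M ∈ Set.range (Matrix.scalar (Fin n)) := by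
    refine Matrix.mem_range_scalar_of_commute_transvectionStruct fun t => ?_
    have h := hcomm ⟨t.toMatrix, t.det⟩
    exact h.symm
  obtain ⟨c, hc⟩ := hsc
  refine hθ ⟨c, ?_⟩
  have hinj : Function.Injective φ := φ.toRingHom.injective
  refine hinj (LinearMap.toMatrix'.injective ?_)
  rw [AlgHom.commutes, ← hM, ← hc]
  ext i j
  rw [LinearMap.toMatrix'_apply]
  rcases eq_or_ne i j with rfl | hij
  · simp
  · simp [hij]

end Ext

/-- A polynomial without roots of degree at most four has no linear and, for degree three, only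
cubic irreducible factors. -/
theorem degree_dvd_of_no_root {p r : F[X]} (hp : p ≠ 0) (hroot : ∀ c, ¬ p.IsRoot c)
    (hr : Irreducible r) (hdvd : r ∣ p) :
    2 ≤ r.natDegree ∧ r.natDegree ≤ p.natDegree ∧
      (r.natDegree = p.natDegree ∨ 2 ≤ p.natDegree - r.natDegree) := by
  obtain ⟨s, hs⟩ := hdvd
  have hs0 : s ≠ 0 := fun e => hp (by rw [hs, e, mul_zero])
  have hdeg : p.natDegree = r.natDegree + s.natDegree := by
    rw [hs, natDegree_mul hr.ne_zero hs0]
  have hr1 : 0 < r.natDegree := Irreducible.natDegree_pos hr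
  have h1 : r.natDegree ≠ 1 := fun e => by
    obtain ⟨c, hc⟩ := exists_root_of_degree_eq_one (by rw [degree_eq_natDegree hr.ne_zero, e]; rfl)
    exact hroot c (by rw [hs]; exact root_mul_right_of_isRoot s hc)
  have h2 : s.natDegree ≠ 1 := fun e => by
    obtain ⟨c, hc⟩ := exists_root_of_degree_eq_one (by rw [degree_eq_natDegree hs0, e]; rfl)
    exact hroot c (by rw [hs]; exact root_mul_left_of_isRoot r hc)
  omega

/-- `PSL_n(F)` is two-covered for `(n, d) = (2, 2), (3, 3), (4, 2)`. -/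
theorem covered_psl [Fintype F] {n d : ℕ} (hnd : (n = 2 ∧ d = 2) ∨ (n = 3 ∧ d = 3) ∨ (n = 4 ∧ d = 2)) :
    Covered (Matrix.ProjectiveSpecialLinearGroup (Fin n) F) := by
  classical
  have hn : 2 ≤ n := by omega
  have hd2 : 2 ≤ d := by omega
  have : NeZero n := ⟨by omega⟩
  have : NeZero d := ⟨by omega⟩
  obtain ⟨p, hp⟩ := CharP.exists F
  have := Fact.mk (CharP.char_is_prime F p)
  let E := FiniteField.Extension F p d
  have hE : Module.finrank F E = d := FiniteField.finrank_extension F p d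
  obtain ⟨φ⟩ := exists_field_action (n := n) (E := E) hE
    (by rcases hnd with ⟨rfl, rfl⟩ | ⟨rfl, rfl⟩ | ⟨rfl, rfl⟩ <;> norm_num)
  have hK : (fieldCent φ).map (QuotientGroup.mk' (Subgroup.center SL(n, F))) ≠ ⊤ := fun h => by
    refine fieldCent_ne_top hn φ (hE.symm ▸ hd2) ?_
    have := congrArg (Subgroup.comap (QuotientGroup.mk' (Subgroup.center SL(n, F)))) h
    rwa [Subgroup.comap_map_eq, QuotientGroup.ker_mk', Subgroup.comap_top,
      sup_eq_left.2 (center_le_fieldCent φ)] at this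
  obtain ⟨a, ha, x, hx⟩ := pointStab_not_normal (F := F) hn
  refine ⟨_, _, map_ne_top (Z := Subgroup.center SL(n, F)) le_rfl ha hx, hK, fun g => ?_⟩
  induction g using QuotientGroup.induction_on with | H g => ?_
  suffices h : ∃ x : SL(n, F), x * g * x⁻¹ ∈ pointStab F n ∨ x * g * x⁻¹ ∈ fieldCent φ by
    obtain ⟨x, hx⟩ := h
    exact ⟨(x : SL(n, F) ⧸ Subgroup.center SL(n, F)),
      hx.imp (fun h => ⟨_, h, rfl⟩) fun h => ⟨_, h, rfl⟩⟩
  set T : Module.End F (Fin n → F) := Matrix.toLin' (g : Matrix (Fin n) (Fin n) F) with hT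
  by_cases hroot : ∃ c, T.charpoly.IsRoot c
  · obtain ⟨c, hc⟩ := hroot
    obtain ⟨v, hv, hv0⟩ := ((Module.End.hasEigenvalue_iff_isRoot_charpoly T c).2 hc).exists_hasEigenvector
    obtain ⟨x, hx⟩ := exists_sl_apply (F := F) hn hv0
    rw [Module.End.mem_eigenspace_iff, hT, Matrix.toLin'_apply] at hv
    have hc0 : c ≠ 0 := fun e => hv0 (by
      rw [e, zero_smul] at hv
      have := congrArg (((g⁻¹ : SL(n, F)) : Matrix (Fin n) (Fin n) F) *ᵥ ·) hv
      rwa [Matrix.mulVec_mulVec, ← Matrix.SpecialLinearGroup.coe_mul, inv_mul_cancel,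
        Matrix.SpecialLinearGroup.coe_one, Matrix.one_mulVec, Matrix.mulVec_zero] at this)
    refine ⟨x⁻¹, Or.inl ⟨c, hc0, ?_⟩⟩
    rw [inv_inv, Matrix.SpecialLinearGroup.coe_mul, Matrix.SpecialLinearGroup.coe_mul,
      ← Matrix.mulVec_mulVec, ← Matrix.mulVec_mulVec, hx, hv, Matrix.mulVec_smul]
    congr 1
    rw [← hx, Matrix.mulVec_mulVec, ← Matrix.SpecialLinearGroup.coe_mul, inv_mul_cancel,
      Matrix.SpecialLinearGroup.coe_one, Matrix.one_mulVec]
  push Not at hroot
  have hdeg : T.charpoly.natDegree = n := by rw [LinearMap.charpoly_natDegree, Module.finrank_fin_fun]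
  obtain ⟨ψ, hψ⟩ := exists_algHom_adjoin T E fun r hr _ hdvd => by
    have h := degree_dvd_of_no_root T.charpoly_monic.ne_zero hroot hr
      (hdvd.trans T.minpoly_dvd_charpoly)
    rw [hdeg] at h
    rw [hE]
    rcases hnd with ⟨rfl, rfl⟩ | ⟨rfl, rfl⟩ | ⟨rfl, rfl⟩
    · rw [show r.natDegree = 2 by omega]
    · rw [show r.natDegree = 3 by omega]
    · rcases (show r.natDegree = 2 ∨ r.natDegree = 4 by omega) with e | e <;> rw [e] <;> norm_num
  obtain ⟨x, hx⟩ := exists_conj_field (by omega) ψ φ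
  refine ⟨x, Or.inr fun e w => ?_⟩
  have hcomm : Commute T (ψ e) := by
    refine Algebra.adjoin_induction (fun y hy => ?_) (fun r => (Algebra.commutes r T).symm)
      (fun a b _ _ ha hb => ha.add_right hb) (fun a b _ _ ha hb => ha.mul_right hb) (hψ e)
    rw [Set.mem_singleton_iff.1 hy]
  have hz : ∀ z, (g : Matrix (Fin n) (Fin n) F) *ᵥ ψ e z = ψ e ((g : Matrix (Fin n) (Fin n) F) *ᵥ z) :=
    fun z => by simpa [hT] using LinearMap.congr_fun hcomm.eq z
  set u := ((x⁻¹ : SL(n, F)) : Matrix (Fin n) (Fin n) F) *ᵥ w with hu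
  have hw : w = (x : Matrix (Fin n) (Fin n) F) *ᵥ u := by
    rw [hu, Matrix.mulVec_mulVec, ← Matrix.SpecialLinearGroup.coe_mul, mul_inv_cancel,
      Matrix.SpecialLinearGroup.coe_one, Matrix.one_mulVec]
  have hxx : ∀ z, ((x * g * x⁻¹ : SL(n, F)) : Matrix (Fin n) (Fin n) F) *ᵥ
      ((x : Matrix (Fin n) (Fin n) F) *ᵥ z) = (x : Matrix (Fin n) (Fin n) F) *ᵥ
        ((g : Matrix (Fin n) (Fin n) F) *ᵥ z) := fun z => by
    rw [Matrix.mulVec_mulVec, Matrix.mulVec_mulVec, ← Matrix.SpecialLinearGroup.coe_mul,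
      ← Matrix.SpecialLinearGroup.coe_mul, inv_mul_cancel_right]
  rw [hw, ← hx, hxx, hxx, ← hx, hz]

end CfsgLib.TwoCover
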