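import Cfsg.Agent.Lib.TwoCover.SympThreeMain
import Cfsg.Agent.Lib.Classical.SympTrans
import Cfsg.Agent.Lib.Classical.WittExtension

/-!
Two-covering of `PSp₆(q)` in characteristic three: the stabiliser of a non-degenerate plane and the
normaliser of `Sp₂(q³)`.
-/

set_option autoImplicit false

namespace CfsgLib.TwoCover.Symp

open Matrix Cfsg CfsgLib.Classical.SympTrans
open LinearMap (BilinForm)

variable {F : Type*} [Field F]

local notation "V6" => (Fin 3 ⊕ Fin 3 → F)
local notation "G6" => Matrix.symplecticGroup (Fin 3) F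
local notation "ω6" => sympForm 3 F

/-- The symplectic form as a bilinear form. -/
noncomputable def bForm (F : Type*) [Field F] : BilinForm F (Fin 3 ⊕ Fin 3 → F) :=
  LinearMap.mk₂ F (sympForm 3 F) f_add_left f_smul_left f_add_right f_smul_right

theorem bForm_isAlt : (bForm F).IsAlt := fun v => f_self v

theorem bForm_nondeg : (bForm F).Nondegenerate :=
  (LinearMap.IsRefl.nondegenerate_iff_separatingLeft (B := bForm F)
    fun a b h => (bForm_isAlt (F := F)).isRefl a b h).2 eq_zero_of_f

theorem finrank_six : Module.finrank F V6 = 6 := by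
  rw [Module.finrank_pi, Fintype.card_sum, Fintype.card_fin]

/-- The linear map of an element. -/
noncomputable def sop (g : G6) : Module.End F V6 :=
  Matrix.toLin' (g : Matrix (Fin 3 ⊕ Fin 3) (Fin 3 ⊕ Fin 3) F)

theorem sop_apply (g : G6) (x : V6) : sop g x = app g x := Matrix.toLin'_apply _ _

theorem exists_of_iso {L : V6 ≃ₗ[F] V6} (h : ∀ u v, ω6 (L u) (L v) = ω6 u v) :
    ∃ x : G6, ∀ v, app x v = L v := by
  refine ⟨⟨LinearMap.toMatrix' (L : V6 →ₗ[F] V6), mem_iff_f.2 fun u v => ?_⟩,
    fun v => LinearMap.toMatrix'_mulVec _ v⟩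
  simp only [LinearMap.toMatrix'_mulVec]
  exact h u v

/-- The stabiliser of a pair of vectors' span. -/
noncomputable def spanStab (W : Submodule F (Fin 3 ⊕ Fin 3 → F)) : Subgroup G6 where
  carrier := {g | W.map (sop g) = W}
  one_mem' := by
    show W.map (sop (1 : G6)) = W
    rw [show sop (1 : G6) = LinearMap.id from LinearMap.ext fun x => by rw [sop_apply, app_one]; rfl,
      Submodule.map_id]
  mul_mem' {g h} hg hh := by
    show W.map (sop (g * h)) = W
    rw [show sop (g * h) = (sop g).comp (sop h) from LinearMap.ext fun x => by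
      rw [LinearMap.comp_apply, sop_apply, sop_apply, sop_apply, app_mul], Submodule.map_comp,
      show W.map (sop h) = W from hh, show W.map (sop g) = W from hg]
  inv_mem' {g} hg := by
    show W.map (sop g⁻¹) = W
    conv_lhs => rw [← (show W.map (sop g) = W from hg)]
    rw [← Submodule.map_comp, show (sop g⁻¹).comp (sop g) = LinearMap.id from LinearMap.ext fun x => by
      rw [LinearMap.comp_apply, sop_apply, sop_apply, app_inv]; rfl, Submodule.map_id]

/-- The standard pair. -/
def std (F : Type*) [Field F] (i : Fin 3) : Fin 2 → (Fin 3 ⊕ Fin 3 → F) :=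
  ![Pi.single (.inr i) 1, Pi.single (.inl i) 1]

theorem pair_indep {v w : V6} (h : ω6 v w ≠ 0) : LinearIndependent F ![v, w] := by
  have hv : v ≠ 0 := fun e => h (by rw [e, f_zero_left])
  exact (LinearIndependent.pair_iff' hv).2 fun a e => h (by rw [← e, f_smul_right, f_self, mul_zero])

theorem std_form (i : Fin 3) : ω6 (std F i 0) (std F i 1) = 1 := by
  show ω6 (Pi.single (.inr i) 1 : V6) (Pi.single (.inl i) 1) = 1
  rw [f_inl]; simp

theorem exists_move_plane {v w : V6} (h : ω6 v w = 1) :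
    ∃ x : G6, app x (std F 0 0) = v ∧ app x (std F 0 1) = w := by
  classical
  have hs := pair_indep (F := F) (v := std F 0 0) (w := std F 0 1) (by rw [std_form]; exact one_ne_zero)
  have ht := pair_indep (F := F) (v := v) (w := w) (by rw [h]; exact one_ne_zero)
  let f := ![std F 0 0, std F 0 1]
  let f' := ![v, w]
  let bX : Module.Basis (Fin 2) F (Submodule.span F (Set.range f)) := Module.Basis.span hs
  let bY : Module.Basis (Fin 2) F (Submodule.span F (Set.range f')) := Module.Basis.span ht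
  let φ := bX.equiv bY (Equiv.refl _)
  have hbX : ∀ i, (bX i : V6) = f i := fun i => congrArg Subtype.val (Module.Basis.span_apply hs i)
  have hbY : ∀ i, (bY i : V6) = f' i := fun i => congrArg Subtype.val (Module.Basis.span_apply ht i)
  have hφb : ∀ i, (φ (bX i) : V6) = f' i := fun i => by
    rw [Module.Basis.equiv_apply, Equiv.refl_apply, hbY]
  have hgram : ∀ i j, ω6 (f' i) (f' j) = ω6 (f i) (f j) := by
    intro i j
    have e1 : ω6 w v = -1 := by rw [f_swap, h]
    have e2 : ω6 (std F 0 1) (std F 0 0) = -1 := by rw [f_swap, std_form]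
    fin_cases i <;> fin_cases j <;> simp [f, f', f_self, h, e1, e2, std_form]
  have hφ : ∀ a a', bForm F (φ a : V6) (φ a' : V6) = bForm F (a : V6) (a' : V6) := by
    intro a a'
    rw [← bX.sum_repr a, ← bX.sum_repr a']
    simp only [map_sum, map_smul, LinearMap.coe_sum, Finset.sum_apply, LinearMap.smul_apply,
      Submodule.coe_sum, Submodule.coe_smul, hφb, hbX]
    refine Finset.sum_congr rfl fun i _ => congrArg _ (Finset.sum_congr rfl fun j _ => congrArg _ ?_)
    exact hgram _ _
  obtain ⟨L, hL, hLX⟩ := CfsgLib.Classical.Witt.witt_alternating (bForm F) bForm_nondeg bForm_isAlt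
    _ _ φ hφ
  obtain ⟨x, hx⟩ := exists_of_iso (L := L) hL
  refine ⟨x, ?_, ?_⟩
  · rw [hx, show std F 0 0 = ((bX 0 : Submodule.span F (Set.range f)) : V6) from (hbX 0).symm, hLX,
      hφb]
    rfl
  · rw [hx, show std F 0 1 = ((bX 1 : Submodule.span F (Set.range f)) : V6) from (hbX 1).symm, hLX,
      hφb]
    rfl

/-- The span of the standard pair. -/
abbrev stdPlane (F : Type*) [Field F] : Submodule F (Fin 3 ⊕ Fin 3 → F) :=
  Submodule.span F {std F 0 0, std F 0 1}

theorem spanStab_ne_top : spanStab (stdPlane F) ≠ ⊤ := by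
  intro htop
  obtain ⟨x, hx, -⟩ := exists_move_plane (F := F) (std_form 1)
  have h : (stdPlane F).map (sop x) = stdPlane F := (htop ▸ Subgroup.mem_top x : x ∈ spanStab _)
  have hmem : std F 1 0 ∈ stdPlane F := h ▸ ⟨std F 0 0, Submodule.subset_span (by simp), by rw [sop_apply, hx]⟩
  obtain ⟨a, b, hab⟩ := Submodule.mem_span_pair.1 hmem
  have := congrFun hab (.inr 1)
  simp [std] at this

variable [Finite F] {E : Type*} [Field E] [Finite E] [Algebra F E]

/-- The elements semilinear for a structure over `E`. -/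
noncomputable def fieldStab (Ψ : (Fin 3 ⊕ Fin 3 → F) ≃ₗ[F] E × E) : Subgroup G6 where
  carrier := {A | ∃ τ : E ≃ₐ[F] E, ∀ e p, Ψ (app A (Ψ.symm (e • p))) = τ e • Ψ (app A (Ψ.symm p))}
  one_mem' := ⟨1, fun e p => by simp [app_one]⟩
  mul_mem' {A C} := by
    rintro ⟨s, hs⟩ ⟨t, ht⟩
    refine ⟨s * t, fun e p => ?_⟩
    rw [app_mul, app_mul, ← Ψ.symm_apply_apply (app C (Ψ.symm (e • p))), ht, hs,
      Ψ.symm_apply_apply]
    rfl
  inv_mem' {A} := by
    rintro ⟨s, hs⟩
    refine ⟨s⁻¹, fun e p => ?_⟩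
    have h := hs (s⁻¹ e) (Ψ (app A⁻¹ (Ψ.symm p)))
    rw [Ψ.symm_apply_apply, app_inv', show s (s⁻¹ e) = e from s.apply_symm_apply e,
      Ψ.apply_symm_apply] at h
    have h' : app A (Ψ.symm (s⁻¹ e • Ψ (app A⁻¹ (Ψ.symm p)))) = Ψ.symm (e • p) := by
      rw [← Ψ.symm_apply_apply (app A (Ψ.symm (s⁻¹ e • Ψ (app A⁻¹ (Ψ.symm p))))), h]
    rw [← h', app_inv, Ψ.apply_symm_apply]

theorem exists_model (hE : Module.finrank F E = 3) :
    ∃ Ψ : V6 ≃ₗ[F] E × E, ∀ a b, ω6 a b = bm F E (Ψ a) (Ψ b) := by
  classical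
  have : FiniteDimensional F E := Module.Finite.of_finite
  obtain ⟨m, b, h1, h2, h3⟩ := CfsgLib.Forms.exists_symplectic_basis_nondeg (bm F E) bm_isAlt bm_nondeg.1
  have hm : m = 3 := by
    have := Module.finrank_eq_card_basis b
    rw [Fintype.card_sum, Fintype.card_fin, Module.finrank_prod, hE] at this
    omega
  subst hm
  -- the standard basis has the opposite pairing
  let c : Module.Basis (Fin 3 ⊕ Fin 3) F (E × E) := b.reindex (Equiv.sumComm _ _)
  refine ⟨c.equivFun.symm, fun x y => ?_⟩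
  have h21 : ∀ i j : Fin 3, bm F E (b (.inr i)) (b (.inl j)) = -(if i = j then 1 else 0) := fun i j => by
    rw [← LinearMap.IsAlt.neg (B := bm F E) bm_isAlt, h1]; simp [eq_comm]
  have key : ∀ k l, bForm F (Pi.single k 1) (Pi.single l 1) = bm F E (c k) (c l) := by
    intro k l
    show ω6 (Pi.single k 1) (Pi.single l 1) = _
    rcases k with k | k <;> rcases l with l | l <;>
      simp [c, Module.Basis.reindex_apply, f_inl, f_inr, h1, h2, h3, h21, Pi.single_apply, eq_comm]
  have e : bForm F = (bm F E).comp (c.equivFun.symm : V6 →ₗ[F] E × E) (c.equivFun.symm : V6 →ₗ[F] E × E) := by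
    refine LinearMap.ext_basis (Pi.basisFun F _) (Pi.basisFun F _) fun k l => ?_
    rw [Pi.basisFun_apply, Pi.basisFun_apply, key]
    show bm F E (c k) (c l) = bm F E (c.equivFun.symm _) (c.equivFun.symm _)
    rw [Module.Basis.equivFun_symm_apply, Module.Basis.equivFun_symm_apply]
    simp [Pi.single_apply]
  exact LinearMap.congr_fun₂ e x y

variable [CharP F 3]

theorem fieldStab_ne_top {Ψ : V6 ≃ₗ[F] E × E} (hΨ : ∀ a b, ω6 a b = bm F E (Ψ a) (Ψ b))
    (hE : Module.finrank F E = 3) : fieldStab Ψ ≠ ⊤ := by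
  classical
  intro htop
  have : FiniteDimensional F E := Module.Finite.of_finite
  obtain ⟨z, hz⟩ := Algebra.trace_surjective F E (1 : F)
  obtain ⟨τ, hτ⟩ : T (Ψ.symm ((0, 1) : E × E)) 1 ∈ fieldStab Ψ := htop ▸ Subgroup.mem_top _
  have ht : ∀ a : E, Ψ (app (T (Ψ.symm ((0, 1) : E × E)) 1) (Ψ.symm (a, 0))) =
      (a, algebraMap F E (Algebra.trace F E a)) := fun a => by
    rw [app_T, one_mul, map_add, map_smul, Ψ.apply_symm_apply, Ψ.apply_symm_apply, hΨ,
      Ψ.apply_symm_apply, Ψ.apply_symm_apply, bm_apply]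
    simp [Algebra.smul_def]
  have h1 : Algebra.trace F E (1 : E) = 0 := by
    rw [← map_one (algebraMap F E), Algebra.trace_algebraMap, hE, nsmul_one, Nat.cast_ofNat, three_eq]
  have h := hτ z ((1, 0) : E × E)
  rw [show z • ((1, 0) : E × E) = (z, 0) by simp, ht, ht, hz, h1, map_zero, map_one] at h
  simpa using congrArg Prod.snd h

/-- `PSp₆(q)` is two-covered in characteristic three. -/
theorem covered_psp_three : Covered (PSp 3 F) := by
  classical
  have := Fact.mk Nat.prime_three
  let E := FiniteField.Extension F 3 3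
  have hE : Module.finrank F E = 3 := FiniteField.finrank_extension F 3 3
  obtain ⟨Ψ, hΨ⟩ := exists_model (F := F) (E := E) hE
  refine covered_of_perfect le_rfl (commutator_eq_top (Or.inr (Or.inl ⟨by norm_num, two_ne⟩)))
    spanStab_ne_top (fieldStab_ne_top hΨ hE) fun g => ⟨1, one_mem _, ?_⟩
  rw [mul_one]
  have hinv : sop g * sop g⁻¹ = 1 := LinearMap.ext fun x => by
    rw [Module.End.mul_apply, sop_apply, sop_apply, app_inv']; rfl
  have hinv' : sop g⁻¹ * sop g = 1 := LinearMap.ext fun x => by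
    rw [Module.End.mul_apply, sop_apply, sop_apply, app_inv]; rfl
  rcases plane_or_field bForm_nondeg bForm_isAlt finrank_six hE hinv hinv'
    (fun a b => by rw [sop_apply, sop_apply]; exact f_app g a b) with
    ⟨v, w, hvw, ⟨a, b, hv⟩, c, d, hw⟩ | ⟨P, hP, τ, hτ⟩
  · obtain ⟨x, hx0, hx1⟩ := exists_move_plane (F := F) hvw
    refine ⟨x⁻¹, Or.inl ?_⟩
    have hle : (stdPlane F).map (sop (x⁻¹ * g * x⁻¹⁻¹)) ≤ stdPlane F := by
      rw [Submodule.map_le_iff_le_comap, Submodule.span_le]
      have hv' : app x⁻¹ v = std F 0 0 := by rw [← hx0, app_inv]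
      have hw' : app x⁻¹ w = std F 0 1 := by rw [← hx1, app_inv]
      rintro y (rfl | rfl) <;> rw [SetLike.mem_coe, Submodule.mem_comap, sop_apply, app_mul, app_mul, inv_inv]
      · rw [hx0, ← sop_apply g, hv, app_add, app_smul, app_smul, hv', hw']
        exact Submodule.mem_span_pair.2 ⟨a, b, rfl⟩
      · rw [hx1, ← sop_apply g, hw, app_add, app_smul, app_smul, hv', hw']
        exact Submodule.mem_span_pair.2 ⟨c, d, rfl⟩
    refine Submodule.eq_of_le_of_finrank_eq hle ((Submodule.equivMapOfInjective _ ?_ _).finrank_eq).symm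
    intro y z h
    rw [sop_apply, sop_apply] at h
    have := congrArg (app (x⁻¹ * g * x⁻¹⁻¹)⁻¹) h
    rwa [app_inv, app_inv] at this
  · obtain ⟨x, hx⟩ := exists_of_iso (L := P.trans Ψ.symm) fun u v => by
      rw [LinearEquiv.trans_apply, LinearEquiv.trans_apply, hΨ, Ψ.apply_symm_apply, Ψ.apply_symm_apply]
      exact (hP u v).symm
    refine ⟨x, Or.inr ⟨τ, fun e p => ?_⟩⟩
    have key : ∀ r, Ψ (app (x * g * x⁻¹) (Ψ.symm r)) = P (sop g (P.symm r)) := fun r => by
      have e1 : app x⁻¹ (Ψ.symm r) = P.symm r := by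
        have : app x (P.symm r) = Ψ.symm r := by rw [hx, LinearEquiv.trans_apply, P.apply_symm_apply]
        rw [← this, app_inv]
      rw [app_mul, app_mul, e1, hx, LinearEquiv.trans_apply, Ψ.apply_symm_apply, sop_apply]
    rw [key, key]
    exact hτ e p

end CfsgLib.TwoCover.Symp
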