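import Cfsg.Agent.Lib.TwoCover.Common
import Cfsg.Agent.Lib.Classical.Forms

/-!
Isometries of alternating forms in characteristic three: adjoints, transport along nilpotent
chains, and self-adjoint field actions.
-/

set_option autoImplicit false

namespace CfsgLib.TwoCover.Symp

open Polynomial
open LinearMap (BilinForm)

variable {F : Type*} [Field F] {V : Type*} [AddCommGroup V] [Module F V]

/-- `S'` is an adjoint of `S`. -/
def Adj (B : BilinForm F V) (S S' : Module.End F V) : Prop := ∀ x y, B (S x) y = B x (S' y)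

variable {B : BilinForm F V} {S S' R R' : Module.End F V}

theorem Adj.add (h : Adj B S S') (k : Adj B R R') : Adj B (S + R) (S' + R') := fun x y => by
  simp only [LinearMap.add_apply, map_add, h x y, k x y]

theorem Adj.sub (h : Adj B S S') (k : Adj B R R') : Adj B (S - R) (S' - R') := fun x y => by
  simp only [LinearMap.sub_apply, map_sub, h x y, k x y]

theorem Adj.mul (h : Adj B S S') (k : Adj B R R') : Adj B (S * R) (R' * S') := fun x y => by
  rw [Module.End.mul_apply, Module.End.mul_apply, h, k]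

theorem adj_one : Adj B (1 : Module.End F V) 1 := fun _ _ => rfl

theorem Adj.smul (h : Adj B S S') (c : F) : Adj B (c • S) (c • S') := fun x y => by
  simp only [LinearMap.smul_apply, map_smul, smul_eq_mul, h x y]

theorem Adj.pow (h : Adj B S S') : ∀ k : ℕ, Adj B (S ^ k) (S' ^ k)
  | 0 => by rw [pow_zero, pow_zero]; exact adj_one
  | k + 1 => by rw [pow_succ, pow_succ']; exact (h.pow k).mul h

theorem adj_aeval {T : Module.End F V} (hT : Adj B T T) (p : F[X]) : Adj B (aeval T p) (aeval T p) := by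
  induction p using Polynomial.induction_on' with
  | add a b ha hb => rw [map_add]; exact ha.add hb
  | monomial k c => rw [aeval_monomial, ← Algebra.smul_def]; exact (hT.pow k).smul c

theorem adj_of_mem_adjoin {T X : Module.End F V} (hT : Adj B T T)
    (h : X ∈ Algebra.adjoin F ({T} : Set (Module.End F V))) : Adj B X X := by
  rw [Algebra.adjoin_singleton_eq_range_aeval] at h
  obtain ⟨p, rfl⟩ := h
  exact adj_aeval hT p

/-- A self-adjoint map gives an alternating form. -/
theorem adj_self_apply (hA : B.IsAlt) (h2 : (2 : F) ≠ 0) (h : Adj B S S) (x : V) :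
    B (S x) x = 0 ∧ B x (S x) = 0 := by
  have e := LinearMap.IsAlt.neg hA x (S x)
  rw [h x x] at e
  have : (2 : F) * B x (S x) = 0 := by linear_combination -e
  have h0 := (mul_eq_zero.1 this).resolve_left h2
  exact ⟨by rw [h, h0], h0⟩

/-! ### Chains of a nilpotent map -/

/-- Vectors whose images under the top power pair non-singularly give independent chains. -/
theorem chain_indep {ι : Type*} [Fintype ι] {N : Module.End F V} {k : ℕ} (hN : N ^ (k + 1) = 0)
    (x : ι → V)
    (hns : ∀ c : ι → F, (∀ j, ∑ i, c i * B (x j) ((N ^ k) (x i)) = 0) → c = 0) :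
    LinearIndependent F fun p : Fin (k + 1) × ι => (N ^ (p.1 : ℕ)) (x p.2) := by
  classical
  refine Fintype.linearIndependent_iff.2 fun c hc => ?_
  suffices h : ∀ m : ℕ, ∀ p : Fin (k + 1) × ι, (p.1 : ℕ) = m → c p = 0 from fun p => h _ p rfl
  intro m
  induction m using Nat.strong_induction_on with
  | _ m ih =>
    intro p hp
    have hm : m ≤ k := by have := p.1.2; omega
    have h0 : ∀ j, ∑ i, c (p.1, i) * B (x j) ((N ^ k) (x i)) = 0 := by
      intro j
      have h := congrArg (fun z => B (x j) ((N ^ (k - m)) z)) hc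
      simp only [map_sum, map_smul, map_zero, smul_eq_mul] at h
      rw [← h, Fintype.sum_prod_type]
      symm
      rw [Finset.sum_eq_single p.1]
      · refine Finset.sum_congr rfl fun i _ => ?_
        rw [← Module.End.mul_apply (N ^ (k - m)), ← pow_add, hp, Nat.sub_add_cancel hm]
      · intro l _ hl
        refine Finset.sum_eq_zero fun i _ => ?_
        rcases lt_or_ge (l : ℕ) m with hlt | hge
        · rw [ih l hlt (l, i) rfl, zero_mul]
        · have hgt : m < (l : ℕ) := lt_of_le_of_ne hge fun e => hl (Fin.ext (e.symm.trans hp.symm))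
          rw [← Module.End.mul_apply (N ^ (k - m)), ← pow_add,
            show k - m + (l : ℕ) = (k + 1) + ((l : ℕ) - m - 1) by omega, pow_add, hN, zero_mul,
            LinearMap.zero_apply, map_zero, mul_zero]
      · simp
    exact congrFun (hns _ h0) p.2

/-- Isometric unipotent maps with matching chains are conjugate by an isometry; so is any further
isometry preserving the chain heads in the same way. -/
theorem exists_transport [Finite F] [CharP F 3] [FiniteDimensional F V] {V' : Type*}
    [AddCommGroup V'] [Module F V'] [FiniteDimensional F V'] {B' : BilinForm F V'}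
    (hB : B.Nondegenerate) (hA : B.IsAlt) (hA' : B'.IsAlt) (hB' : B'.Nondegenerate)
    (hdim : Module.finrank F V = Module.finrank F V')
    {u h : Module.End F V} {u' h' : Module.End F V'}
    (hu : ∀ a b, B (u a) (u b) = B a b) (hu' : ∀ a b, B' (u' a) (u' b) = B' a b)
    (hh : ∀ a b, B (h a) (h b) = B a b) (hh' : ∀ a b, B' (h' a) (h' b) = B' a b)
    (hcom : Commute u h) (hcom' : Commute u' h')
    {k : ℕ} (hk : k ≤ 8) (hN : (u - 1) ^ (k + 1) = 0) (hN' : (u' - 1) ^ (k + 1) = 0)
    {ι : Type*} [Fintype ι] (x : ι → V) (x' : ι → V') (A : ι → ι → F)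
    (hcard : (k + 1) * Fintype.card ι = Module.finrank F V)
    (hns : ∀ c : ι → F, (∀ j, ∑ i, c i * B (x j) (((u - 1) ^ k) (x i)) = 0) → c = 0)
    (heq : ∀ i j, B (x i) (((u - 1) ^ k) (x j)) = B' (x' i) (((u' - 1) ^ k) (x' j)))
    (hx : ∀ i, h (x i) = ∑ j, A i j • x j) (hx' : ∀ i, h' (x' i) = ∑ j, A i j • x' j) :
    ∃ P : V ≃ₗ[F] V', (∀ a b, B a b = B' (P a) (P b)) ∧ (∀ a, P (u a) = u' (P a)) ∧
      ∀ a, P (h a) = h' (P a) := by
  classical
  set N := u - 1 with hNdef
  set N' := u' - 1 with hN'def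
  have hns' : ∀ c : ι → F, (∀ j, ∑ i, c i * B' (x' j) ((N' ^ k) (x' i)) = 0) → c = 0 := fun c hc =>
    hns c fun j => by simpa only [heq] using hc j
  have hι : Nonempty (Fin (k + 1) × ι) ∨ IsEmpty (Fin (k + 1) × ι) := (isEmpty_or_nonempty _).symm
  let b := basisOfLinearIndependentOfCardEqFinrank' _ (chain_indep (B := B) hN x hns)
    (by rw [Fintype.card_prod, Fintype.card_fin, hcard])
  let b' := basisOfLinearIndependentOfCardEqFinrank' _ (chain_indep (B := B') hN' x' hns')
    (by rw [Fintype.card_prod, Fintype.card_fin, hcard, hdim])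
  let P₀ := b.equiv b' (Equiv.refl _)
  have hb : ∀ p, b p = (N ^ (p.1 : ℕ)) (x p.2) := fun p => by simp [b]
  have hb' : ∀ p, b' p = (N' ^ (p.1 : ℕ)) (x' p.2) := fun p => by simp [b']
  have hpow : ∀ (m : ℕ) i, P₀ ((N ^ m) (x i)) = (N' ^ m) (x' i) := by
    intro m i
    by_cases hm : m < k + 1
    · have e : (N ^ m) (x i) = b (⟨m, hm⟩, i) := (hb (⟨m, hm⟩, i)).symm
      rw [e, show P₀ (b (⟨m, hm⟩, i)) = b' (⟨m, hm⟩, i) from b.equiv_apply (e := Equiv.refl _) (b' := b') _, hb']
    · obtain ⟨l, rfl⟩ := Nat.exists_eq_add_of_le (not_lt.1 hm)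
      rw [pow_add N (k + 1), pow_add N' (k + 1), hN, hN', zero_mul, zero_mul, LinearMap.zero_apply, LinearMap.zero_apply,
        map_zero]
  have hPN : ∀ a, P₀ (N a) = N' (P₀ a) := fun a => by
    refine LinearMap.congr_fun (f := (P₀ : V →ₗ[F] V') ∘ₗ N) (g := N' ∘ₗ (P₀ : V →ₗ[F] V')) (b.ext fun p => ?_) a
    rw [LinearMap.comp_apply, LinearMap.comp_apply, LinearEquiv.coe_coe, hb, ← Module.End.mul_apply,
      ← pow_succ', hpow, hpow, pow_succ', Module.End.mul_apply]
  have hPu : ∀ a, P₀ (u a) = u' (P₀ a) := fun a => by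
    have h1 := hPN a
    simp only [hNdef, hN'def, LinearMap.sub_apply, Module.End.one_apply, map_sub] at h1
    exact sub_left_inj.1 h1
  have hNh : Commute (h : Module.End F V) N := hcom.symm.sub_right (Commute.one_right h)
  have hNh' : Commute (h' : Module.End F V') N' := hcom'.symm.sub_right (Commute.one_right h')
  have hPh : ∀ a, P₀ (h a) = h' (P₀ a) := fun a => by
    refine LinearMap.congr_fun (f := (P₀ : V →ₗ[F] V') ∘ₗ h) (g := h' ∘ₗ (P₀ : V →ₗ[F] V')) (b.ext fun p => ?_) a
    rw [LinearMap.comp_apply, LinearMap.comp_apply, LinearEquiv.coe_coe, hb, hpow,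
      ← Module.End.mul_apply, (hNh.pow_right _).eq, Module.End.mul_apply, hx, map_sum, map_sum,
      ← Module.End.mul_apply h', (hNh'.pow_right _).eq, Module.End.mul_apply, hx', map_sum]
    refine Finset.sum_congr rfl fun j _ => ?_
    rw [map_smul, map_smul, map_smul, hpow]
  -- the pulled back form
  let B₁ : BilinForm F V := B'.comp (P₀ : V →ₗ[F] V') (P₀ : V →ₗ[F] V')
  have hB₁ : ∀ a c, B₁ a c = B' (P₀ a) (P₀ c) := fun _ _ => rfl
  let ε : Module.End F V := ((B.toDual hB).symm : Module.Dual F V →ₗ[F] V) ∘ₗ B₁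
  have hε : ∀ a c, B (ε a) c = B' (P₀ a) (P₀ c) := fun a c =>
    (LinearMap.BilinForm.apply_toDual_symm_apply (hB := hB) (B₁ a) c).trans (hB₁ a c)
  have hext : ∀ a a' : V, (∀ c, B a c = B a' c) → a = a' := fun a a' e => by
    have := hB.1 (a - a') fun c => by rw [map_sub, LinearMap.sub_apply, e, sub_self]
    exact sub_eq_zero.1 this
  have hsa : Adj B ε ε := fun a c => by
    rw [hε, ← LinearMap.IsAlt.neg hA' (P₀ c) (P₀ a), ← hε, LinearMap.IsAlt.neg hA (ε c) a]
  have hiso : ∀ (f : Module.End F V) (f' : Module.End F V'), (∀ a b, B (f a) (f b) = B a b) →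
      (∀ a b, B' (f' a) (f' b) = B' a b) → (∀ a, P₀ (f a) = f' (P₀ a)) → ∀ a, ε (f a) = f (ε a) := by
    intro f f' hf hf' hP a
    have hsurj : Function.Surjective f := LinearMap.injective_iff_surjective.1
      ((injective_iff_map_eq_zero f).2 fun z hz => hext z 0 fun c => by
        rw [← hf z c, hz]; simp)
    refine hext _ _ fun c => ?_
    obtain ⟨c, rfl⟩ := hsurj c
    rw [hε, hP, hP, hf', ← hε, hf]
  have hεu := hiso u u' hu hu' hPu
  have hεN : Commute ε N := LinearMap.ext fun a => by
    simp only [Module.End.mul_apply, hNdef, LinearMap.sub_apply, Module.End.one_apply, map_sub, hεu]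
  -- the forms agree on the top
  have hfix : ∀ c, (u : Module.End F V) ((N ^ k) c) = (N ^ k) c := fun c => by
    have h1 := LinearMap.congr_fun hN c
    rw [pow_succ', Module.End.mul_apply, LinearMap.zero_apply] at h1
    exact sub_eq_zero.1 h1
  have hfix' : ∀ c, (u' : Module.End F V') ((N' ^ k) c) = (N' ^ k) c := fun c => by
    have h1 := LinearMap.congr_fun hN' c
    rw [pow_succ', Module.End.mul_apply, LinearMap.zero_apply] at h1
    exact sub_eq_zero.1 h1
  have htop : ∀ a c, B a ((N ^ k) c) = B' (P₀ a) (P₀ ((N ^ k) c)) := by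
    have key : ∀ i, ∀ a, B a ((N ^ k) (x i)) = B' (P₀ a) (P₀ ((N ^ k) (x i))) := by
      intro i a
      refine LinearMap.congr_fun (f := B.flip ((N ^ k) (x i))) (g := B₁.flip ((N ^ k) (x i))) (b.ext fun p => ?_) a
      show B (b p) ((N ^ k) (x i)) = B' (P₀ (b p)) (P₀ ((N ^ k) (x i)))
      rw [hpow, hb, hpow]
      rcases Nat.eq_zero_or_pos (p.1 : ℕ) with e | e
      · rw [e, pow_zero, pow_zero, Module.End.one_apply, Module.End.one_apply, heq]
      · obtain ⟨l, hl⟩ := Nat.exists_eq_succ_of_ne_zero e.ne'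
        rw [hl, pow_succ', pow_succ', Module.End.mul_apply, Module.End.mul_apply, hNdef, hN'def,
          LinearMap.sub_apply, LinearMap.sub_apply, Module.End.one_apply, Module.End.one_apply,
          map_sub, LinearMap.sub_apply, map_sub, LinearMap.sub_apply, ← hNdef, ← hN'def]
        conv_lhs => arg 1; rw [← hfix (x i), hu]
        conv_rhs => arg 1; rw [← hfix' (x' i), hu']
        rw [sub_self, sub_self]
    intro a c
    refine LinearMap.congr_fun (f := B a ∘ₗ (N ^ k)) (g := B₁ a ∘ₗ (N ^ k)) (b.ext fun p => ?_) c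
    show B a ((N ^ k) (b p)) = B' (P₀ a) (P₀ ((N ^ k) (b p)))
    rw [hb, ← Module.End.mul_apply, ← pow_add]
    rcases Nat.eq_zero_or_pos (p.1 : ℕ) with e | e
    · rw [e, add_zero, key]
    · obtain ⟨l, hl⟩ := Nat.exists_eq_succ_of_ne_zero e.ne'
      rw [hl, show k + l.succ = k + 1 + l by omega, pow_add, hN, zero_mul]
      simp
  set D := ε - 1 with hD
  have hDtop : D * N ^ k = 0 := LinearMap.ext fun c => hext _ _ fun a => by
    rw [Module.End.mul_apply, hD, LinearMap.sub_apply, Module.End.one_apply, map_sub,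
      LinearMap.sub_apply, hε, LinearMap.zero_apply, map_zero, LinearMap.zero_apply,
      ← LinearMap.IsAlt.neg hA' (P₀ a), ← htop, LinearMap.IsAlt.neg hA, sub_self]
  have hDN : Commute D N := hεN.sub_left (Commute.one_left N)
  have hker : ∀ a, (N ^ k) a = 0 → ∃ a', a = N a' := by
    intro a ha
    have hsum : a = ∑ p, b.repr a p • b p := (b.sum_repr a).symm
    have h0 : ∀ i, b.repr a (0, i) = 0 := by
      refine fun i => congrFun (hns (fun i => b.repr a (0, i)) fun j => ?_) i
      have h1 := congrArg (fun z => B (x j) ((N ^ k) z)) hsum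
      simp only [ha, map_zero, map_sum, map_smul, smul_eq_mul, Fintype.sum_prod_type] at h1
      rw [Finset.sum_eq_single 0] at h1
      · simpa [hb] using h1.symm
      · intro l _ hl
        refine Finset.sum_eq_zero fun i _ => ?_
        obtain ⟨l', hl'⟩ := Nat.exists_eq_succ_of_ne_zero (n := (l : ℕ)) fun e => hl (Fin.ext e)
        rw [hb, ← Module.End.mul_apply, ← pow_add, hl', show k + l'.succ = k + 1 + l' by omega,
          pow_add, hN, zero_mul]
        simp
      · simp
    refine ⟨∑ p, b.repr a p • (N ^ ((p.1 : ℕ) - 1)) (x p.2), ?_⟩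
    conv_lhs => rw [hsum]
    rw [map_sum]
    refine Finset.sum_congr rfl fun p _ => ?_
    rw [map_smul, hb, ← Module.End.mul_apply, ← pow_succ']
    rcases Nat.eq_zero_or_pos (p.1 : ℕ) with e | e
    · obtain ⟨l, i⟩ := p
      obtain rfl : l = 0 := Fin.ext e
      rw [h0, zero_smul, zero_smul]
    · rw [Nat.sub_add_cancel e]
  have hDk : D ^ (k + 1) = 0 := by
    have key : ∀ m, m ≤ k + 1 → ∀ a, ∃ a', (D ^ m) a = (N ^ m) a' := by
      intro m
      induction m with
      | zero => exact fun _ a => ⟨a, by simp⟩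
      | succ m ih =>
        intro hm a
        obtain ⟨a', ha'⟩ := ih (by omega) a
        obtain ⟨a'', ha''⟩ := hker (D a') (by
          rw [← Module.End.mul_apply, ← (hDN.pow_right k).eq, hDtop, LinearMap.zero_apply])
        refine ⟨a'', ?_⟩
        rw [pow_succ', Module.End.mul_apply, ha', ← Module.End.mul_apply, (hDN.pow_right m).eq,
          Module.End.mul_apply, ha'', pow_succ, Module.End.mul_apply]
    refine LinearMap.ext fun a => ?_
    obtain ⟨a', ha'⟩ := key (k + 1) le_rfl a
    rw [ha', hN]; simp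
  have hε9 : ε ^ 9 = 1 := by
    have h3 : (3 : Module.End F V) = 0 := by
      rw [show (3 : Module.End F V) = algebraMap F (Module.End F V) 3 by simp [map_ofNat],
        show (3 : F) = 0 from CharP.cast_eq_zero F 3, map_zero]
    have hcube : ∀ X : Module.End F V, (1 + X) ^ 3 = 1 + X ^ 3 := fun X => by
      have e : (1 + X) ^ 3 = 1 + 3 * (X + X ^ 2) + X ^ 3 := by
        simp only [pow_succ, pow_zero, one_mul, mul_add, add_mul, mul_one]
        rw [show (3 : Module.End F V) = 1 + 1 + 1 by norm_num]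
        simp only [add_mul, one_mul]
        abel
      rw [e, h3, zero_mul, add_zero]
    have h9 : D ^ 9 = 0 := by
      rw [show 9 = k + 1 + (8 - k) by omega, pow_add, hDk, zero_mul]
    rw [show ε = 1 + D from (add_sub_cancel 1 ε).symm, show 9 = 3 * 3 from rfl, pow_mul, hcube, hcube,
      ← pow_mul, h9, add_zero]
  let Q : V ≃ₗ[F] V :=
    LinearEquiv.ofLinear (ε ^ 4) (ε ^ 5)
      (show ε ^ 4 * ε ^ 5 = 1 by rw [← pow_add]; exact hε9)
      (show ε ^ 5 * ε ^ 4 = 1 by rw [← pow_add]; exact hε9)
  refine ⟨Q.trans P₀, fun a c => ?_, fun a => ?_, fun a => ?_⟩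
  · show _ = B' (P₀ ((ε ^ 4) a)) (P₀ ((ε ^ 4) c))
    rw [← hε, ← Module.End.mul_apply, ← pow_succ', (hsa.pow 5) a, ← Module.End.mul_apply, ← pow_add,
      hε9, Module.End.one_apply]
  · show P₀ ((ε ^ 4) (u a)) = u' (P₀ ((ε ^ 4) a))
    have hc : Commute ε u := LinearMap.ext hεu
    rw [← Module.End.mul_apply, (hc.pow_left 4).eq, Module.End.mul_apply, hPu]
  · show P₀ ((ε ^ 4) (h a)) = h' (P₀ ((ε ^ 4) a))
    have hc : Commute ε h := LinearMap.ext (hiso h h' hh hh' hPh)
    rw [← Module.End.mul_apply, (hc.pow_left 4).eq, Module.End.mul_apply, hPh]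

/-! ### Self-adjoint field actions -/

/-- The alternating form on `E × E`. -/
noncomputable def bm (F E : Type*) [Field F] [Field E] [Algebra F E] : BilinForm F (E × E) :=
  LinearMap.mk₂ F (fun p r => Algebra.trace F E (p.1 * r.2 - p.2 * r.1))
    (fun p p' r => by rw [← map_add]; refine congrArg _ ?_; simp only [Prod.fst_add, Prod.snd_add]; ring)
    (fun c p r => by rw [← map_smul]; refine congrArg _ ?_; simp only [Prod.smul_fst, Prod.smul_snd]; simp only [Algebra.smul_def]; ring)
    (fun p r r' => by rw [← map_add]; refine congrArg _ ?_; simp only [Prod.fst_add, Prod.snd_add]; ring)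
    (fun c p r => by rw [← map_smul]; refine congrArg _ ?_; simp only [Prod.smul_fst, Prod.smul_snd]; simp only [Algebra.smul_def]; ring)

theorem bm_apply {E : Type*} [Field E] [Algebra F E] (p r : E × E) :
    bm F E p r = Algebra.trace F E (p.1 * r.2 - p.2 * r.1) := rfl

theorem bm_isAlt {E : Type*} [Field E] [Algebra F E] : (bm F E).IsAlt := fun p => by
  rw [bm_apply, show p.1 * p.2 - p.2 * p.1 = 0 by ring, map_zero]

theorem bm_nondeg {E : Type*} [Field E] [Algebra F E] [Finite E] : (bm F E).Nondegenerate := by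
  have : FiniteDimensional F E := Module.Finite.of_finite
  have hsep : ∀ p : E × E, (∀ r, bm F E p r = 0) → p = 0 := by
    intro p hp
    obtain ⟨z, hz⟩ := Algebra.trace_surjective F E (1 : F)
    by_contra hne
    rcases eq_or_ne p.1 0 with h1 | h1
    · have h2 : p.2 ≠ 0 := fun e => hne (Prod.ext h1 e)
      have := hp (-(z * p.2⁻¹), 0)
      rw [bm_apply] at this
      simp only [h1, zero_mul, zero_sub, mul_neg, neg_neg] at this
      rw [mul_left_comm, mul_inv_cancel₀ h2, mul_one, hz] at this
      exact one_ne_zero this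
    · have := hp (0, z * p.1⁻¹)
      rw [bm_apply] at this
      simp only [mul_zero, sub_zero] at this
      rw [mul_left_comm, mul_inv_cancel₀ h1, mul_one, hz] at this
      exact one_ne_zero this
  exact (LinearMap.IsRefl.nondegenerate_iff_separatingLeft (B := bm F E)
    fun a b h => (bm_isAlt (F := F) (E := E)).isRefl a b h).2 hsep

/-- A self-adjoint action of a field puts a vector into an embedded hyperbolic plane over it. -/
theorem exists_pairEmb [FiniteDimensional F V] (hB : B.Nondegenerate) (hA : B.IsAlt)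
    (h2 : (2 : F) ≠ 0) {E : Type*} [Field E] [Finite E] [Algebra F E]
    (φ : E →ₐ[F] Module.End F V) (hφ : ∀ e, Adj B (φ e) (φ e)) {v : V} (hv : v ≠ 0) :
    ∃ w : V, ∃ Ψ : E × E →ₗ[F] V, Function.Injective Ψ ∧ (∀ p, Ψ p = φ p.1 v + φ p.2 w) ∧
      (∀ p r, B (Ψ p) (Ψ r) = bm F E p r) ∧ ∀ e p, Ψ (e • p) = φ e (Ψ p) := by
  have : FiniteDimensional F E := Module.Finite.of_finite
  let L : E →ₗ[F] V := (LinearMap.applyₗ v).comp φ.toLinearMap
  have hL : Function.Injective L := (injective_iff_map_eq_zero L).2 fun e he => by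
    by_contra hne
    refine hv ?_
    have h1 : φ e⁻¹ (φ e v) = v := by
      rw [← Module.End.mul_apply, ← map_mul, inv_mul_cancel₀ hne, map_one, Module.End.one_apply]
    rw [show φ e v = 0 from he, map_zero] at h1
    exact h1.symm
  obtain ⟨Li, hLi⟩ := L.exists_leftInverse_of_injective (LinearMap.ker_eq_bot.2 hL)
  let f : V →ₗ[F] F := (Algebra.trace F E).comp Li
  set w := (B.toDual hB).symm (-f) with hw
  have hw' : ∀ c, B w c = -f c := fun c => LinearMap.BilinForm.apply_toDual_symm_apply (hB := hB) (-f) c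
  have hvw : ∀ e, B (φ e v) w = Algebra.trace F E e := fun e => by
    rw [← LinearMap.IsAlt.neg hA, hw', neg_neg]
    show Algebra.trace F E ((Li ∘ₗ L) e) = _
    rw [hLi]; rfl
  let Ψ : E × E →ₗ[F] V :=
    L.comp (LinearMap.fst F E E) + ((LinearMap.applyₗ w).comp φ.toLinearMap).comp (LinearMap.snd F E E)
  have hΨ : ∀ p, Ψ p = φ p.1 v + φ p.2 w := fun p => rfl
  have hzero : ∀ (z : V) (a b : E), B (φ a z) (φ b z) = 0 := fun z a b => by
    rw [← hφ b, ← Module.End.mul_apply, ← map_mul]
    exact (adj_self_apply hA h2 (hφ _) z).1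
  have hiso : ∀ p r, B (Ψ p) (Ψ r) = bm F E p r := fun p r => by
    have h1 : B (φ p.1 v) (φ r.2 w) = Algebra.trace F E (p.1 * r.2) := by
      rw [← hφ r.2, ← Module.End.mul_apply, ← map_mul, mul_comm, hvw]
    have h2' : B (φ p.2 w) (φ r.1 v) = -Algebra.trace F E (p.2 * r.1) := by
      rw [← LinearMap.IsAlt.neg hA, ← hφ p.2, ← Module.End.mul_apply, ← map_mul, hvw]
    rw [hΨ, hΨ, map_add (B _), map_add B, LinearMap.add_apply, LinearMap.add_apply, hzero, hzero, h1, h2', bm_apply,
      map_sub (Algebra.trace F E)]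
    ring
  refine ⟨w, Ψ, (injective_iff_map_eq_zero Ψ).2 fun p hp => bm_nondeg.1 p fun r => by
    rw [← hiso, hp, map_zero, LinearMap.zero_apply], hΨ, hiso, fun e p => ?_⟩
  rw [hΨ, hΨ, map_add, Prod.smul_fst, Prod.smul_snd, smul_eq_mul, smul_eq_mul, map_mul, map_mul]
  rfl

end CfsgLib.TwoCover.Symp
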