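import Cfsg.Agent.Lib.TwoCover.SympThreeBasic

/-!
In characteristic three every isometry of a six-dimensional alternating space fixes a
non-degenerate plane or is semilinear over a self-adjoint action of the cubic extension.
-/

set_option autoImplicit false

namespace CfsgLib.TwoCover.Symp

open Polynomial
open LinearMap (BilinForm)

variable {F : Type*} [Field F] {V : Type*} [AddCommGroup V] [Module F V]

/-- An invariant hyperbolic plane. -/
def PlaneInv (B : BilinForm F V) (g : Module.End F V) : Prop :=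
  ∃ v w : V, B v w = 1 ∧ (∃ a b : F, g v = a • v + b • w) ∧ ∃ a b : F, g w = a • v + b • w

/-- Semilinear for a self-adjoint action of `E`. -/
def FieldInv (B : BilinForm F V) (E : Type*) [Field E] [Algebra F E] (g : Module.End F V) : Prop :=
  ∃ P : V ≃ₗ[F] E × E, (∀ a b, B a b = bm F E (P a) (P b)) ∧
    ∃ τ : E ≃ₐ[F] E, ∀ e p, P (g (P.symm (e • p))) = τ e • P (g (P.symm p))

variable {B : BilinForm F V}

theorem PlaneInv.neg {g : Module.End F V} (h : PlaneInv B g) : PlaneInv B (-g) := by
  obtain ⟨v, w, hvw, ⟨a, b, hv⟩, c, d, hw⟩ := h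
  exact ⟨v, w, hvw, ⟨-a, -b, by rw [LinearMap.neg_apply, hv]; module⟩,
    -c, -d, by rw [LinearMap.neg_apply, hw]; module⟩

theorem FieldInv.neg {E : Type*} [Field E] [Algebra F E] {g : Module.End F V} (h : FieldInv B E g) :
    FieldInv B E (-g) := by
  obtain ⟨P, hP, τ, hτ⟩ := h
  refine ⟨P, hP, τ, fun e p => ?_⟩
  simp only [LinearMap.neg_apply, map_neg, hτ, smul_neg]

theorem planeInv_of {g : Module.End F V} {v w : V} (hne : B v w ≠ 0)
    (hv : ∃ a b : F, g v = a • v + b • w) (hw : ∃ a b : F, g w = a • v + b • w) : PlaneInv B g := by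
  obtain ⟨a, b, hv⟩ := hv
  obtain ⟨c, d, hw⟩ := hw
  refine ⟨v, (B v w)⁻¹ • w, by rw [map_smul, smul_eq_mul, inv_mul_cancel₀ hne], ⟨a, b * B v w, ?_⟩,
    c * (B v w)⁻¹, d, ?_⟩
  · rw [hv, smul_smul, mul_assoc, mul_inv_cancel₀ hne, mul_one]
  · rw [map_smul, hw]; module

variable [Finite F] [CharP F 3] [FiniteDimensional F V]

theorem two_ne : (2 : F) ≠ 0 := fun e => one_ne_zero (α := F) (by
  have h3 : (3 : F) = 0 := CharP.cast_eq_zero F 3
  linear_combination h3 - e)

theorem three_eq : (3 : F) = 0 := CharP.cast_eq_zero F 3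

/-- An invariant non-degenerate subspace of dimension two or four gives a plane. -/
theorem planeInv_of_invariant (hB : B.Nondegenerate) (hA : B.IsAlt) (hdim : Module.finrank F V = 6)
    {g : Module.End F V} (hiso : ∀ a b, B (g a) (g b) = B a b) {W : Submodule F V}
    (hW : ∀ a ∈ W, g a ∈ W) (hd : Disjoint W (B.orthogonal W))
    (h24 : Module.finrank F W = 2 ∨ Module.finrank F W = 4) : PlaneInv B g := by
  have hrefl : B.IsRefl := fun a b h => hA.isRefl a b h
  have hgi : Function.Injective g := (injective_iff_map_eq_zero g).2 fun z hz => hB.1 z fun c => by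
    rw [← hiso z c, hz]; simp
  have key : ∀ U : Submodule F V, (∀ a ∈ U, g a ∈ U) → Disjoint U (B.orthogonal U) →
      Module.finrank F U = 2 → PlaneInv B g := by
    intro U hU hdU hU2
    obtain ⟨v, hv, hv0⟩ := Submodule.exists_mem_ne_zero_of_ne_bot (p := U) fun e => by
      rw [e, finrank_bot] at hU2; omega
    obtain ⟨w, hw, hvw⟩ : ∃ w ∈ U, B v w ≠ 0 := by
      by_contra hc
      push Not at hc
      exact hv0 (Submodule.disjoint_def.1 hdU v hv fun a ha => hrefl v a (hc a ha))
    have hli : LinearIndependent F ![v, w] := (LinearIndependent.pair_iff' hv0).2 fun a e => hvw (by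
      rw [← e, map_smul, hA.self_eq_zero, smul_zero])
    have hspan : Submodule.span F {v, w} = U := by
      refine Submodule.eq_of_le_of_finrank_eq (Submodule.span_le.2 ?_) ?_
      · rintro x (rfl | rfl) <;> assumption
      · have := finrank_span_eq_card hli
        rw [Matrix.range_cons, Matrix.range_cons, Matrix.range_empty, Set.union_empty,
          Set.singleton_union, Fintype.card_fin] at this
        omega
    refine planeInv_of hvw ?_ ?_
    · obtain ⟨a, b, e⟩ := Submodule.mem_span_pair.1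
        (show g v ∈ Submodule.span F {v, w} from hspan ▸ hU v hv)
      exact ⟨a, b, e.symm⟩
    · obtain ⟨a, b, e⟩ := Submodule.mem_span_pair.1
        (show g w ∈ Submodule.span F {v, w} from hspan ▸ hU w hw)
      exact ⟨a, b, e.symm⟩
  rcases h24 with h2 | h4
  · exact key W hW hd h2
  have hWeq : W.map g = W := Submodule.eq_of_le_of_finrank_eq (Submodule.map_le_iff_le_comap.2 hW)
    (Submodule.equivMapOfInjective g hgi W).finrank_eq.symm
  refine key (B.orthogonal W) (fun a ha b hb => ?_) ?_ ?_
  · obtain ⟨b', hb', rfl⟩ : b ∈ W.map g := hWeq.symm ▸ hb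
    exact (hiso b' a).trans (ha b' hb')
  · rw [LinearMap.BilinForm.orthogonal_orthogonal hB hrefl]; exact hd.symm
  · rw [LinearMap.BilinForm.finrank_orthogonal hB, hdim, h4]

/-- Non-vanishing pairing of a top power: either a pair, and the chains are short. -/
theorem exists_pair (hA : B.IsAlt) {N : Module.End F V} {k : ℕ} (hN : N ^ (k + 1) = 0) (hne : N ^ k ≠ 0)
    (hB : B.Nondegenerate) (hadj : Adj B (N ^ k) (N ^ k)) :
    ∃ v w : V, B v ((N ^ k) w) ≠ 0 ∧ 2 * (k + 1) ≤ Module.finrank F V ∧
      ∀ c : Fin 2 → F, (∀ j, ∑ i, c i * B (![v, w] j) ((N ^ k) (![v, w] i)) = 0) → c = 0 := by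
  obtain ⟨v, w, hvw⟩ : ∃ v w, B v ((N ^ k) w) ≠ 0 := by
    by_contra hc
    push Not at hc
    refine hne (LinearMap.ext fun w => hB.1 _ fun v => ?_)
    rw [← LinearMap.IsAlt.neg hA, hc, neg_zero]
  have h2 := two_ne (F := F)
  have hvv := (adj_self_apply hA h2 hadj v).2
  have hww := (adj_self_apply hA h2 hadj w).2
  have hwv : B w ((N ^ k) v) = -B v ((N ^ k) w) := by
    rw [← hadj w v, ← LinearMap.IsAlt.neg hA]
  have hns : ∀ c : Fin 2 → F, (∀ j, ∑ i, c i * B (![v, w] j) ((N ^ k) (![v, w] i)) = 0) → c = 0 := by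
    intro c hc
    have h0 := hc 0
    have h1 := hc 1
    simp [Fin.sum_univ_two, hvv, hww, hwv, hvw] at h0 h1
    funext i
    fin_cases i <;> assumption
  refine ⟨v, w, hvw, ?_, hns⟩
  have h := (chain_indep (B := B) hN _ hns).fintype_card_le_finrank
  rw [Fintype.card_prod, Fintype.card_fin, Fintype.card_fin] at h
  omega

section Field

variable {E : Type*} [Field E] [Finite E] [Algebra F E]

/-- The semilinear maps of the model. -/
noncomputable def yMat (s : E ≃ₐ[F] E) (a b c d : E) : Module.End F (E × E) :=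
  LinearMap.prod ((LinearMap.mulLeft F a).comp (s.toLinearMap.comp (LinearMap.fst F E E)) +
      (LinearMap.mulLeft F b).comp (s.toLinearMap.comp (LinearMap.snd F E E)))
    ((LinearMap.mulLeft F c).comp (s.toLinearMap.comp (LinearMap.fst F E E)) +
      (LinearMap.mulLeft F d).comp (s.toLinearMap.comp (LinearMap.snd F E E)))

omit [Finite F] [CharP F 3] [Finite E] in
theorem yMat_apply (s : E ≃ₐ[F] E) (a b c d : E) (p : E × E) :
    yMat s a b c d p = (a * s p.1 + b * s p.2, c * s p.1 + d * s p.2) := rfl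

omit [Finite F] [CharP F 3] [Finite E] in
theorem yMat_iso (s : E ≃ₐ[F] E) {a b c d : E} (h : a * d - b * c = 1) (p r : E × E) :
    bm F E (yMat s a b c d p) (yMat s a b c d r) = bm F E p r := by
  rw [bm_apply, bm_apply, yMat_apply, yMat_apply, ← Algebra.trace_eq_of_algEquiv s (p.1 * r.2 - p.2 * r.1)]
  refine congrArg _ ?_
  rw [map_sub, map_mul, map_mul]
  linear_combination (s p.1 * s r.2 - s p.2 * s r.1) * h

omit [Finite F] [CharP F 3] [Finite E] in
theorem fieldInv_of {g : Module.End F V} {s : E ≃ₐ[F] E} {a b c d : E} (P : V ≃ₗ[F] E × E)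
    (hP : ∀ x y, B x y = bm F E (P x) (P y)) (hg : ∀ x, P (g x) = yMat s a b c d (P x)) :
    FieldInv B E g := by
  refine ⟨P, hP, s, fun e p => ?_⟩
  rw [hg, hg, LinearEquiv.apply_symm_apply, LinearEquiv.apply_symm_apply, yMat_apply, yMat_apply]
  refine Prod.ext ?_ ?_ <;>
    simp only [Prod.smul_fst, Prod.smul_snd, smul_eq_mul, map_mul, Prod.smul_mk] <;> ring

variable (hE : Module.finrank F E = 3)
include hE

theorem exists_gal : ∃ s : E ≃ₐ[F] E, (∀ e, s (s (s e)) = e) ∧
    ∀ e, algebraMap F E (Algebra.trace F E e) = e + s e + s (s e) := by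
  have : Fintype F := Fintype.ofFinite F
  refine ⟨FiniteField.frobeniusAlgEquivOfAlgebraic F E, fun e => ?_, fun e => ?_⟩
  · have h : FiniteField.frobeniusAlgEquivOfAlgebraic F E ^ Nat.card (E ≃ₐ[F] E) = 1 := pow_card_eq_one'
    rw [IsGalois.card_aut_eq_finrank F E, hE] at h
    exact DFunLike.congr_fun h e
  · rw [FiniteField.algebraMap_trace_eq_sum_pow, hE]
    show _ = e + e ^ Fintype.card F + (e ^ Fintype.card F) ^ Fintype.card F
    simp only [Finset.sum_range_succ, Finset.sum_range_zero, Fintype.card_eq_nat_card]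
    ring

/-- Three Jordan blocks of length two over a complement preserved by a commuting isometry. -/
theorem fieldInv_free (hB : B.Nondegenerate) (hA : B.IsAlt) (hdim : Module.finrank F V = 6)
    {g u h : Module.End F V} (hg : g = u * h) (hu : ∀ a b, B (u a) (u b) = B a b)
    (hh : ∀ a b, B (h a) (h b) = B a b) (hcom : Commute u h) (hN : (u - 1) ^ 3 = 0)
    (hadj : Adj B ((u - 1) ^ 2 : Module.End F V) ((u - 1) ^ 2 : Module.End F V)) {v w : V} (hvw : B v (((u - 1) ^ 2 : Module.End F V) w) ≠ 0)
    {A00 A01 A10 A11 : F} (hdet : A00 * A11 - A01 * A10 = 1) (hv : h v = A00 • v + A01 • w)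
    (hw : h w = A10 • v + A11 • w) : FieldInv B E g := by
  have h2 := two_ne (F := F)
  obtain ⟨s, hs3, htr⟩ := exists_gal (F := F) hE
  obtain ⟨z, hz⟩ := Algebra.trace_surjective F E (1 : F)
  set c := B v (((u - 1) ^ 2 : Module.End F V) w) with hc
  have hE3 : (3 : E) = 0 := by
    rw [show (3 : E) = algebraMap F E 3 by simp [map_ofNat], three_eq (F := F), map_zero]
  let u' : Module.End F (E × E) := yMat s 1 0 0 1
  let h' : Module.End F (E × E) :=
    yMat AlgEquiv.refl (algebraMap F E A00) (algebraMap F E (A10 / c)) (algebraMap F E (c * A01))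
      (algebraMap F E A11)
  have hu'ap : ∀ p, u' p = (s p.1, s p.2) := fun p => by simp [u', yMat_apply]
  have hN' : (u' - 1) ^ 3 = 0 := LinearMap.ext fun p => by
    simp only [pow_succ', pow_zero, mul_one, Module.End.mul_apply, LinearMap.sub_apply,
      Module.End.one_apply, hu'ap, map_sub, hs3, LinearMap.zero_apply]
    refine Prod.ext ?_ ?_ <;>
      simp only [Prod.fst_sub, Prod.snd_sub, Prod.fst_zero, Prod.snd_zero, map_sub, hs3]
    · linear_combination (s p.1 - s (s p.1)) * hE3
    · linear_combination (s p.2 - s (s p.2)) * hE3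
  have hN2' : ∀ p, ((u' - 1) ^ 2 : Module.End F (E × E)) p =
      (algebraMap F E (Algebra.trace F E p.1), algebraMap F E (Algebra.trace F E p.2)) := fun p => by
    rw [htr, htr]
    simp only [pow_succ', pow_zero, mul_one, Module.End.mul_apply, LinearMap.sub_apply,
      Module.End.one_apply, hu'ap, map_sub]
    refine Prod.ext ?_ ?_ <;> simp only [Prod.fst_sub, Prod.snd_sub, map_sub]
    · linear_combination -(s p.1) * hE3
    · linear_combination -(s p.2) * hE3
  have hcom' : Commute u' h' := LinearMap.ext fun p => by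
    simp only [Module.End.mul_apply, u', h', yMat_apply, AlgEquiv.coe_refl, id, map_add, map_mul,
      AlgEquiv.commutes]
    refine Prod.ext ?_ ?_ <;> ring
  have hc0 : c ≠ 0 := hvw
  let x : Fin 2 → V := ![v, w]
  let x' : Fin 2 → E × E := ![(z, 0), (0, algebraMap F E c * z)]
  let A : Fin 2 → Fin 2 → F := ![![A00, A01], ![A10, A11]]
  have hvv := (adj_self_apply hA h2 hadj v).2
  have hww := (adj_self_apply hA h2 hadj w).2
  have hwv : B w (((u - 1) ^ 2 : Module.End F V) v) = -c := by
    rw [← hadj w v, ← LinearMap.IsAlt.neg hA, hc]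
  have htrc : Algebra.trace F E (algebraMap F E c * z) = c := by
    rw [← Algebra.smul_def, map_smul, hz, smul_eq_mul, mul_one]
  have htrc' : Algebra.trace F E (z * algebraMap F E c) = c := by rw [mul_comm, htrc]
  have hns : ∀ a : Fin 2 → F, (∀ j, ∑ i, a i * B (x j) (((u - 1) ^ 2 : Module.End F V) (x i)) = 0) → a = 0 := by
    intro a ha
    have h0 := ha 0
    have h1 := ha 1
    simp [x, Fin.sum_univ_two, hvv, hww, hwv, ← hc, hc0] at h0 h1
    funext i
    fin_cases i <;> assumption
  have heq : ∀ i j, B (x i) (((u - 1) ^ 2 : Module.End F V) (x j)) = bm F E (x' i) (((u' - 1) ^ 2 : Module.End F (E × E)) (x' j)) := by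
    intro i j
    rw [bm_apply, hN2']
    fin_cases i <;> fin_cases j <;>
      simp [x, x', hvv, hww, hwv, ← hc, hz, htrc, htrc']
  have hcE : algebraMap F E c ≠ 0 := (_root_.map_ne_zero _).2 hc0
  obtain ⟨P, hPiso, hPu, hPh⟩ := exists_transport hB hA bm_isAlt bm_nondeg
    (by rw [hdim, Module.finrank_prod, hE]) hu (fun a b => yMat_iso s (by ring) a b) hh
    (fun a b => yMat_iso _ (by
      rw [← map_mul, ← map_mul, ← map_sub, show A00 * A11 - A10 / c * (c * A01) = 1 by
        field_simp; linear_combination hdet, map_one]) a b)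
    hcom hcom' (k := 2) (by norm_num) hN hN' x x' A (by rw [hdim]; simp) hns heq
    (fun i => by fin_cases i <;> simp [x, A, Fin.sum_univ_two, hv, hw])
    (fun i => by
      rw [Fin.sum_univ_two]
      fin_cases i <;>
        simp [x', A, h', yMat_apply, Algebra.smul_def, Prod.ext_iff] <;> field_simp [hcE])
  refine fieldInv_of (s := s) (a := algebraMap F E A00) (b := algebraMap F E (A10 / c))
    (c := algebraMap F E (c * A01)) (d := algebraMap F E A11) P hPiso fun a => ?_
  rw [hg, Module.End.mul_apply, hPu, hPh]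
  simp only [u', h', yMat_apply, AlgEquiv.coe_refl, id, map_add, map_mul, AlgEquiv.commutes]
  simp

/-- One Jordan block. -/
theorem fieldInv_single (hB : B.Nondegenerate) (hA : B.IsAlt) (hdim : Module.finrank F V = 6)
    {g : Module.End F V} (hiso : ∀ a b, B (g a) (g b) = B a b) (hN : (g - 1) ^ 6 = 0)
    {v : V} (hv : B v (((g - 1) ^ 5 : Module.End F V) v) ≠ 0) : FieldInv B E g := by
  obtain ⟨s, hs3, htr⟩ := exists_gal (F := F) hE
  obtain ⟨z, hz⟩ := Algebra.trace_surjective F E (1 : F)
  set c := B v (((g - 1) ^ 5 : Module.End F V) v) with hc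
  set t : E := -(algebraMap F E c * z) with ht
  have hE3 : (3 : E) = 0 := by
    rw [show (3 : E) = algebraMap F E 3 by simp [map_ofNat], three_eq (F := F), map_zero]
  let y : Module.End F (E × E) := yMat s 1 t 0 1
  have hyap : ∀ p, y p = (s p.1 + t * s p.2, s p.2) := fun p => by simp [y, yMat_apply]
  have htt : algebraMap F E (Algebra.trace F E t) = algebraMap F E (-c) := by
    rw [ht, map_neg, ← Algebra.smul_def, map_smul, hz, smul_eq_mul, mul_one]
  have h3 : ∀ p, ((y - 1) ^ 3 : Module.End F (E × E)) p = (algebraMap F E (-c) * p.2, 0) := fun p => by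
    rw [← htt, htr]
    simp only [pow_succ', pow_zero, mul_one, Module.End.mul_apply, LinearMap.sub_apply,
      Module.End.one_apply, hyap, map_sub]
    refine Prod.ext ?_ ?_ <;>
      simp only [Prod.fst_sub, Prod.snd_sub, map_add, map_sub, map_mul, hs3]
    · linear_combination (s p.1 + t * s p.2 - (s (s p.1) + s t * s (s p.2) + t * s (s p.2))) * hE3
    · linear_combination (s p.2 - s (s p.2)) * hE3
  have h6 : (y - 1) ^ 6 = 0 := LinearMap.ext fun p => by
    rw [show 6 = 3 + 3 from rfl, pow_add, Module.End.mul_apply, h3, h3]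
    simp
  have hval : bm F E (0, z) (((y - 1) ^ 5 : Module.End F (E × E)) (0, z)) = c := by
    have e3 : ((y - 1) ^ 5 : Module.End F (E × E)) (0, z) = (algebraMap F E (-c), 0) := by
      rw [show 5 = 2 + 3 from rfl, pow_add, Module.End.mul_apply, h3]
      have htr' := htr z
      rw [hz, map_one] at htr'
      simp only [pow_succ', pow_zero, mul_one, Module.End.mul_apply, LinearMap.sub_apply,
        Module.End.one_apply, hyap, map_sub]
      refine Prod.ext ?_ ?_ <;>
        simp only [Prod.fst_sub, Prod.snd_sub, map_add, map_sub, map_mul, map_zero, AlgEquiv.commutes]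
      · linear_combination -(algebraMap F E (-c)) * htr' - algebraMap F E (-c) * s z * hE3
      · ring
    rw [e3, bm_apply]
    simp only [zero_mul, zero_sub]
    rw [map_neg, mul_comm, ← Algebra.smul_def, map_smul, hz, smul_eq_mul, mul_one, neg_neg]
  obtain ⟨P, hPiso, hPu, -⟩ := exists_transport hB hA bm_isAlt bm_nondeg
    (by rw [hdim, Module.finrank_prod, hE]) hiso (fun a b => yMat_iso s (by ring) a b)
    (h := 1) (h' := 1) (fun _ _ => rfl) (fun _ _ => rfl) (Commute.one_right _) (Commute.one_right _)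
    (k := 5) (by norm_num) hN h6 (fun _ : Unit => v) (fun _ => (0, z)) (fun _ _ => 1)
    (by rw [hdim]; simp) (fun a ha => funext fun i => by
      have h := ha ()
      simp [← hc, hv] at h
      exact h)
    (fun _ _ => by rw [hval, hc]) (fun _ => by simp) (fun _ => by simp)
  exact fieldInv_of P hPiso hPu

end Field

/-- The semisimple part in the ring generated by an isometry and its inverse. -/
theorem semisimple_part {R : Type*} [CommRing R] [Algebra F R] {g g' : R} (hg : g * g' = 1) {μ : F}
    (hμ : μ ^ 2 - 1 ≠ 0) (hN : (g + g' - algebraMap F R μ) ^ 3 = 0) :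
    ∀ h h' u u' : R, h = (μ ^ 2 - 1)⁻¹ • (g ^ 3 + algebraMap F R μ) →
      h' = (μ ^ 2 - 1)⁻¹ • (g' ^ 3 + algebraMap F R μ) → u = g * h' → u' = g' * h →
      h * h' = 1 ∧ h * h = algebraMap F R μ * h - 1 ∧ u * u' = 1 ∧ (u - 1) ^ 3 = 0 ∧ g = u * h ∧
        ((u - 1) ^ 2 = 0 → (g + g' - algebraMap F R μ) ^ 2 = 0) := by
  intro h h' u u' hh hh' hu hu'
  have h3 : (3 : R) = 0 := by
    rw [show (3 : R) = algebraMap F R 3 by simp [map_ofNat], three_eq (F := F), map_zero]
  set d := (μ ^ 2 - 1)⁻¹ with hd
  set m := algebraMap F R μ with hm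
  set e := algebraMap F R d with he
  have hed : e * (m ^ 2 - 1) = 1 := by
    rw [he, hm, ← map_pow, ← map_one (algebraMap F R), ← map_sub, ← map_mul, inv_mul_cancel₀ hμ, map_one]
  rw [Algebra.smul_def, ← he] at hh hh'
  have hsum : g ^ 3 + g' ^ 3 = m ^ 3 := by
    linear_combination hN + (-(g ^ 2 * g') - g * g' ^ 2 + g ^ 2 * m + 2 * g * g' * m + g' ^ 2 * m -
      g * m ^ 2 - g' * m ^ 2) * h3
  have hgg3 : g ^ 3 * g' ^ 3 = 1 := by rw [← mul_pow, hg, one_pow]
  have e1 : h * h' = 1 := by
    rw [hh, hh']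
    linear_combination e ^ 2 * hgg3 + e ^ 2 * m * hsum + (e * (m ^ 2 - 1) + 1) * hed + e ^ 2 * m ^ 2 * h3
  have hhsum : h + h' = m := by
    rw [hh, hh']
    linear_combination e * hsum + e * m * h3 + m * hed
  have e2 : h * h = m * h - 1 := by linear_combination h * hhsum - e1
  have hcube : h ^ 3 = g ^ 3 := by
    have hh3 : (m ^ 2 - 1) * h = g ^ 3 + m := by
      rw [hh]; linear_combination (g ^ 3 + m) * hed
    linear_combination (h + m) * e2 + hh3
  have hu1 : u * u' = 1 := by rw [hu, hu']; linear_combination (h * h') * hg + e1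
  have hu3 : (u - 1) ^ 3 = 0 := by
    have : u ^ 3 = 1 := by
      rw [hu, mul_pow, ← hcube, ← mul_pow, e1, one_pow]
    linear_combination this + (-u ^ 2 + u) * h3
  have hgu : g = u * h := by rw [hu]; linear_combination -g * e1
  refine ⟨e1, e2, hu1, hu3, hgu, fun h0 => ?_⟩
  have hg' : g' = u' * h' := by rw [hu']; linear_combination -g' * e1
  have hinv : u' = 2 - u := by linear_combination (2 - u) * hu1 + u' * h0
  have hN0 : g + g' - m = (h - h') * (u - 1) := by
    rw [hgu, hg', hinv, ← hhsum]; ring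
  rw [hN0]
  linear_combination (h - h') ^ 2 * h0

end CfsgLib.TwoCover.Symp
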