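import Cfsg.Agent.Lib.TwoCover.SympThreeCases

/-!
The case analysis in dimension six and characteristic three.
-/

set_option autoImplicit false

namespace CfsgLib.TwoCover.Symp

open Polynomial
open LinearMap (BilinForm)

variable {F : Type*} [Field F] [Finite F] [CharP F 3] {V : Type*} [AddCommGroup V] [Module F V]
  [FiniteDimensional F V] {B : BilinForm F V} {E : Type*} [Field E] [Finite E] [Algebra F E]

variable (hB : B.Nondegenerate) (hA : B.IsAlt) (hdim : Module.finrank F V = 6)

include hB hdim in
theorem injective_of_iso {g : Module.End F V} (hiso : ∀ a b, B (g a) (g b) = B a b) :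
    Function.Injective g :=
  (injective_iff_map_eq_zero g).2 fun z hz => hB.1 z fun c => by rw [← hiso z c, hz]; simp

/-- Nilpotent maps of `V` are killed by their sixth power. -/
theorem pow_six {N : Module.End F V} (hdim : Module.finrank F V = 6) {k : ℕ} (h : N ^ k = 0) :
    N ^ 6 = 0 := by
  rcases le_or_gt k 6 with hk | hk
  · rw [show 6 = k + (6 - k) by omega, pow_add, h, zero_mul]
  · have e := Module.End.ker_pow_eq_ker_pow_finrank_of_le (f := N) (m := k) (by omega)
    rw [hdim, h, LinearMap.ker_zero] at e
    exact LinearMap.ker_eq_top.1 e.symm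

variable (hE : Module.finrank F E = 3)

include hB hA hdim hE in
/-- Unipotent isometries. -/
theorem unipotent_cases {g g' : Module.End F V} (hg : g * g' = 1) (hg' : g' * g = 1)
    (hiso : ∀ a b, B (g a) (g b) = B a b) (hN6 : (g - 1) ^ 6 = 0) :
    PlaneInv B g ∨ FieldInv B E g := by
  have h2 := two_ne (F := F)
  set N := g - 1 with hN
  have hadjg : Adj B g g' := fun a b => by
    conv_lhs => rw [← show g (g' b) = b from LinearMap.congr_fun hg b, hiso]
  have hg'N : g' - 1 = -(g' * N) := by rw [hN, mul_sub, hg', mul_one, neg_sub]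
  have hadjN : Adj B N (-(g' * N)) := hg'N ▸ hadjg.sub adj_one
  have hcomm : Commute g' N := (show Commute g' g from hg'.trans hg.symm).sub_right (Commute.one_right g')
  have hadjk : ∀ k, N ^ (k + 1) = 0 → Adj B (N ^ k) (((-1 : F) ^ k) • N ^ k) := by
    intro k hk
    have h1 := hadjN.pow k
    have hgfix : ∀ j : ℕ, g' ^ j * N ^ k = N ^ k := by
      intro j
      induction j with
      | zero => rw [pow_zero, one_mul]
      | succ j ih =>
        have hgk : g' * N ^ k = N ^ k := by
          have e : g * N ^ k = N ^ k := by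
            have : N * N ^ k = 0 := by rw [← pow_succ', hk]
            rwa [hN, sub_mul, one_mul, sub_eq_zero] at this
          conv_lhs => rw [← e, ← mul_assoc, hg', one_mul]
        rw [pow_succ, mul_assoc, hgk, ih]
    rw [show -(g' * N) = (-1 : F) • (g' * N) from (neg_one_smul F (g' * N)).symm, _root_.smul_pow,
      hcomm.mul_pow, hgfix] at h1
    exact h1
  have hsym : ∀ k, N ^ (k + 1) = 0 → Odd k → ∀ a b, B a ((N ^ k) b) = B b ((N ^ k) a) := by
    intro k hk hodd a b
    have h := hadjk k hk b a
    rw [hodd.neg_one_pow, neg_one_smul, LinearMap.neg_apply, map_neg,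
      ← LinearMap.IsAlt.neg hA a ((N ^ k) b)] at h
    exact neg_inj.1 h
  have halt : ∀ k, N ^ (k + 1) = 0 → Even k → Adj B (N ^ k) (N ^ k) := by
    intro k hk hev
    have h := hadjk k hk
    rwa [hev.neg_one_pow, one_smul] at h
  have hdiag : ∀ k, N ^ (k + 1) = 0 → Odd k → N ^ k ≠ 0 → ∃ v, B v ((N ^ k) v) ≠ 0 := by
    intro k hk hodd hne
    by_contra hc
    push Not at hc
    refine hne (LinearMap.ext fun w => hB.1 _ fun v => ?_)
    have h := hc (v + w)
    rw [map_add (N ^ k), map_add B, LinearMap.add_apply, map_add, map_add, hc, hc,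
      hsym k hk hodd w v] at h
    have : (2 : F) * B v ((N ^ k) w) = 0 := by linear_combination h
    rw [← LinearMap.IsAlt.neg hA, (mul_eq_zero.1 this).resolve_left h2, neg_zero]
  have hgN : ∀ x, g x = x + N x := fun x => by simp [hN]
  by_cases h5 : N ^ 5 = 0
  swap
  · obtain ⟨v, hv⟩ := hdiag 5 hN6 (by decide) h5
    exact Or.inr (fieldInv_single hE hB hA hdim hiso hN6 hv)
  by_cases h4 : N ^ 4 = 0
  swap
  · obtain ⟨v, w, -, hle, -⟩ := exists_pair hA h5 h4 hB (halt 4 h5 (by decide))
    omega
  by_cases h3 : N ^ 3 = 0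
  swap
  · left
    obtain ⟨v, hv⟩ := hdiag 3 h4 (by decide) h3
    have hns : ∀ c : Unit → F, (∀ j, ∑ i, c i * B v ((N ^ 3) ((fun _ : Unit => v) i)) = 0) → c = 0 :=
      fun c hc => funext fun i => by
        have := hc ()
        simp [hv] at this
        exact this
    have hli := chain_indep (B := B) h4 (fun _ : Unit => v) hns
    set f : Fin (3 + 1) × Unit → V := fun p => (N ^ (p.1 : ℕ)) v with hf
    set W := Submodule.span F (Set.range f) with hWdef
    have hWN : ∀ a ∈ W, N a ∈ W := by
      intro a ha
      induction ha using Submodule.span_induction with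
      | mem x hx =>
        obtain ⟨p, rfl⟩ := hx
        show N ((N ^ (p.1 : ℕ)) v) ∈ W
        rw [← Module.End.mul_apply, ← pow_succ']
        by_cases hp : (p.1 : ℕ) + 1 < 4
        · exact Submodule.subset_span ⟨(⟨_, hp⟩, ()), rfl⟩
        · rw [show (p.1 : ℕ) + 1 = 4 by have := p.1.2; omega, h4]
          simp
      | zero => simp
      | add x y _ _ hx hy => rw [map_add]; exact W.add_mem hx hy
      | smul c x _ hx => rw [map_smul]; exact W.smul_mem _ hx
    have hWg : ∀ a ∈ W, g a ∈ W := fun a ha => by rw [hgN]; exact W.add_mem ha (hWN a ha)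
    have hWeq : W.map g = W := Submodule.eq_of_le_of_finrank_eq (Submodule.map_le_iff_le_comap.2 hWg)
      (Submodule.equivMapOfInjective g (injective_of_iso hB hdim hiso) W).finrank_eq.symm
    refine planeInv_of_invariant hB hA hdim hiso hWg (Submodule.disjoint_def.2 fun a ha hao => ?_) ?_
    · -- the radical is killed
      have horth : ∀ b, b ∈ B.orthogonal W → N b ∈ B.orthogonal W := fun b hb c hc => by
        obtain ⟨c, hc', rfl⟩ : c ∈ W.map g := hWeq.symm ▸ hc
        show B (g c) (N b) = 0
        rw [show N b = g b - b by rw [hgN]; abel, map_sub, hiso, hb c hc', hb _ (hWg c hc'), sub_zero]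
      have key : ∀ m a, a ∈ W → a ∈ B.orthogonal W → (N ^ m) a = 0 → a = 0 := by
        intro m
        induction m with
        | zero => intro a _ _ h; simpa using h
        | succ m ih =>
          intro a ha hao h
          have hz : N a = 0 := ih (N a) (hWN a ha) (horth a hao)
            (by rwa [← Module.End.mul_apply, ← pow_succ])
          obtain ⟨c, hc⟩ := (Submodule.mem_span_range_iff_exists_fun F).1 ha
          have hvW : v ∈ W := Submodule.subset_span ⟨(0, ()), rfl⟩
          have hshift := congrArg (fun x => N x) hc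
          simp only [hf, map_sum, map_smul, hz, Fintype.sum_prod_type, Fin.sum_univ_four,
            Finset.univ_unique, Finset.sum_singleton, ← Module.End.mul_apply, ← pow_succ'] at hshift
          rw [Fin.sum_univ_four] at hshift
          simp only [Fin.val_zero, Fin.val_one, Fin.val_two,
            show ((3 : Fin (3 + 1)) : ℕ) = 3 from rfl, show (3 + 1 : ℕ) = 4 from rfl, h4,
            LinearMap.zero_apply, smul_zero, add_zero] at hshift
          let d : Fin (3 + 1) × Unit → F := fun p =>
            ![0, c (0, ()), c (1, ()), c (2, ())] p.1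
          have hd := Fintype.linearIndependent_iff.1 hli d (by
            rw [Fintype.sum_prod_type, Fin.sum_univ_four]
            simpa [d, hf, add_assoc] using hshift)
          have c0 : c (0, ()) = 0 := by simpa [d] using hd (1, ())
          have c1 : c (1, ()) = 0 := by simpa [d] using hd (2, ())
          have c2 : c (2, ()) = 0 := by simpa [d] using hd (3, ())
          simp [hf, Fintype.sum_prod_type, Fin.sum_univ_four, c0, c1, c2] at hc
          have h0 := hao v hvW
          rw [← hc] at h0
          change B v (c (3, ()) • (N ^ 3) v) = 0 at h0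
          rw [map_smul, smul_eq_mul] at h0
          rw [← hc, (mul_eq_zero.1 h0).resolve_right hv, zero_smul]
      exact key 4 a ha hao (by rw [h4]; rfl)
    · right
      rw [hWdef, finrank_span_eq_card hli]
      simp
  by_cases h2' : N ^ 2 = 0
  swap
  · obtain ⟨v, w, hvw, -, -⟩ := exists_pair hA h3 h2' hB (halt 2 h3 (by decide))
    exact Or.inr (fieldInv_free hE hB hA hdim (u := g) (h := 1) (mul_one g).symm hiso (fun _ _ => rfl)
      (Commute.one_right g) h3 (halt 2 h3 (by decide)) hvw (A00 := 1) (A01 := 0) (A10 := 0) (A11 := 1)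
      (by ring) (by simp) (by simp))
  left
  by_cases h1 : N = 0
  · have hgid : ∀ x, g x = x := fun x => by rw [hgN, h1]; simp
    obtain ⟨v, hv⟩ : ∃ v : V, v ≠ 0 := by
      have : Nontrivial V := Module.nontrivial_of_finrank_pos (R := F) (by omega)
      exact exists_ne 0
    obtain ⟨w, hw⟩ : ∃ w, B v w ≠ 0 := by
      by_contra hc
      push Not at hc
      exact hv (hB.1 v hc)
    exact planeInv_of hw ⟨1, 0, by simp [hgid]⟩ ⟨0, 1, by simp [hgid]⟩
  · obtain ⟨v, hv⟩ := hdiag 1 h2' (by decide) (by rwa [pow_one])
    rw [pow_one] at hv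
    refine planeInv_of hv ⟨1, 1, by rw [hgN]; simp⟩ ⟨0, 1, ?_⟩
    rw [hgN, ← Module.End.mul_apply, ← pow_two, h2']
    simp

include hB hA hdim hE in
/-- Every isometry fixes a plane or is semilinear. -/
theorem plane_or_field {g g' : Module.End F V} (hg : g * g' = 1) (hg' : g' * g = 1)
    (hiso : ∀ a b, B (g a) (g b) = B a b) : PlaneInv B g ∨ FieldInv B E g := by
  classical
  have h2 := two_ne (F := F)
  have h3 := three_eq (F := F)
  have hadjg : Adj B g g' := fun a b => by
    conv_lhs => rw [← show g (g' b) = b from LinearMap.congr_fun hg b, hiso]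
  have hadjg' : Adj B g' g := fun a b => by
    conv_rhs => rw [← show g (g' a) = a from LinearMap.congr_fun hg a, hiso]
  set T := g + g' with hTdef
  have hT : Adj B T T := by
    have := hadjg.add hadjg'
    rwa [add_comm g' g] at this
  have hgT : Commute g T := (Commute.refl g).add_right (hg.trans hg'.symm)
  have hgadj : ∀ X, X ∈ Algebra.adjoin F ({T} : Set (Module.End F V)) → Commute g X := fun X hX => by
    refine Algebra.adjoin_induction (fun y hy => ?_) (fun r => (Algebra.commutes r g).symm)
      (fun a b _ _ ha hb => ha.add_right hb) (fun a b _ _ ha hb => ha.mul_right hb) hX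
    rw [Set.mem_singleton_iff.1 hy]; exact hgT
  by_cases hall : ∀ r : F[X], Irreducible r → r.Monic → r ∣ minpoly F T → r.natDegree = 3
  · obtain ⟨φ, hφ⟩ := exists_algHom_adjoin T E fun r hr hm hd => by rw [hE, hall r hr hm hd]
    obtain ⟨v, hv⟩ : ∃ v : V, v ≠ 0 := by
      have : Nontrivial V := Module.nontrivial_of_finrank_pos (R := F) (by omega)
      exact exists_ne 0
    obtain ⟨w, Ψ, hinj, -, hΨ, hlin⟩ :=
      exists_pairEmb hB hA h2 φ (fun e => adj_of_mem_adjoin hT (hφ e)) hv
    have : FiniteDimensional F E := Module.Finite.of_finite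
    let Ψ' : (E × E) ≃ₗ[F] V := LinearEquiv.ofBijective Ψ ⟨hinj,
      (LinearMap.injective_iff_surjective_of_finrank_eq_finrank
        (by rw [Module.finrank_prod, hE, hdim])).1 hinj⟩
    refine Or.inr ⟨Ψ'.symm, fun a b => ?_, AlgEquiv.refl, fun e p => ?_⟩
    · rw [← hΨ]
      exact congrArg₂ (fun x y => B x y) (Ψ'.apply_symm_apply a).symm (Ψ'.apply_symm_apply b).symm
    · rw [LinearEquiv.symm_symm]
      show Ψ'.symm (g (Ψ (e • p))) = e • Ψ'.symm (g (Ψ p))
      rw [hlin, ← Module.End.mul_apply, (hgadj _ (hφ e)).eq, Module.End.mul_apply]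
      apply Ψ'.injective
      rw [LinearEquiv.apply_symm_apply]
      show _ = Ψ (e • Ψ'.symm (g (Ψ p)))
      rw [hlin]
      exact congrArg _ (Ψ'.apply_symm_apply _).symm
  push Not at hall
  obtain ⟨r, hr, hrm, hrd, hr3⟩ := hall
  set S := aeval T r with hS
  set W := LinearMap.ker (S ^ 6) with hW
  have hrefl : B.IsRefl := fun a b h => hA.isRefl a b h
  have hS6 : Adj B (S ^ 6) (S ^ 6) := (adj_aeval hT r).pow 6
  have hgS : Commute g (S ^ 6) := (hgadj S (aeval_mem_adjoin_singleton _ _)).pow_right 6
  have hWg : ∀ a ∈ W, g a ∈ W := fun a ha => by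
    rw [LinearMap.mem_ker] at ha ⊢
    rw [← Module.End.mul_apply, ← hgS.eq, Module.End.mul_apply, ha, map_zero]
  have horth : B.orthogonal W = LinearMap.range (S ^ 6) := by
    refine (Submodule.eq_of_le_of_finrank_eq ?_ ?_).symm
    · rintro _ ⟨x, rfl⟩ a ha
      show B a ((S ^ 6) x) = 0
      rw [← hS6 a x, LinearMap.mem_ker.1 ha, map_zero, LinearMap.zero_apply]
    · have h := LinearMap.finrank_range_add_finrank_ker (S ^ 6 : Module.End F V)
      rw [← hW, hdim] at h
      rw [LinearMap.BilinForm.finrank_orthogonal hB, hdim]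
      omega
  have hdisj : Disjoint W (B.orthogonal W) := by
    rw [horth, Submodule.disjoint_def]
    rintro a ha ⟨x, rfl⟩
    have hx : x ∈ LinearMap.ker (S ^ 12) := by
      rw [LinearMap.mem_ker, show 12 = 6 + 6 from rfl, pow_add, Module.End.mul_apply]
      exact LinearMap.mem_ker.1 ha
    rwa [Module.End.ker_pow_eq_ker_pow_finrank_of_le (f := S) (m := 12) (by omega), hdim,
      LinearMap.mem_ker] at hx
  have hWpos : 0 < Module.finrank F W := by
    rw [Module.finrank_pos_iff_exists_ne_zero]
    by_contra hc
    push Not at hc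
    obtain ⟨s, hs⟩ := hrd
    have hinj : Function.Injective (S ^ 6 : Module.End F V) := (injective_iff_map_eq_zero _).2 fun a ha =>
      congrArg Subtype.val (hc ⟨a, LinearMap.mem_ker.2 ha⟩)
    have hSinj : Function.Injective S := fun a b e => hinj (by
      rw [show 6 = 5 + 1 from rfl, pow_succ, Module.End.mul_apply, Module.End.mul_apply, e])
    have hs0 : s ≠ 0 := fun e => minpoly.ne_zero (Algebra.IsIntegral.isIntegral (R := F) T)
      (by rw [hs, e, mul_zero])
    have hann : aeval T s = 0 := LinearMap.ext fun a => hSinj (by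
      rw [← Module.End.mul_apply, hS, ← map_mul, ← hs, minpoly.aeval]
      simp)
    have hle := natDegree_le_of_dvd (minpoly.dvd F T hann) hs0
    rw [hs, natDegree_mul hr.ne_zero hs0] at hle
    have := hr.natDegree_pos
    omega
  by_cases htop : W = ⊤
  swap
  · left
    have hlt : Module.finrank F W < 6 := hdim ▸ Submodule.finrank_lt htop
    refine planeInv_of_invariant hB hA hdim hiso hWg hdisj ?_
    -- an alternating non-degenerate form has even rank
    have hnd : (B.restrict W).Nondegenerate :=
      B.nondegenerate_restrict_of_disjoint_orthogonal hrefl hdisj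
    obtain ⟨m, b, -, -, -⟩ := CfsgLib.Forms.exists_symplectic_basis_nondeg (B.restrict W)
      (fun x => hA.self_eq_zero _) hnd.1
    have := Module.finrank_eq_card_basis b
    rw [Fintype.card_sum, Fintype.card_fin] at this
    omega
  -- the kernel is everything
  have hS60 : S ^ 6 = 0 := LinearMap.ker_eq_top.1 htop
  have hfac : ∀ s : F[X], Irreducible s → s ∣ minpoly F T → s.natDegree = r.natDegree := by
    intro s hs hsd
    have h1 : s ∣ r ^ 6 := hsd.trans (minpoly.dvd F T (by rw [map_pow, ← hS, hS60]))
    have h2 : s ∣ r := hs.prime.dvd_of_dvd_pow h1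
    exact natDegree_eq_of_degree_eq (degree_eq_degree_of_associated (hs.associated_of_dvd hr h2))
  by_cases hd1 : r.natDegree = 1
  swap
  · exfalso
    have := Fact.mk hr
    have hd2 : 2 ≤ r.natDegree := by have := hr.natDegree_pos; omega
    let pb := AdjoinRoot.powerBasis hr.ne_zero
    have : Module.Finite F (AdjoinRoot r) := pb.finite
    have : Finite (AdjoinRoot r) := Module.finite_of_finite F
    have hR : Module.finrank F (AdjoinRoot r) = r.natDegree := pb.finrank.trans rfl
    obtain ⟨φ, hφ⟩ := exists_algHom_adjoin T (AdjoinRoot r) fun s hs _ hsd => by rw [hR, hfac s hs hsd]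
    have hφa : ∀ e, Adj B (φ e) (φ e) := fun e => adj_of_mem_adjoin hT (hφ e)
    obtain ⟨v, hv⟩ : ∃ v : V, v ≠ 0 := by
      have : Nontrivial V := Module.nontrivial_of_finrank_pos (R := F) (by omega)
      exact exists_ne 0
    obtain ⟨w, Ψ, hinj, hΨv, hΨ, hlin⟩ := exists_pairEmb hB hA h2 φ hφa hv
    have hle := LinearMap.finrank_le_finrank_of_injective hinj
    rw [Module.finrank_prod, hR, hdim] at hle
    have hd : r.natDegree = 2 := by omega
    set Q := B.orthogonal (LinearMap.range Ψ) with hQ
    have hQdim : Module.finrank F Q = 2 := by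
      rw [hQ, LinearMap.BilinForm.finrank_orthogonal hB, hdim,
        LinearMap.finrank_range_of_inj hinj, Module.finrank_prod, hR, hd]
    have hQφ : ∀ e, ∀ a ∈ Q, φ e a ∈ Q := by
      rintro e a ha _ ⟨p, rfl⟩
      show B (Ψ p) (φ e a) = 0
      rw [← hφa e, ← hlin]
      exact ha _ ⟨_, rfl⟩
    obtain ⟨x, hxQ, hx0⟩ := Submodule.exists_mem_ne_zero_of_ne_bot (p := Q) fun e => by
      rw [e, finrank_bot] at hQdim; omega
    let L : AdjoinRoot r →ₗ[F] Q :=
      { toFun := fun e => ⟨φ e x, hQφ e x hxQ⟩
        map_add' := fun a b => by ext1; simp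
        map_smul' := fun a b => by ext1; simp }
    have hLinj : Function.Injective L := (injective_iff_map_eq_zero L).2 fun e he => by
      by_contra hne
      refine hx0 ?_
      have h1 : φ e⁻¹ (φ e x) = x := by
        rw [← Module.End.mul_apply, ← map_mul, inv_mul_cancel₀ hne, map_one, Module.End.one_apply]
      rw [show φ e x = 0 from congrArg Subtype.val he, map_zero] at h1
      exact h1.symm
    have hLsurj := (LinearMap.injective_iff_surjective_of_finrank_eq_finrank
      (by rw [hR, hd, hQdim])).1 hLinj
    refine hx0 (hB.1 x fun c => ?_)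
    obtain ⟨p, hp⟩ : ∃ p, ∀ q, bm F (AdjoinRoot r) p q = B c (Ψ q) :=
      ⟨((bm F (AdjoinRoot r)).toDual bm_nondeg).symm ((B c).comp Ψ), fun q =>
        LinearMap.BilinForm.apply_toDual_symm_apply (hB := bm_nondeg) _ q⟩
    have hcQ : c - Ψ p ∈ Q := by
      rintro _ ⟨q, rfl⟩
      refine hrefl _ _ ?_
      rw [map_sub, LinearMap.sub_apply, hΨ, hp, sub_self]
    obtain ⟨e, he⟩ := hLsurj ⟨_, hcQ⟩
    have e2 : c = Ψ p + φ e x := by rw [show φ e x = c - Ψ p from congrArg Subtype.val he]; abel
    rw [e2, map_add, hrefl _ _ (hxQ _ ⟨p, rfl⟩), zero_add, (adj_self_apply hA h2 (hφa e) x).2]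
  set μ := -r.coeff 0 with hμdef
  have hr1 : r = X - C μ := by rw [hμdef, map_neg, sub_neg_eq_add]; exact hrm.eq_X_add_C hd1
  have hN0 : (T - μ • 1) ^ 6 = 0 := by
    have : S = T - μ • 1 := by rw [hS, hr1, map_sub, aeval_X, aeval_C, Algebra.algebraMap_eq_smul_one]
    rw [← this, hS60]
  by_cases hμ1 : μ ^ 2 - 1 = 0
  · -- unipotent up to a sign
    have key : ∀ f f' : Module.End F V, f * f' = 1 → f' * f = 1 → (∀ a b, B (f a) (f b) = B a b) →
        (f + f' - (2 : F) • 1) ^ 6 = 0 → PlaneInv B f ∨ FieldInv B E f := by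
      intro f f' hf hf' hfiso h6
      refine unipotent_cases hB hA hdim hE hf hf' hfiso ?_
      have e : (f - 1) ^ 2 = (f + f' - (2 : F) • 1) * f := by
        rw [show (2 : F) • (1 : Module.End F V) = 1 + 1 by rw [show (2 : F) = 1 + 1 by norm_num, add_smul, one_smul]]
        simp only [sq, sub_mul, mul_sub, add_mul, one_mul, mul_one, hf']
        abel
      have hc : Commute (f + f' - (2 : F) • 1) f :=
        ((Commute.refl f).add_left (hf'.trans hf.symm)).sub_left ((Commute.one_left f).smul_left _)
      exact pow_six hdim (k := 2 * 6) (by rw [pow_mul, e, hc.mul_pow, h6, zero_mul])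
    have hμcases : μ = 1 ∨ μ = -1 := by
      have : (μ - 1) * (μ + 1) = 0 := by linear_combination hμ1
      exact (mul_eq_zero.1 this).imp sub_eq_zero.1 eq_neg_of_add_eq_zero_left
    rcases hμcases with e | e
    · have h := key (-g) (-g') (by rw [neg_mul_neg, hg]) (by rw [neg_mul_neg, hg'])
        (fun a b => by simp [hiso]) (by
          rw [show -g + -g' - (2 : F) • (1 : Module.End F V) = -(T - μ • 1) by
            rw [e, hTdef, show (2 : F) = -1 by linear_combination h3, one_smul, neg_one_smul]
            abel, Even.neg_pow (by decide), hN0])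
      simpa using h.imp PlaneInv.neg FieldInv.neg
    · exact key g g' hg hg' hiso (by
        rw [show (2 : F) = μ by rw [e]; linear_combination h3]; exact hN0)
  set N0 := T - μ • 1 with hN0def
  have hadj0 : Adj B N0 N0 := hT.sub (adj_one.smul μ)
  have hdown : ∀ k, 3 ≤ k → N0 ^ (k + 1) = 0 → N0 ^ k = 0 := fun k hk h => by
    by_contra hne
    obtain ⟨v, w, -, hle, -⟩ := exists_pair hA h hne hB (hadj0.pow k)
    omega
  have hcube : N0 ^ 3 = 0 :=
    hdown 3 le_rfl (hdown 4 (by norm_num) (hdown 5 (by norm_num) hN0))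
  have hgg : ∀ x, g (g x) = μ • g x - x + g (N0 x) := fun x => by
    have e : g (g' x) = x := LinearMap.congr_fun hg x
    simp only [hN0def, hTdef, LinearMap.sub_apply, LinearMap.add_apply, LinearMap.smul_apply,
      Module.End.one_apply, map_sub, map_add, map_smul, e]
    abel
  have hanti : ∀ x y, B x (g y) + B y (g x) = B x ((g - g') y) := fun x y => by
    rw [LinearMap.sub_apply, map_sub, ← hadjg x y, ← LinearMap.IsAlt.neg hA (g x) y]
    ring
  have hdd : ∀ x, (g - g') ((g - g') x) = (μ ^ 2 - 1) • x + (T ((N0) x) + μ • N0 x) := fun x => by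
    have e1 : g (g' x) = x := LinearMap.congr_fun hg x
    have e2 : g' (g x) = x := LinearMap.congr_fun hg' x
    have h41 : (-1 : F) = 2 := by linear_combination -h3
    simp only [hN0def, hTdef, LinearMap.sub_apply, LinearMap.add_apply, LinearMap.smul_apply,
      Module.End.one_apply, map_sub, map_add, map_smul, e1, e2]
    have h4 : (4 : F) • x = x := by rw [show (4 : F) = 1 by linear_combination h3, one_smul]
    linear_combination (norm := module) -h4
  by_cases hsq : N0 ^ 2 = 0
  · left
    -- a plane inside the kernel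
    obtain ⟨a, b, ha, hb, hab⟩ : ∃ a b, N0 a = 0 ∧ N0 b = 0 ∧ B a b ≠ 0 := by
      by_contra hc
      push Not at hc
      set K := LinearMap.ker N0 with hK
      have hKle : K ≤ B.orthogonal K := fun b hb a ha => hc a b (LinearMap.mem_ker.1 ha) (LinearMap.mem_ker.1 hb)
      have h1 := Submodule.finrank_mono hKle
      rw [LinearMap.BilinForm.finrank_orthogonal hB, hdim] at h1
      have hrk : LinearMap.range N0 ≤ K := by
        rintro _ ⟨x, rfl⟩
        rw [LinearMap.mem_ker, ← Module.End.mul_apply, ← pow_two, hsq, LinearMap.zero_apply]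
      have h2' := Submodule.finrank_mono hrk
      have h3' := N0.finrank_range_add_finrank_ker
      rw [hdim, ← hK] at h3'
      have hN0ne : N0 ^ 1 ≠ 0 := fun e => by
        rw [pow_one] at e
        rw [hK, e, LinearMap.ker_zero, finrank_top, hdim] at h1
        omega
      obtain ⟨v, w, hvw, -, -⟩ := exists_pair hA (k := 1) hsq hN0ne hB (hadj0.pow 1)
      rw [pow_one] at hvw
      let L : V →ₗ[F] F × F := (B v ∘ₗ N0).prod (B w ∘ₗ N0)
      have hKL : K < LinearMap.ker L := by
        refine lt_of_le_of_ne (fun x hx => by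
          rw [LinearMap.mem_ker] at hx ⊢
          simp [L, hx]) fun e => ?_
        have h4 := L.finrank_range_add_finrank_ker
        have h5 := Submodule.finrank_le (LinearMap.range L)
        rw [Module.finrank_prod, Module.finrank_self] at h5
        rw [← e, hdim] at h4
        omega
      obtain ⟨x, hxL, hxK⟩ := SetLike.exists_of_lt hKL
      rw [LinearMap.mem_ker] at hxL
      simp [L] at hxL
      refine hxK (LinearMap.mem_ker.2 (hB.1 _ fun y => ?_))
      have hLK : LinearMap.ker L = K ⊔ F ∙ x := by
        refine (Submodule.eq_of_le_of_finrank_le (sup_le hKL.le ?_) ?_).symm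
        · rw [Submodule.span_singleton_le_iff_mem, LinearMap.mem_ker]; simp [L, hxL]
        · have hlt : K < K ⊔ F ∙ x := lt_of_le_of_ne le_sup_left fun e =>
            hxK (e ▸ Submodule.mem_sup_right (Submodule.mem_span_singleton_self x))
          have h4 := Submodule.finrank_lt_finrank_of_lt hlt
          have h5 := L.finrank_range_add_finrank_ker
          have hsurj : LinearMap.range L = ⊤ := by
            refine LinearMap.range_eq_top.2 fun p => ⟨(p.1 / B v (N0 w)) • w - (p.2 / B v (N0 w)) • v, ?_⟩
            have hvv : B v (N0 v) = 0 := (adj_self_apply hA h2 hadj0 v).2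
            have hww : B w (N0 w) = 0 := (adj_self_apply hA h2 hadj0 w).2
            have hwv : B w (N0 v) = -B v (N0 w) := by rw [← hadj0 w v, ← LinearMap.IsAlt.neg hA]
            simp [L, hvv, hww, hwv, Prod.ext_iff, hvw]
          rw [hsurj, finrank_top, Module.finrank_prod, Module.finrank_self, hdim] at h5
          omega
      set c := B v (N0 w) with hc'
      have hvv : B v (N0 v) = 0 := (adj_self_apply hA h2 hadj0 v).2
      have hww : B w (N0 w) = 0 := (adj_self_apply hA h2 hadj0 w).2
      have hwv : B w (N0 v) = -c := by rw [← hadj0 w v, ← LinearMap.IsAlt.neg hA, hc']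
      have hy : y - ((B v (N0 y) / c) • w - (B w (N0 y) / c) • v) ∈ K ⊔ F ∙ x := by
        rw [← hLK, LinearMap.mem_ker]
        simp [L, hvv, hww, hwv, ← hc', hvw, Prod.ext_iff]
      obtain ⟨k, hk, t, ht, hkt⟩ := Submodule.mem_sup.1 hy
      obtain ⟨t, rfl⟩ := Submodule.mem_span_singleton.1 ht
      rw [eq_sub_iff_add_eq] at hkt
      rw [hadj0, ← hkt]
      simp only [map_add, map_sub, map_smul, LinearMap.mem_ker.1 hk, smul_eq_mul]
      rw [← hadj0 x v, ← hadj0 x w, ← LinearMap.IsAlt.neg hA v, ← LinearMap.IsAlt.neg hA w, hxL.1, hxL.2,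
        (adj_self_apply hA h2 hadj0 x).2]
      simp
    obtain ⟨v, hv, hvg⟩ : ∃ v, N0 v = 0 ∧ B v (g v) ≠ 0 := by
      by_contra hc
      push Not at hc
      have hz : ∀ x y, N0 x = 0 → N0 y = 0 → B x ((g - g') y) = 0 := fun x y hx hy => by
        have h := hc (x + y) (by rw [map_add, hx, hy, add_zero])
        rw [map_add g, map_add B, LinearMap.add_apply, map_add, map_add, hc x hx, hc y hy] at h
        rw [← hanti]; linear_combination h
      have hNg : Commute g N0 := hgT.sub_right ((Commute.one_right g).smul_right μ)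
      have hNg' : Commute g' N0 := by
        refine ((show Commute g' g from hg'.trans hg.symm).add_right (Commute.refl g')).sub_right
          ((Commute.one_right g').smul_right μ)
      have hb' : N0 ((g - g') b) = 0 := by
        rw [← Module.End.mul_apply, ← (hNg.sub_left hNg').eq, Module.End.mul_apply, hb, map_zero]
      have h := hz a ((g - g') b) ha hb'
      rw [hdd, hb, map_zero, smul_zero, add_zero, add_zero, map_smul, smul_eq_mul] at h
      exact hab ((mul_eq_zero.1 h).resolve_left hμ1)
    refine planeInv_of hvg ⟨0, 1, by simp⟩ ⟨-1, μ, ?_⟩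
    rw [hgg, hv, map_zero]
    module
  -- free case
  right
  set s : Set (Module.End F V) := {g, g'} with hs
  let R := Algebra.adjoin F s
  letI : CommRing R := Algebra.adjoinCommRingOfComm F (by
    rintro a (rfl | rfl) b (rfl | rfl) <;> simp [hg, hg'])
  let G : R := ⟨g, Algebra.subset_adjoin (by simp [hs])⟩
  let G' : R := ⟨g', Algebra.subset_adjoin (by simp [hs])⟩
  have hGT : ((G + G' - algebraMap F R μ : R) : Module.End F V) = N0 := by
    show g + g' - algebraMap F (Module.End F V) μ = _
    rw [Algebra.algebraMap_eq_smul_one]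
  obtain ⟨e1, e2, eu, eN, egu, e0⟩ := semisimple_part (R := R) (g := G) (g' := G') (Subtype.ext hg) hμ1
    (Subtype.ext (by
      show ((G + G' - algebraMap F R μ : R) : Module.End F V) ^ 3 = 0
      rw [hGT, hcube])) _ _ _ _ rfl rfl rfl rfl
  set h : Module.End F V := (μ ^ 2 - 1)⁻¹ • (g ^ 3 + μ • 1) with hhdef
  set h' : Module.End F V := (μ ^ 2 - 1)⁻¹ • (g' ^ 3 + μ • 1) with hh'def
  set u := g * h' with hudef
  set u' := g' * h with hu'def
  have E1 : h * h' = 1 := by
    have := congrArg Subtype.val e1
    simpa [G, G', hhdef, hh'def, hudef, Algebra.algebraMap_eq_smul_one] using this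
  have E1' : h' * h = 1 := by
    have := congrArg Subtype.val (mul_comm _ _ |>.trans e1)
    simpa [G, G', hhdef, hh'def, hudef, Algebra.algebraMap_eq_smul_one] using this
  have E2 : h * h = μ • h - 1 := by
    have := congrArg Subtype.val e2
    simpa [G, G', hhdef, hh'def, hudef, Algebra.algebraMap_eq_smul_one] using this
  have EN : (u - 1) ^ 3 = 0 := by
    have := congrArg Subtype.val eN
    simpa [G, G', hhdef, hh'def, hudef, Algebra.algebraMap_eq_smul_one] using this
  have Egu : g = u * h := by
    have := congrArg Subtype.val egu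
    simpa [G, G', hhdef, hh'def, hudef, Algebra.algebraMap_eq_smul_one] using this
  have Euh : Commute u h := by
    have := congrArg Subtype.val (mul_comm (G * ((μ ^ 2 - 1)⁻¹ • (G' ^ 3 + algebraMap F R μ)))
      ((μ ^ 2 - 1)⁻¹ • (G ^ 3 + algebraMap F R μ)))
    simp only [G, G'] at this
    simpa [Commute, SemiconjBy, hudef, hhdef, hh'def, Algebra.algebraMap_eq_smul_one] using this
  have hu2 : (u - 1) ^ 2 ≠ 0 := fun e => by
    have := congrArg Subtype.val (e0 (Subtype.ext (by
      simpa [G, G', hhdef, hh'def, hudef, Algebra.algebraMap_eq_smul_one] using e)))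
    exact hsq (by simpa [G, G', hN0def, hTdef, Algebra.algebraMap_eq_smul_one] using this)
  have hadjh : Adj B h h' := ((hadjg.pow 3).add (adj_one.smul μ)).smul _
  have hadjh' : Adj B h' h := ((hadjg'.pow 3).add (adj_one.smul μ)).smul _
  have hhiso : ∀ a b, B (h a) (h b) = B a b := fun a b => by
    rw [hadjh, ← Module.End.mul_apply, E1', Module.End.one_apply]
  have hh'iso : ∀ a b, B (h' a) (h' b) = B a b := fun a b => by
    rw [hadjh', ← Module.End.mul_apply, E1, Module.End.one_apply]
  have huiso : ∀ a b, B (u a) (u b) = B a b := fun a b => by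
    rw [hudef, Module.End.mul_apply, Module.End.mul_apply, hiso, hh'iso]
  set M := u - 1 with hM
  have hM3 : M ^ 3 = 0 := EN
  have hM2adj : Adj B (M ^ 2) (M ^ 2) := by
    intro a c
    have key : ∀ x y, B (M x) ((M ^ 2) y) = 0 := fun x y => by
      have hfix : u ((M ^ 2) y) = (M ^ 2) y := by
        have h1 := LinearMap.congr_fun hM3 y
        rw [pow_succ' M 2, Module.End.mul_apply, hM, LinearMap.sub_apply, Module.End.one_apply,
          LinearMap.zero_apply] at h1
        exact sub_eq_zero.1 h1
      rw [hM, LinearMap.sub_apply, Module.End.one_apply, map_sub, LinearMap.sub_apply, ← hM]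
      conv_lhs => arg 1; rw [← hfix, huiso]
      rw [sub_self]
    have hexp : ∀ x y, B (M x) y + B x (M y) + B (M x) (M y) = 0 := fun x y => by
      have h1 := huiso x y
      rw [show u x = x + M x by simp [hM], show u y = y + M y by simp [hM], map_add B,
        LinearMap.add_apply, map_add, map_add] at h1
      linear_combination h1
    simp only [pow_two, Module.End.mul_apply] at key ⊢
    linear_combination hexp (M a) c - hexp a (M c) + key a c + key c a + LinearMap.IsAlt.neg hA (M c) (M (M a))
  obtain ⟨v, hv⟩ : ∃ v, B v ((M ^ 2) (h v)) ≠ 0 := by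
    by_contra hc
    push Not at hc
    refine hu2 (LinearMap.ext fun x => hB.1 _ fun a => ?_)
    have hMh : Commute (M ^ 2) h := (Euh.sub_left (Commute.one_left h)).pow_left 2
    have key : ∀ x y, B x ((M ^ 2) ((h - h') y)) = 0 := fun x y => by
      have h1 := hc (x + y)
      rw [map_add h, map_add (M ^ 2), map_add B, LinearMap.add_apply, map_add, map_add, hc, hc] at h1
      have h4 : B y ((M ^ 2) (h x)) = -B x ((M ^ 2) (h' y)) := by
        rw [← hM2adj y (h x), ← LinearMap.IsAlt.neg hA (h x) ((M ^ 2) y), hadjh, ← Module.End.mul_apply h',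
          ← (show Commute (M ^ 2) h' from ?_).eq, Module.End.mul_apply]
        show Commute (M ^ 2) h'
        calc (M ^ 2) * h' = h' * h * (M ^ 2) * h' := by rw [E1', one_mul]
          _ = h' * ((M ^ 2) * h) * h' := by rw [hMh.eq, mul_assoc h' h]
          _ = h' * (M ^ 2) := by rw [mul_assoc, mul_assoc, E1, mul_one]
      rw [LinearMap.sub_apply, map_sub, map_sub]
      linear_combination h1 - h4
    have hhh : ∀ y, (h - h') ((h - h') y) = (μ ^ 2 - 1) • y := fun y => by
      have hsum : h + h' = μ • 1 := by
        have := congrArg (fun z => h' * z) E2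
        simp only [mul_sub, mul_one, ← mul_assoc, E1', one_mul, mul_smul_comm] at this
        rw [this]; abel
      have e' : h' = μ • 1 - h := eq_sub_of_add_eq' hsum
      have e4 : h (h y) = μ • h y - y := LinearMap.congr_fun E2 y
      rw [e']
      simp only [LinearMap.sub_apply, LinearMap.smul_apply, Module.End.one_apply, map_sub, map_smul, e4]
      have h4 : (4 : F) • y = y := by rw [show (4 : F) = 1 by linear_combination h3, one_smul]
      linear_combination (norm := module) -h4
    have h1 := key a ((μ ^ 2 - 1)⁻¹ • (h - h') x)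
    rw [map_smul, hhh, inv_smul_smul₀ hμ1] at h1
    rw [← LinearMap.IsAlt.neg hA, h1, neg_zero]
  exact fieldInv_free hE hB hA hdim Egu huiso hhiso Euh EN hM2adj (v := v) (w := h v) hv
    (A00 := 0) (A01 := 1) (A10 := -1) (A11 := μ) (by ring) (by simp) (by
      rw [← Module.End.mul_apply, E2]; simp [sub_eq_add_neg, add_comm])

end CfsgLib.TwoCover.Symp
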