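import Cfsg.Agent.Lib.TwoCover.Common
import Cfsg.Agent.Lib.Classical.SympTrans

/-!
Two-covering of symplectic groups in characteristic two by the two kinds of orthogonal groups
(Dye): every symplectic map fixes a quadratic form polarising to the alternating form, and there
are at most two classes of such forms.
-/

set_option autoImplicit false

namespace CfsgLib.TwoCover

open Matrix Cfsg CfsgLib.Classical.SympTrans

variable {F : Type*} [Field F] {m : ℕ}

local notation "V" => (Fin m ⊕ Fin m → F)
local notation "G" => Matrix.symplecticGroup (Fin m) F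
local notation "ω" => sympForm m F

/-- The hyperbolic quadratic form, changed by the square of the pairing with `c`. -/
def qForm (c : V) (x : V) : F := (∑ i : Fin m, x (.inl i) * x (.inr i)) + (ω c x) ^ 2

/-- The symplectic maps preserving `qForm c`. -/
def qStab (c : V) : Subgroup G where
  carrier := {g | ∀ x, qForm c (app g x) = qForm c x}
  one_mem' x := by rw [app_one]
  mul_mem' {g h} hg hh x := by rw [app_mul, hg, hh]
  inv_mem' {g} hg x := by
    have h := hg (app g⁻¹ x)
    rw [app_inv'] at h
    exact h.symm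

theorem sympForm_eq_sum (x y : V) :
    ω x y = ∑ i : Fin m, (x (.inr i) * y (.inl i) - x (.inl i) * y (.inr i)) := by
  have e : y = (∑ i : Fin m, y (.inl i) • (Pi.single (.inl i) 1 : V)) +
      ∑ i : Fin m, y (.inr i) • (Pi.single (.inr i) 1 : V) := by
    rw [← Fintype.sum_sum_type (fun j => y j • (Pi.single j 1 : V))]
    funext j
    simp [Finset.sum_apply, Pi.single_apply]
  let L : V →ₗ[F] F :=
    { toFun := fun y => ω x y, map_add' := f_add_right x, map_smul' := fun a y => f_smul_right a x y }
  show L y = _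
  conv_lhs => rw [e]
  rw [map_add, map_sum, map_sum, Finset.sum_sub_distrib, sub_eq_add_neg, ← Finset.sum_neg_distrib]
  refine congrArg₂ (· + ·) (Finset.sum_congr rfl fun i _ => ?_) (Finset.sum_congr rfl fun i _ => ?_)
  · rw [map_smul, show L (Pi.single (.inl i) 1) = x (.inr i) from f_inl x i, smul_eq_mul, mul_comm]
  · rw [map_smul, show L (Pi.single (.inr i) 1) = -x (.inl i) from f_inr x i, smul_eq_mul]
    ring

variable (h2 : (2 : F) = 0)
include h2

theorem qForm_add (c x y : V) : qForm c (x + y) = qForm c x + qForm c y + ω x y := by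
  rw [qForm, qForm, qForm, f_add_right, sympForm_eq_sum x y]
  have e : ∀ i : Fin m, (x + y) (.inl i) * (x + y) (.inr i) = x (.inl i) * x (.inr i) +
      y (.inl i) * y (.inr i) + (x (.inr i) * y (.inl i) - x (.inl i) * y (.inr i)) := fun i => by
    simp only [Pi.add_apply]
    linear_combination (x (.inl i) * y (.inr i)) * h2
  rw [Finset.sum_congr rfl fun i _ => e i, Finset.sum_add_distrib, Finset.sum_add_distrib]
  linear_combination (ω c x * ω c y) * h2

omit h2 in
theorem qForm_smul (c x : V) (a : F) : qForm c (a • x) = a ^ 2 * qForm c x := by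
  rw [qForm, qForm, f_smul_right, mul_add, Finset.mul_sum, mul_pow]
  congr 1
  exact Finset.sum_congr rfl fun i _ => by simp only [Pi.smul_apply, smul_eq_mul]; ring

theorem qForm_shift (c d x : V) : qForm (c + d) x = qForm c x + (ω d x) ^ 2 := by
  rw [qForm, qForm, f_add_left]
  linear_combination (ω c x * ω d x) * h2

theorem qForm_T (c w x : V) (a : F) :
    qForm c (app (T w a) x) = qForm c x + (a + a ^ 2 * qForm c w) * (ω x w) ^ 2 := by
  rw [app_T, qForm_add h2, qForm_smul, f_smul_right]
  ring

theorem sq_injective {a b : F} (h : a ^ 2 = b ^ 2) : a = b := by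
  have : (a - b) ^ 2 = 0 := by linear_combination h + (b ^ 2 - a * b) * h2
  exact sub_eq_zero.1 (pow_eq_zero_iff two_ne_zero |>.1 this)

variable [Finite F]

theorem exists_sqrt (x : F) : ∃ s : F, s ^ 2 = x :=
  Finite.surjective_of_injective (f := fun s : F => s ^ 2) (fun _ _ h => sq_injective h2 h) x

/-- Every symplectic map fixes one of the forms. -/
theorem exists_mem_qStab (g : G) : ∃ c : V, g ∈ qStab c := by
  classical
  set D : V → F := fun x => qForm 0 (app g x) + qForm 0 x with hD
  choose s hs using fun x => exists_sqrt h2 (D x)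
  let L : V →ₗ[F] F :=
    { toFun := s
      map_add' := fun x y => sq_injective h2 (by
        rw [hs, hD]
        simp only
        rw [app_add, qForm_add h2, qForm_add h2, f_app]
        have e1 := hs x; have e2 := hs y
        simp only [hD] at e1 e2
        linear_combination -e1 - e2 + (ω x y - s x * s y) * h2)
      map_smul' := fun a x => sq_injective h2 (by
        rw [hs, hD]
        simp only [app_smul, qForm_smul, RingHom.id_apply, smul_eq_mul]
        have e1 := hs x
        simp only [hD] at e1
        linear_combination -(a ^ 2) * e1) }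
  let M : V →ₗ[F] V :=
    { toFun := fun x => app g x + x
      map_add' := fun x y => by rw [app_add]; abel
      map_smul' := fun a x => by rw [app_smul, RingHom.id_apply, smul_add] }
  have hker : LinearMap.ker M ≤ LinearMap.ker L := fun x hx => by
    have e : app g x = x := by
      have h : app g x + x = 0 := hx
      rw [eq_neg_of_add_eq_zero_left h]
      funext j
      show -x j = x j
      linear_combination -(x j) * h2
    refine sq_injective h2 (a := s x) (b := 0) ?_
    rw [hs, hD]
    simp only [e]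
    linear_combination qForm 0 x * h2
  obtain ⟨f, hf⟩ : L ∈ LinearMap.range M.dualMap := by
    rw [LinearMap.range_dualMap_eq_dualAnnihilator_ker, Submodule.mem_dualAnnihilator]
    exact fun x hx => hker hx
  let P : V →ₗ[F] Module.Dual F V := LinearMap.mk₂ F (ω) f_add_left f_smul_left f_add_right f_smul_right
  obtain ⟨c, hc⟩ : ∃ c, P c = f := by
    refine (LinearMap.injective_iff_surjective_of_finrank_eq_finrank
      Subspace.dual_finrank_eq.symm).1 ?_ f
    exact (injective_iff_map_eq_zero P).2 fun u hu =>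
      eq_zero_of_f u fun v => LinearMap.congr_fun hu v
  refine ⟨c, fun x => ?_⟩
  have hq : ∀ y, qForm c y = qForm 0 y + (f y) ^ 2 := fun y => by
    rw [← zero_add c, qForm_shift h2, ← hc]; rfl
  have h1 : f (app g x) + f x = s x := by
    rw [← map_add]; exact LinearMap.congr_fun hf x
  have e1 := hs x
  simp only [hD] at e1
  rw [hq, hq]
  linear_combination -e1 - (s x + f (app g x) + f x) * h1 +
    ((f (app g x)) ^ 2 - qForm 0 x + f x * f (app g x)) * h2

omit [Finite F] in
theorem conj_mem {c d : V} {t g : G} (h : ∀ x, qForm c (app t x) = qForm d x) (hg : g ∈ qStab d) :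
    t * g * t⁻¹ ∈ qStab c := fun x => by
  rw [app_mul, app_mul, h, hg, ← h, app_inv']

omit [Finite F] in
theorem exists_transport (c c' : V) {y : F} (h : qForm c (c + c') = y ^ 2 + y) :
    ∃ t : G, ∀ x, qForm c (app t x) = qForm c' x := by
  set w := c + c' with hw
  have hc' : c' = c + w := by
    rw [hw]; funext j; simp only [Pi.add_apply]; linear_combination -(c j) * h2
  obtain ⟨a, ha⟩ : ∃ a : F, a + a ^ 2 * qForm c w = 1 := by
    rcases eq_or_ne (qForm c w) 0 with e | e
    · exact ⟨1, by rw [e]; ring⟩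
    · exact ⟨y / qForm c w, by field_simp; linear_combination -h⟩
  refine ⟨T w a, fun x => ?_⟩
  rw [qForm_T h2, ha, hc', qForm_shift h2, f_swap w x, one_mul, neg_sq]

theorem exists_conj_mem (g : G) {c₁ : V} (hc₁ : ∀ y : F, qForm 0 c₁ ≠ y ^ 2 + y) :
    ∃ x : G, x * g * x⁻¹ ∈ qStab (0 : V) ∨ x * g * x⁻¹ ∈ qStab c₁ := by
  classical
  obtain ⟨c, hc⟩ := exists_mem_qStab h2 g
  by_cases h : ∃ y : F, qForm 0 c = y ^ 2 + y
  · obtain ⟨y, hy⟩ := h
    obtain ⟨t, ht⟩ := exists_transport h2 0 c (y := y) (by rwa [zero_add])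
    exact ⟨t, Or.inl (conj_mem h2 ht hc)⟩
  push Not at h
  let p : F →+ F :=
    { toFun := fun t => t ^ 2 + t
      map_zero' := by ring
      map_add' := fun a b => by linear_combination (a * b) * h2 }
  have hker : Nat.card p.ker = 2 := by
    have e : (p.ker : Set F) = {0, 1} := by
      ext t
      simp only [SetLike.mem_coe, AddMonoidHom.mem_ker, Set.mem_insert_iff, Set.mem_singleton_iff]
      refine ⟨fun (ht : t ^ 2 + t = 0) => ?_, ?_⟩
      · have : t * (t - 1) = 0 := by linear_combination ht - t * h2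
        exact (mul_eq_zero.1 this).imp_right sub_eq_zero.1
      · rintro (rfl | rfl)
        · show (0 : F) ^ 2 + 0 = 0; ring
        · show (1 : F) ^ 2 + 1 = 0; linear_combination h2
    show Nat.card (p.ker : Set F) = 2
    rw [e, Nat.card_coe_set_eq, Set.ncard_pair zero_ne_one]
  have hidx : p.range.index = 2 := by
    have h1 := p.range.card_mul_index
    have h2' := p.ker.card_mul_index
    rw [AddSubgroup.index_ker, hker, ← h1, mul_comm 2] at h2'
    exact (Nat.eq_of_mul_eq_mul_left Nat.card_pos h2').symm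
  have hz : qForm 0 c + qForm 0 c₁ ∈ p.range := by
    rw [AddSubgroup.add_mem_iff_of_index_two hidx]
    exact ⟨fun ⟨y, hy⟩ => absurd hy.symm (h y), fun ⟨y, hy⟩ => absurd hy.symm (hc₁ y)⟩
  obtain ⟨y, hy⟩ := hz
  obtain ⟨t, ht⟩ := exists_transport h2 c₁ c (y := y + ω c₁ c) (by
    have e : qForm c₁ (c₁ + c) = qForm 0 (c₁ + c) + (ω c₁ (c₁ + c)) ^ 2 := by
      rw [← qForm_shift h2, zero_add]
    rw [e, qForm_add h2, f_add_right, f_self, zero_add]
    have hy' : y ^ 2 + y = qForm 0 c + qForm 0 c₁ := hy
    linear_combination -hy' - y * ω c₁ c * h2)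
  exact ⟨t, Or.inr (conj_mem h2 ht hc)⟩

theorem qStab_not_normal (hm : 2 ≤ m) (c : V) :
    ∃ a ∈ qStab c, ∃ x : G, x * a * x⁻¹ ∉ qStab c := by
  classical
  let i0 : Fin m := ⟨0, by omega⟩
  let i1 : Fin m := ⟨1, hm⟩
  set u : V := Pi.single (.inl i0) 1 with hu
  set v : V := Pi.single (.inl i1) 1 with hv
  set u' : V := Pi.single (.inr i0) 1 with hu'
  have huv : u + v ≠ 0 := fun e => by
    have := congrFun e (.inl i0)
    have hne : i0 ≠ i1 := fun e => by simpa [i0, i1] using congrArg Fin.val e
    simp [u, v, hne] at this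
  have hωuv : ω u v = 0 := by rw [hv, f_inl]; simp [u]
  have hωuu : ω u u' ≠ 0 := by rw [hu', f_inr]; simp [u]
  obtain ⟨w₀, hw₀⟩ : ∃ w, qForm c w ≠ 0 := by
    by_contra hcon
    push Not at hcon
    apply hωuu
    have := qForm_add h2 c u u'
    rw [hcon, hcon, hcon] at this
    linear_combination -this
  obtain ⟨r, hr⟩ := exists_sqrt h2 (qForm c w₀)⁻¹
  have hw1 : qForm c (r • w₀) = 1 := by rw [qForm_smul, hr, inv_mul_cancel₀ hw₀]
  obtain ⟨w', hw'0, hw'1⟩ : ∃ w', w' ≠ 0 ∧ qForm c w' ≠ 1 := by
    by_contra hcon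
    push Not at hcon
    have := qForm_add h2 c u v
    rw [hcon u (by simp [u]), hcon v (by simp [v]), hcon _ huv, hωuv] at this
    refine one_ne_zero (α := F) ?_
    linear_combination -this
  have hw10 : r • w₀ ≠ 0 := fun e => by
    have h0 : qForm c (0 : V) = 0 := by rw [← zero_smul F (0 : V), qForm_smul]; ring
    rw [e, h0] at hw1
    exact zero_ne_one hw1
  refine ⟨T (r • w₀) 1, fun x => ?_, ?_⟩
  · rw [qForm_T h2, hw1]; linear_combination (ω x (r • w₀)) ^ 2 * h2
  obtain ⟨x, -, hx⟩ := exists_move (k := 0) (mem_W_zero (r • w₀)) (mem_W_zero w') hw10 hw'0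
  refine ⟨x, fun hmem => ?_⟩
  rw [conj_T, hx] at hmem
  obtain ⟨z, hz⟩ : ∃ z, ω z w' ≠ 0 := by
    by_contra hcon
    push Not at hcon
    exact hw'0 (eq_zero_of_f w' fun z => by rw [f_swap, hcon z, neg_zero])
  have h := hmem z
  rw [qForm_T h2] at h
  have h' : (1 + qForm c w') * (ω z w') ^ 2 = 0 := by linear_combination h
  rcases mul_eq_zero.1 h' with e | e
  · exact hw'1 (by linear_combination e - h2)
  · exact hz (pow_eq_zero_iff two_ne_zero |>.1 e)

/-- `PSp_{2m}(F)` is two-covered in characteristic two. -/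
theorem covered_psp_two (hm : 2 ≤ m) : Covered (PSp m F) := by
  classical
  obtain ⟨a, ha⟩ : ∃ a : F, ∀ y : F, a ≠ y ^ 2 + y := by
    by_contra h
    push Not at h
    have hs : Function.Surjective fun y : F => y ^ 2 + y := fun a => (h a).imp fun _ => Eq.symm
    exact zero_ne_one (α := F) ((Finite.injective_iff_surjective.2 hs) (by
      show (0 : F) ^ 2 + 0 = 1 ^ 2 + 1
      linear_combination -h2))
  let i : Fin m := ⟨0, by omega⟩
  set c₁ : V := Pi.single (.inl i) 1 + a • Pi.single (.inr i) 1 with hc
  have hc₁ : qForm 0 c₁ = a := by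
    rw [qForm, f_zero_left, Finset.sum_eq_single i]
    · simp [c₁]
    · intro j _ hj
      simp [c₁, hj]
    · simp
  refine covered_quotient le_rfl (qStab_not_normal h2 hm (0 : V)) (qStab_not_normal h2 hm c₁)
    fun g => ⟨1, one_mem _, ?_⟩
  rw [mul_one]
  exact exists_conj_mem h2 g (c₁ := c₁) (hc₁ ▸ ha)

end CfsgLib.TwoCover
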