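import Cfsg.Agent.Lib.TwoCover.UnitaryMove
import Cfsg.Agent.Lib.Classical.UnitarySimple

/-!
Two-covering of `PSU₄(q)`: the stabilisers of a non-isotropic point and of a totally isotropic line.
-/

set_option autoImplicit false

namespace CfsgLib.TwoCover

open Polynomial Matrix Cfsg CfsgLib.Classical.Herm
open CfsgLib.ClassicalAut (Unitary.Conj Unitary.space Unitary.herm_apply)

variable {F : Type*} [Field F] [Finite F] {q : ℕ} (K : Unitary.Conj F q)

local notation "H4" => hermForm 4 F q
local notation "V4" => (Fin 4 → F)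

include K in
theorem four_cases (g : SU 4 F q) :
    (∃ v : V4, H4 v v ≠ 0 ∧ ∃ c : F, op g v = c • v) ∨
      ∃ W : Submodule F V4, Module.finrank F W = 2 ∧ (∀ x ∈ W, ∀ y ∈ W, H4 x y = 0) ∧
        ∀ x ∈ W, op g x ∈ W := by
  classical
  set T := op g with hT
  have hdeg : T.charpoly.natDegree = 4 := by rw [LinearMap.charpoly_natDegree, Module.finrank_fin_fun]
  have hmle : (minpoly F T).natDegree ≤ 4 :=
    (natDegree_le_of_dvd T.minpoly_dvd_charpoly T.charpoly_monic.ne_zero).trans_eq hdeg
  have hm0 : minpoly F T ≠ 0 := minpoly.ne_zero (Algebra.IsIntegral.isIntegral T)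
  -- a factor of even degree gives an invariant totally isotropic plane
  have heven : ∀ r : F[X], Irreducible r → r ∣ minpoly F T → Even r.natDegree →
      ∃ W : Submodule F V4, Module.finrank F W = 2 ∧ (∀ x ∈ W, ∀ y ∈ W, H4 x y = 0) ∧
        ∀ x ∈ W, T x ∈ W := by
    intro r hr hd hev
    obtain ⟨x, hx0, hx⟩ := exists_ker_ne_zero hr hd
    have h1 : r.natDegree ≠ 1 := fun e => by rw [e] at hev; exact absurd hev (by decide)
    have hiso : ∀ a ∈ LinearMap.ker (aeval T r), ∀ b ∈ LinearMap.ker (aeval T r), H4 a b = 0 :=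
      fun a ha b hb => factor_kernel K hr h1 hev ha hb
    have hle := isotropic_le K hiso
    have hge := le_finrank_ker hr hx hx0
    have := hr.natDegree_pos
    exact ⟨_, by omega, hiso, fun a ha => by
      rw [LinearMap.mem_ker] at ha ⊢
      have := aeval_mem_ker (T := T) X ha
      rwa [aeval_X] at this⟩
  by_cases hroot : ∃ c, T.charpoly.IsRoot c
  swap
  · push Not at hroot
    obtain ⟨r, -, hr, hd⟩ := exists_monic_irreducible_factor (minpoly F T) (minpoly.not_isUnit F T)
    have h := degree_dvd_of_no_root T.charpoly_monic.ne_zero hroot hr (hd.trans T.minpoly_dvd_charpoly)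
    rw [hdeg] at h
    refine Or.inr (heven r hr hd ?_)
    rcases (show r.natDegree = 2 ∨ r.natDegree = 4 by omega) with e | e <;> rw [e] <;> decide
  obtain ⟨c, hc⟩ := hroot
  obtain ⟨v, hv, hv0⟩ := ((Module.End.hasEigenvalue_iff_isRoot_charpoly T c).2 hc).exists_hasEigenvector
  rw [Module.End.mem_eigenspace_iff] at hv
  by_cases hvv : H4 v v = 0
  swap
  · exact Or.inl ⟨v, hvv, c, hv⟩
  by_cases hsplit : ∀ r : F[X], Irreducible r → r ∣ minpoly F T → r.natDegree = 1
  swap
  · push Not at hsplit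
    obtain ⟨r, hr, hd, h1⟩ := hsplit
    by_cases hev : Even r.natDegree
    · exact Or.inr (heven r hr hd hev)
    exfalso
    obtain ⟨x, hx0, hx⟩ := exists_ker_ne_zero hr hd
    have hge := le_finrank_ker hr hx hx0
    have hvn : v ∉ LinearMap.ker (aeval T r) := fun hm => h1 (mem_minpoly_of_eigen hv hr hm hv0)
    have h3 : r.natDegree = 3 := by
      have := natDegree_le_of_dvd hd hm0
      have := hr.natDegree_pos
      rcases (show r.natDegree = 2 ∨ r.natDegree = 3 ∨ r.natDegree = 4 by omega) with e | e | e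
      · exact absurd (by rw [e]; decide) hev
      · exact e
      · exact absurd (by rw [e]; decide) hev
    have hlt : LinearMap.ker (aeval T r) < LinearMap.ker (aeval T r) ⊔ F ∙ v :=
      lt_of_le_of_ne le_sup_left fun e => hvn (e ▸ Submodule.mem_sup_right (Submodule.mem_span_singleton_self v))
    have h4 := Submodule.finrank_lt_finrank_of_lt hlt
    have h5 : Module.finrank F (LinearMap.ker (aeval T r) ⊔ F ∙ v : Submodule F V4) ≤ 4 :=
      (Submodule.finrank_le _).trans_eq (Module.finrank_fin_fun F)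
    have htop : LinearMap.ker (aeval T r) ⊔ F ∙ v = ⊤ :=
      Submodule.eq_top_of_finrank_eq (by rw [Module.finrank_fin_fun]; omega)
    refine hv0 (h_nondeg K fun y => h_eq_zero_symm K ?_)
    obtain ⟨a, ha, b, hb, rfl⟩ := Submodule.mem_sup.1 (htop ▸ Submodule.mem_top (x := y))
    obtain ⟨t, rfl⟩ := Submodule.mem_span_singleton.1 hb
    rw [h_add_left K, cubic_kernel K hr h1 hv hv0 ha, h_smul_left K, hvv, mul_zero, add_zero]
  -- the split case
  set U := orth K (F ∙ v) with hUdef
  have hUmem : ∀ {u}, u ∈ U ↔ H4 v u = 0 := fun {u} =>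
    ⟨fun h => h v (Submodule.mem_span_singleton_self v), fun h w hw => by
      obtain ⟨a, rfl⟩ := Submodule.mem_span_singleton.1 hw
      rw [h_smul_left K, h, mul_zero]⟩
  have hc0 : c ≠ 0 := fun e => hv0 (by
    rw [e, zero_smul, hT, op_apply] at hv
    rw [← app_inv g v, hv]; exact Matrix.mulVec_zero _)
  have hUinv : ∀ u ∈ U, T u ∈ U := fun u hu => hUmem.2 (by
    have h : H4 (T v) (T u) = 0 := (op_iso g v u).trans (hUmem.1 hu)
    rw [hv, h_smul_left K] at h
    exact (mul_eq_zero.1 h).resolve_left hc0)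
  have hUdim : Module.finrank F U + 1 = 4 := finrank_orth_line K hv0
  have hline : Module.finrank F (F ∙ v) = 1 := finrank_span_singleton hv0
  have hplane : ∀ w ∈ U, w ∉ F ∙ v → H4 w w = 0 → (∃ μ : F, T w - μ • w ∈ F ∙ v) →
      ∃ W : Submodule F V4, Module.finrank F W = 2 ∧ (∀ x ∈ W, ∀ y ∈ W, H4 x y = 0) ∧
        ∀ x ∈ W, T x ∈ W := by
    rintro w hwU hwn hww ⟨μ, hμ⟩
    have hvw : H4 v w = 0 := hUmem.1 hwU
    refine ⟨Submodule.span F {v, w}, ?_, ?_, ?_⟩
    · have hli : LinearIndependent F ![v, w] := (LinearIndependent.pair_iff' hv0).2 fun a e =>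
        hwn (Submodule.mem_span_singleton.2 ⟨a, e⟩)
      have := finrank_span_eq_card hli
      rwa [Matrix.range_cons, Matrix.range_cons, Matrix.range_empty, Set.union_empty,
        Set.singleton_union, Fintype.card_fin] at this
    · intro x hx y hy
      obtain ⟨a, b, rfl⟩ := Submodule.mem_span_pair.1 hx
      obtain ⟨a', b', rfl⟩ := Submodule.mem_span_pair.1 hy
      simp [h_add_left K, h_add_right K, h_smul_left K, h_smul_right K, hvv, hvw, hww,
        h_eq_zero_symm K hvw]
    · intro x hx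
      obtain ⟨a, b, rfl⟩ := Submodule.mem_span_pair.1 hx
      obtain ⟨t, ht⟩ := Submodule.mem_span_singleton.1 hμ
      refine Submodule.mem_span_pair.2 ⟨a * c + b * t, b * μ, ?_⟩
      rw [map_add, map_smul, map_smul, hv, show T w = μ • w + t • v by rw [ht]; abel]
      module
  obtain ⟨w₀, hw₀, hw₀v⟩ : ∃ w₀ ∈ U, w₀ ∉ F ∙ v := by
    by_contra hcon
    push Not at hcon
    have := Submodule.finrank_mono (show U ≤ F ∙ v from fun x hx => hcon x hx)
    omega
  obtain ⟨w, hwU, hwn, μ, hμ⟩ := exists_eigen_mod hUinv hsplit hw₀ hw₀v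
  by_cases hww : H4 w w = 0
  · exact Or.inr (hplane w hwU hwn hww ⟨μ, hμ⟩)
  obtain ⟨t, ht⟩ := Submodule.mem_span_singleton.1 hμ
  have hTw : T w = μ • w + t • v := by rw [ht]; abel
  have hvw : H4 v w = 0 := hUmem.1 hwU
  have heig : ∀ z : V4, ∀ ν s : F, H4 v z = 0 → H4 z z ≠ 0 → T z = ν • z + s • v → ν ≠ c →
      ∃ v : V4, H4 v v ≠ 0 ∧ ∃ c : F, T v = c • v := fun z ν s hvz hzz hz hne => by
    refine ⟨z + (s / (ν - c)) • v, ?_, ν, ?_⟩
    · simpa [h_add_left K, h_add_right K, h_smul_left K, h_smul_right K, hvv, hvz,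
        h_eq_zero_symm K hvz] using hzz
    · have hne' : ν - c ≠ 0 := sub_ne_zero.2 hne
      rw [map_add, map_smul, hz, hv, smul_add, smul_smul, smul_smul, add_assoc, ← add_smul]
      congr 2
      field_simp
      ring
  by_cases hμc : μ = c
  swap
  · exact Or.inl (heig w μ t hvw hww hTw hμc)
  subst hμc
  obtain ⟨u, hu, hun⟩ : ∃ u : V4, (H4 v u = 0 ∧ H4 w u = 0) ∧ u ∉ F ∙ v := by
    let L : U →ₗ[F] F :=
      { toFun := fun x => H4 (x : V4) w, map_add' := fun x y => h_add_left K _ _ _,
        map_smul' := fun a x => h_smul_left K a _ _ }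
    by_contra hcon
    push Not at hcon
    have hle : (LinearMap.ker L).map U.subtype ≤ F ∙ v := by
      rintro _ ⟨y, hy, rfl⟩
      exact hcon _ ⟨hUmem.1 y.2, h_eq_zero_symm K (LinearMap.mem_ker.1 hy)⟩
    have h1 := Submodule.finrank_mono hle
    have h2 := L.finrank_range_add_finrank_ker
    have h3 : Module.finrank F (LinearMap.range L) ≤ 1 :=
      (Submodule.finrank_le _).trans_eq (Module.finrank_self F)
    rw [(Submodule.equivMapOfInjective U.subtype U.injective_subtype (LinearMap.ker L)).finrank_eq.symm] at h1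
    omega
  -- the orthogonal of `w` in `U` is spanned by `v` and `u`
  have hμ0 : μ ≠ 0 := hc0
  have hTu : H4 v (T u) = 0 ∧ H4 w (T u) = 0 := by
    refine ⟨hUmem.1 (hUinv u (hUmem.2 hu.1)), ?_⟩
    have h : H4 (T w) (T u) = 0 := (op_iso g w u).trans hu.2
    rw [hTw, h_add_left K, h_smul_left K, h_smul_left K, hUmem.1 (hUinv u (hUmem.2 hu.1)),
      mul_zero, add_zero] at h
    exact (mul_eq_zero.1 h).resolve_left hμ0
  obtain ⟨ν, s, hTu'⟩ : ∃ ν s : F, T u = ν • u + s • v := by
    let L : U →ₗ[F] F :=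
      { toFun := fun x => H4 (x : V4) w, map_add' := fun x y => h_add_left K _ _ _,
        map_smul' := fun a x => h_smul_left K a _ _ }
    have hr : LinearMap.range L = ⊤ := LinearMap.range_eq_top.2 <| LinearMap.surjective fun e =>
      hww (LinearMap.congr_fun e ⟨w, hwU⟩)
    have h2 := L.finrank_range_add_finrank_ker
    rw [hr, finrank_top, Module.finrank_self] at h2
    set P := (LinearMap.ker L).map U.subtype with hP
    have hPdim : Module.finrank F P = 2 := by
      rw [hP, ← (Submodule.equivMapOfInjective U.subtype U.injective_subtype (LinearMap.ker L)).finrank_eq]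
      omega
    have hmem : ∀ x : V4, H4 v x = 0 → H4 w x = 0 → x ∈ P := fun x h1 h2' =>
      ⟨⟨x, hUmem.2 h1⟩, LinearMap.mem_ker.2 (h_eq_zero_symm K h2'), rfl⟩
    have hspan : Submodule.span F {v, u} = P := by
      refine Submodule.eq_of_le_of_finrank_eq ?_ ?_
      · rw [Submodule.span_le]
        rintro x (rfl | rfl)
        · exact hmem _ hvv (h_eq_zero_symm K hvw)
        · exact hmem _ hu.1 hu.2
      · rw [hPdim]
        have hli : LinearIndependent F ![v, u] := (LinearIndependent.pair_iff' hv0).2 fun a e =>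
          hun (Submodule.mem_span_singleton.2 ⟨a, e⟩)
        have := finrank_span_eq_card hli
        rwa [Matrix.range_cons, Matrix.range_cons, Matrix.range_empty, Set.union_empty,
          Set.singleton_union, Fintype.card_fin] at this
    obtain ⟨a, b, hab⟩ := Submodule.mem_span_pair.1
      (show T u ∈ Submodule.span F {v, u} from hspan ▸ hmem _ hTu.1 hTu.2)
    exact ⟨b, a, by rw [← hab, add_comm]⟩
  by_cases huu : H4 u u = 0
  · exact Or.inr (hplane u (hUmem.2 hu.1) hun huu ⟨ν, Submodule.mem_span_singleton.2 ⟨s, by rw [hTu']; abel⟩⟩)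
  by_cases hνc : ν = μ
  swap
  · exact Or.inl (heig u ν s hu.1 huu hTu' hνc)
  -- an isotropic combination
  obtain ⟨b, hb⟩ := K.exists_norm (-(H4 w w) / H4 u u) (by
    rw [map_div₀, map_neg, bar_self K, bar_self K])
  refine Or.inr (hplane (w + b • u) (U.add_mem hwU (U.smul_mem _ (hUmem.2 hu.1))) ?_ ?_ ⟨μ, ?_⟩)
  · intro hm
    obtain ⟨a, ha⟩ := Submodule.mem_span_singleton.1 hm
    apply hww
    have h := congrArg (fun z => H4 z w) ha
    simpa [h_add_left K, h_smul_left K, h_eq_zero_symm K hu.2, hvw] using h.symm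
  · simp only [h_add_left K, h_add_right K, h_smul_left K, h_smul_right K, hu.2,
      h_eq_zero_symm K hu.2, mul_zero, add_zero, zero_add]
    rw [← mul_assoc, hb, div_mul_cancel₀ _ huu]
    ring
  · rw [map_add, map_smul, hTw, hTu', hνc]
    refine Submodule.mem_span_singleton.2 ⟨t + b * s, ?_⟩
    module

include K in
/-- `PSU₄(q)` is two-covered. -/
theorem covered_psu_four (p : ℕ) [Fact p.Prime] [CharP F p] : Covered (PSU 4 F q) := by
  obtain ⟨θ, hθ⟩ := K.exists_norm (-1) (by rw [map_neg, map_one])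
  refine covered_of_perfect le_rfl (commutator_eq_top K p (by norm_num) (by simp))
    (subStab_line_ne_top K (n := 4) (by norm_num)) (subStab_plane_ne_top K hθ) fun g =>
      ⟨1, one_mem _, ?_⟩
  rw [mul_one]
  rcases four_cases K g with ⟨v, hvv, c, hv⟩ | ⟨W, hdim, hiso, hinv⟩
  · obtain ⟨x, hx⟩ := exists_su_line K (n := 4) (by norm_num) hvv
    refine ⟨x⁻¹, Or.inl (conj_mem_subStab hx fun w hw => ?_)⟩
    obtain ⟨a, rfl⟩ := Submodule.mem_span_singleton.1 hw
    rw [map_smul, hv]
    exact Submodule.smul_mem _ _ (Submodule.smul_mem _ _ (Submodule.mem_span_singleton_self v))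
  · obtain ⟨x, hx⟩ := exists_su_plane K hθ hdim hiso
    exact ⟨x⁻¹, Or.inr (conj_mem_subStab hx hinv)⟩

end CfsgLib.TwoCover
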