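import Cfsg.Agent.Lib.TwoCover.UnitaryMove
import Cfsg.Agent.Lib.Classical.UnitarySimple
import Cfsg.Agent.Lib.Classical.Forms

/-!
Two-covering of `PSU₃(q)` in characteristic three: the stabiliser of a non-isotropic point and the
normaliser of a Singer cycle, which contains regular unipotent elements.
-/

set_option autoImplicit false

namespace CfsgLib.TwoCover

open Polynomial Matrix Cfsg CfsgLib.Classical.Herm
open CfsgLib.ClassicalAut (Unitary.Conj Unitary.space Unitary.herm_apply)

variable {F : Type*} [Field F] [Finite F] {q : ℕ} (K : Unitary.Conj F q)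

local notation "H3" => hermForm 3 F q
local notation "V3" => (Fin 3 → F)

theorem cube_injective [CharP F 3] {a b : F} (h : a ^ 3 = b ^ 3) : a = b :=
  have := Fact.mk Nat.prime_three
  frobenius_inj F 3 (by simpa [frobenius_def] using h)

/-- Regular unipotent maps in dimension three are similar. -/
theorem exists_similar {T T' : Module.End F (Fin 3 → F)} (h : (T - 1) ^ 3 = 0) (h' : (T' - 1) ^ 3 = 0)
    (hr : (T - 1) ^ 2 ≠ 0) (hr' : (T' - 1) ^ 2 ≠ 0) :
    ∃ P : (Fin 3 → F) ≃ₗ[F] (Fin 3 → F), ∀ x, P (T x) = T' (P x) := by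
  have key : ∀ N : Module.End F (Fin 3 → F), N ^ 3 = 0 → N ^ 2 ≠ 0 →
      ∃ b : Module.Basis (Fin 3) F (Fin 3 → F), N (b 0) = b 1 ∧ N (b 1) = b 2 ∧ N (b 2) = 0 := by
    intro N hN hN2
    obtain ⟨v, hv⟩ : ∃ v, (N ^ 2) v ≠ 0 := by
      by_contra hc
      push Not at hc
      exact hN2 (LinearMap.ext hc)
    have h3 : ∀ x, N (N (N x)) = 0 := fun x => by
      have := LinearMap.congr_fun hN x
      rwa [pow_succ', pow_succ', pow_one, Module.End.mul_apply, Module.End.mul_apply] at this
    rw [pow_two, Module.End.mul_apply] at hv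
    have hli : LinearIndependent F ![v, N v, N (N v)] := by
      refine Fintype.linearIndependent_iff.2 fun c hc => ?_
      simp [Fin.sum_univ_three] at hc
      have e2 := congrArg (fun x => N (N x)) hc
      simp [h3] at e2
      have c0 : c 0 = 0 := e2.resolve_right hv
      have e1 := congrArg N hc
      simp [c0, h3] at e1
      have c1 : c 1 = 0 := e1.resolve_right hv
      simp [c0, c1] at hc
      have c2 : c 2 = 0 := hc.resolve_right hv
      intro i; fin_cases i <;> assumption
    let b := basisOfLinearIndependentOfCardEqFinrank hli (by simp)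
    refine ⟨b, ?_, ?_, ?_⟩ <;> simp [b, h3]
  obtain ⟨b, h1, h2, h3⟩ := key _ h hr
  obtain ⟨b', h1', h2', h3'⟩ := key _ h' hr'
  let P := b.equiv b' (Equiv.refl _)
  refine ⟨P, fun x => ?_⟩
  have e : (P : (Fin 3 → F) →ₗ[F] (Fin 3 → F)).comp (T - 1) =
      LinearMap.comp (T' - 1 : Module.End F (Fin 3 → F)) (P : (Fin 3 → F) →ₗ[F] (Fin 3 → F)) := by
    refine b.ext fun i => ?_
    rw [LinearMap.comp_apply, LinearMap.comp_apply, LinearEquiv.coe_coe, Module.Basis.equiv_apply,
      Equiv.refl_apply]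
    fin_cases i
    · show P ((T - 1) (b 0)) = (T' - 1) (b' 0)
      rw [h1, h1', Module.Basis.equiv_apply, Equiv.refl_apply]
    · show P ((T - 1) (b 1)) = (T' - 1) (b' 1)
      rw [h2, h2', Module.Basis.equiv_apply, Equiv.refl_apply]
    · show P ((T - 1) (b 2)) = (T' - 1) (b' 2)
      rw [h3, h3', map_zero]
  have := LinearMap.congr_fun e x
  simpa using this

include K in
theorem three_cases [CharP F 3] (g : SU 3 F q) :
    (∃ v : V3, H3 v v ≠ 0 ∧ ∃ c : F, op g v = c • v) ∨
      (∀ c, ¬ (op g).charpoly.IsRoot c) ∨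
      ((op g - 1) ^ 3 = 0 ∧ (op g - 1) ^ 2 ≠ 0) := by
  classical
  set T := op g with hT
  by_cases hroot : ∃ c, T.charpoly.IsRoot c
  swap
  · push Not at hroot; exact Or.inr (Or.inl hroot)
  obtain ⟨c, hc⟩ := hroot
  obtain ⟨v, hv, hv0⟩ := ((Module.End.hasEigenvalue_iff_isRoot_charpoly T c).2 hc).exists_hasEigenvector
  rw [Module.End.mem_eigenspace_iff] at hv
  by_cases hvv : H3 v v = 0
  swap
  · exact Or.inl ⟨v, hvv, c, hv⟩
  have hdeg : T.charpoly.natDegree = 3 := by rw [LinearMap.charpoly_natDegree, Module.finrank_fin_fun]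
  have hmle : (minpoly F T).natDegree ≤ 3 :=
    (natDegree_le_of_dvd T.minpoly_dvd_charpoly T.charpoly_monic.ne_zero).trans_eq hdeg
  have hm0 : minpoly F T ≠ 0 := minpoly.ne_zero (Algebra.IsIntegral.isIntegral T)
  have hsplit : ∀ r : F[X], Irreducible r → r ∣ minpoly F T → r.natDegree = 1 := by
    intro r hr hd
    by_contra h1
    obtain ⟨x, hx0, hx⟩ := exists_ker_ne_zero hr hd
    have hge := le_finrank_ker hr hx hx0
    have h2 := hr.natDegree_pos
    have h3 := (natDegree_le_of_dvd hd hm0).trans hmle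
    rcases (show r.natDegree = 2 ∨ r.natDegree = 3 by omega) with e | e
    · have := isotropic_le K (W := LinearMap.ker (aeval T r))
        fun a ha b hb => factor_kernel K hr h1 (by rw [e]; decide) ha hb
      omega
    · have htop : LinearMap.ker (aeval T r) = ⊤ := Submodule.eq_top_of_finrank_eq (le_antisymm
        (Submodule.finrank_le _) (by rw [Module.finrank_fin_fun]; omega))
      exact h1 (mem_minpoly_of_eigen hv hr (LinearMap.mem_ker.1 (htop ▸ Submodule.mem_top)) hv0)
  set U := orth K (F ∙ v) with hUdef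
  have hUmem : ∀ {u}, u ∈ U ↔ H3 v u = 0 := fun {u} =>
    ⟨fun h => h v (Submodule.mem_span_singleton_self v), fun h w hw => by
      obtain ⟨a, rfl⟩ := Submodule.mem_span_singleton.1 hw
      rw [h_smul_left K, h, mul_zero]⟩
  have hc0 : c ≠ 0 := fun e => hv0 (by
    rw [e, zero_smul, hT, op_apply] at hv
    rw [← app_inv g v, hv]; exact Matrix.mulVec_zero _)
  have hUinv : ∀ u ∈ U, T u ∈ U := fun u hu => hUmem.2 (by
    have h : H3 (T v) (T u) = 0 := (op_iso g v u).trans (hUmem.1 hu)
    rw [hv, h_smul_left K] at h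
    exact (mul_eq_zero.1 h).resolve_left hc0)
  have hUdim : Module.finrank F U + 1 = 3 := finrank_orth_line K hv0
  have hline : Module.finrank F (F ∙ v) = 1 := finrank_span_singleton hv0
  obtain ⟨w₀, hw₀, hw₀v⟩ : ∃ w₀ ∈ U, w₀ ∉ F ∙ v := by
    by_contra hcon
    push Not at hcon
    have := Submodule.finrank_mono (show U ≤ F ∙ v from fun x hx => hcon x hx)
    omega
  obtain ⟨w, hwU, hwn, μ, hμ⟩ := exists_eigen_mod hUinv hsplit hw₀ hw₀v
  have hvw : H3 v w = 0 := hUmem.1 hwU
  have hwv : H3 w v = 0 := h_eq_zero_symm K hvw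
  have hli : LinearIndependent F ![v, w] := (LinearIndependent.pair_iff' hv0).2 fun a e =>
    hwn (Submodule.mem_span_singleton.2 ⟨a, e⟩)
  have hspan2 : Module.finrank F (Submodule.span F {v, w}) = 2 := by
    have := finrank_span_eq_card hli
    rwa [Matrix.range_cons, Matrix.range_cons, Matrix.range_empty, Set.union_empty,
      Set.singleton_union, Fintype.card_fin] at this
  have hww : H3 w w ≠ 0 := by
    intro hww
    have := isotropic_le K (W := Submodule.span F {v, w}) fun x hx y hy => by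
      obtain ⟨a, b, rfl⟩ := Submodule.mem_span_pair.1 hx
      obtain ⟨a', b', rfl⟩ := Submodule.mem_span_pair.1 hy
      simp [h_add_left K, h_add_right K, h_smul_left K, h_smul_right K, hvv, hvw, hwv, hww]
    omega
  obtain ⟨t, ht⟩ := Submodule.mem_span_singleton.1 hμ
  have hTw : T w = μ • w + t • v := by rw [ht]; abel
  have heig : μ ≠ c ∨ t = 0 → ∃ v : V3, H3 v v ≠ 0 ∧ ∃ c : F, T v = c • v := by
    rintro (hne | rfl)
    · refine ⟨w + (t / (μ - c)) • v, ?_, μ, ?_⟩
      · simpa [h_add_left K, h_add_right K, h_smul_left K, h_smul_right K, hvv, hvw, hwv] using hww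
      · have hne' : μ - c ≠ 0 := sub_ne_zero.2 hne
        rw [map_add, map_smul, hTw, hv, smul_add, smul_smul, smul_smul, add_assoc, ← add_smul]
        congr 2
        field_simp
        ring
    · exact ⟨w, hww, μ, by rw [hTw, zero_smul, add_zero]⟩
  by_cases h0 : μ ≠ c ∨ t = 0
  · exact Or.inl (heig h0)
  push Not at h0
  obtain ⟨rfl, ht0⟩ := h0
  have hμμ : μ * K.bar μ = 1 := by
    have h : H3 (T w) (T w) = H3 w w := op_iso g w w
    rw [hTw] at h
    simp [h_add_left K, h_add_right K, h_smul_left K, h_smul_right K, hvv, hvw, hwv, ← mul_assoc] at h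
    exact mul_right_cancel₀ hww (h.trans (one_mul _).symm)
  have hspanU : Submodule.span F {v, w} = U := Submodule.eq_of_le_of_finrank_eq
    (Submodule.span_le.2 (by rintro x (rfl | rfl); exacts [hUmem.2 hvv, hwU])) (by omega)
  have hN1 : ∀ x, (T - μ • 1) x ∈ U := fun x => hUmem.2 (h_eq_zero_symm K (by
    show H3 (T x - μ • x) v = 0
    rw [h_sub_left K, h_smul_left K]
    have h : H3 (T x) (T v) = H3 x v := op_iso g x v
    rw [hv, h_smul_right K] at h
    linear_combination -(H3 (T x) v) * hμμ + μ * h))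
  have hN2 : ∀ a b : F, (T - μ • 1) (a • v + b • w) = (b * t) • v := fun a b => by
    show T (a • v + b • w) - μ • (a • v + b • w) = _
    rw [map_add, map_smul, map_smul, hv, hTw]
    module
  have hNv : (T - μ • 1) v = 0 := by
    show T v - μ • v = 0
    rw [hv, sub_self]
  have h3 : (T - μ • 1) ^ 3 = 0 := LinearMap.ext fun x => by
    obtain ⟨a, b, hab⟩ := Submodule.mem_span_pair.1
      (show (T - μ • 1) x ∈ Submodule.span F {v, w} from hspanU ▸ hN1 x)
    rw [pow_succ', pow_succ', pow_one, Module.End.mul_apply, Module.End.mul_apply, ← hab, hN2,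
      map_smul, hNv, smul_zero]
    rfl
  have h2 : (T - μ • 1) ^ 2 ≠ 0 := by
    intro e
    obtain ⟨x, hx⟩ : ∃ x : V3, H3 x v ≠ 0 := by
      by_contra hcon
      push Not at hcon
      exact hv0 (h_nondeg K fun y => h_eq_zero_symm K (hcon y))
    obtain ⟨a, b, hab⟩ := Submodule.mem_span_pair.1
      (show (T - μ • 1) x ∈ Submodule.span F {v, w} from hspanU ▸ hN1 x)
    have h := LinearMap.congr_fun e x
    rw [pow_two, Module.End.mul_apply, ← hab, hN2, LinearMap.zero_apply, smul_eq_zero] at h
    have hb : b = 0 := (mul_eq_zero.1 (h.resolve_right hv0)).resolve_right ht0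
    have hy : T x = μ • x + a • v := by
      rw [show T x = (T - μ • 1) x + μ • x from (sub_add_cancel (T x) (μ • x)).symm, ← hab, hb]
      module
    have h' : H3 (T x) (T w) = H3 x w := op_iso g x w
    rw [hy, hTw] at h'
    simp [h_add_left K, h_add_right K, h_smul_left K, h_smul_right K, hvv, hvw] at h'
    have : μ * (K.bar t * H3 x v) = 0 := by linear_combination h' - (H3 x w) * hμμ
    rcases mul_eq_zero.1 this with e1 | e1
    · exact hc0 e1
    rcases mul_eq_zero.1 e1 with e2 | e2
    · exact ht0 ((_root_.map_eq_zero K.bar).1 e2)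
    · exact hx e2
  have hμ1 : μ = 1 := by
    have : Fact (Nat.Prime 3) := ⟨Nat.prime_three⟩
    have : CharP (Module.End F V3) 3 := charP_of_injective_algebraMap
      (algebraMap F (Module.End F V3)).injective 3
    have hT3 : T ^ 3 = (μ ^ 3) • (1 : Module.End F V3) := by
      have h := sub_pow_char_of_commute (p := 3) (x := T) (y := μ • (1 : Module.End F V3))
        ((Commute.one_right T).smul_right μ)
      rw [h3, _root_.smul_pow, one_pow] at h
      exact sub_eq_zero.1 h.symm
    have hdet : LinearMap.det (T ^ 3) = 1 := by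
      rw [map_pow, hT, op, LinearMap.det_toLin', Matrix.SpecialLinearGroup.det_coe, one_pow]
    rw [hT3, LinearMap.det_smul, Module.finrank_fin_fun, map_one, mul_one] at hdet
    exact cube_injective (a := μ) (b := 1) (cube_injective (by rw [hdet, one_pow, one_pow]))
  subst hμ1
  rw [one_smul] at h2 h3
  exact Or.inr (Or.inr ⟨h3, h2⟩)

/-! ### The model on the field with `q⁶` elements -/

section Model

variable (p j : ℕ) [Fact p.Prime] [CharP F p] (hq : q = p ^ j)
  {E : Type*} [Field E] [Finite E] [Algebra F E] [CharP E p] (hE : Module.finrank F E = 3)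

/-- The involution `x ↦ x^(q³)`. -/
def conjE : E →+* E := iterateFrobenius E p (j * 3)

include hq in
theorem conjE_apply (x : E) : conjE p j x = x ^ q ^ 3 := by
  rw [conjE, iterateFrobenius_def, pow_mul, hq]

include K hE in
theorem card_E : Nat.card E = (q ^ 2) ^ 3 := by
  rw [Module.natCard_eq_pow_finrank (K := F), hE, K.card]

include K hq hE in
theorem conjE_conjE (x : E) : conjE p j (conjE p j x) = x := by
  rw [conjE_apply p j hq, conjE_apply p j hq, ← pow_mul,
    show q ^ 3 * q ^ 3 = Nat.card E by rw [card_E K hE]; ring]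
  cases nonempty_fintype E
  rw [Nat.card_eq_fintype_card, FiniteField.pow_card]

include K hq in
theorem conjE_algebraMap (c : F) : conjE p j (algebraMap F E c) = algebraMap F E (K.bar c) := by
  cases nonempty_fintype F
  rw [conjE_apply p j hq, ← map_pow, K.bar_apply]
  congr 1
  rw [show q ^ 3 = q ^ 2 * q by ring, pow_mul, ← K.card, Nat.card_eq_fintype_card, FiniteField.pow_card]

include K hq in
theorem trace_conjE (x : E) : Algebra.trace F E (conjE p j x) = K.bar (Algebra.trace F E x) := by
  refine (algebraMap F E).injective ?_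
  rw [← conjE_algebraMap K p j hq, FiniteField.algebraMap_trace_eq_sum_pow,
    FiniteField.algebraMap_trace_eq_sum_pow, map_sum]
  simp_rw [map_pow]

include K hq in
theorem norm_conjE (x : E) : Algebra.norm F (conjE p j x) = K.bar (Algebra.norm F x) := by
  refine (algebraMap F E).injective ?_
  rw [← conjE_algebraMap K p j hq, FiniteField.algebraMap_norm_eq_prod_pow,
    FiniteField.algebraMap_norm_eq_prod_pow, map_prod]
  simp_rw [map_pow]

include K hq hE in
theorem exists_frame : ∃ Φ : E ≃ₗ[F] V3,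
    ∀ x y, H3 (Φ x) (Φ y) = Algebra.trace F E (x * conjE p j y) := by
  classical
  let B : E →ₛₗ[K.bar.toRingHom] E →ₗ[F] F :=
    LinearMap.mk₂'ₛₗ K.bar.toRingHom (RingHom.id F) (fun u v => Algebra.trace F E (v * conjE p j u))
      (fun u u' v => by rw [map_add, mul_add, map_add])
      (fun a u v => by
        rw [Algebra.smul_def, map_mul (conjE p j), conjE_algebraMap K p j hq,
          show v * (algebraMap F E (K.bar a) * conjE p j u) = K.bar a • (v * conjE p j u) by
            rw [Algebra.smul_def]; ring, map_smul]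
        rfl)
      (fun u v v' => by rw [add_mul, map_add])
      (fun a u v => by rw [smul_mul_assoc, map_smul]; rfl)
  have hB : ∀ u v, B u v = Algebra.trace F E (v * conjE p j u) := fun _ _ => rfl
  have hσ : K.bar.toRingHom ≠ RingHom.id F := fun e => by
    obtain ⟨y, hy⟩ := K.exists_moved
    exact hy (RingHom.congr_fun e y)
  obtain ⟨b, hb⟩ := CfsgLib.Forms.exists_orthonormal_basis K.bar.toRingHom hσ K.bar_bar B
    (fun x y => by
      show K.bar (B x y) = B y x
      rw [hB, hB, ← trace_conjE K p j hq, map_mul, conjE_conjE K p j hq hE, mul_comm])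
    (fun v hv => by
      by_contra hv0
      obtain ⟨e, he⟩ := Algebra.trace_surjective F E (1 : F)
      have h := hv (e * (conjE p j v)⁻¹)
      rw [hB, inv_mul_cancel_right₀ ((_root_.map_ne_zero _).2 hv0), he] at h
      exact one_ne_zero h)
  let b' := b.reindex (finCongr hE)
  have hb' : ∀ i k, B (b' i) (b' k) = if i = k then 1 else 0 := fun i k => by
    simp only [b', Module.Basis.reindex_apply]
    exact (hb _ _).trans (by simp)
  refine ⟨b'.equivFun, fun x y => ?_⟩
  rw [← hB y x]
  conv_rhs => rw [← b'.sum_equivFun x, ← b'.sum_equivFun y]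
  rw [Unitary.herm_apply K]
  simp only [map_sum, map_smul, LinearMap.coe_sum, Finset.sum_apply, LinearMap.map_smulₛₗ,
    LinearMap.smul_apply, smul_eq_mul, hb']
  simp [mul_comm]

variable (Φ : E ≃ₗ[F] (Fin 3 → F))

/-- The matrix of a map of `E`. -/
noncomputable def eMat (f : E →ₗ[F] E) : Matrix (Fin 3) (Fin 3) F :=
  LinearMap.toMatrix' ((Φ : E →ₗ[F] V3) ∘ₗ f ∘ₗ (Φ.symm : V3 →ₗ[F] E))

omit [Finite F] [Finite E] [CharP E p] in
theorem eMat_mulVec (f : E →ₗ[F] E) (x : E) : eMat Φ f *ᵥ Φ x = Φ (f x) := by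
  rw [eMat, LinearMap.toMatrix'_mulVec]; simp

omit [Finite F] [Finite E] [CharP E p] in
theorem eMat_det (f : E →ₗ[F] E) : (eMat Φ f).det = LinearMap.det f := by
  rw [eMat, LinearMap.det_toMatrix', LinearMap.det_conj]

omit [Finite F] [Finite E] [CharP E p] in
theorem eMat_ext {A B : Matrix (Fin 3) (Fin 3) F} (h : ∀ x, A *ᵥ Φ x = B *ᵥ Φ x) : A = B :=
  Matrix.ext_iff_mulVec.2 fun v => by simpa using h (Φ.symm v)

omit [Finite F] [Finite E] in
theorem eMat_iso (hΦ : ∀ x y, H3 (Φ x) (Φ y) = Algebra.trace F E (x * conjE p j y))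
    (f : E →ₗ[F] E) (hf : ∀ x y, Algebra.trace F E (f x * conjE p j (f y)) =
      Algebra.trace F E (x * conjE p j y)) (u v : V3) :
    H3 (eMat Φ f *ᵥ u) (eMat Φ f *ᵥ v) = H3 u v := by
  obtain ⟨x, rfl⟩ := Φ.surjective u
  obtain ⟨y, rfl⟩ := Φ.surjective v
  rw [eMat_mulVec, eMat_mulVec, hΦ, hΦ, hf]

/-- The normaliser of the field. -/
noncomputable def fieldNorm : Subgroup (SU 3 F q) where
  carrier := {A | ∃ τ : E ≃ₐ[F] E, ∀ e x, app A (Φ (e * x)) = Φ (τ e * Φ.symm (app A (Φ x)))}
  one_mem' := ⟨1, fun e x => by simp [app_one]⟩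
  mul_mem' {A B} := by
    rintro ⟨s, hs⟩ ⟨t, ht⟩
    refine ⟨s * t, fun e x => ?_⟩
    rw [app_mul, ht, hs, app_mul, LinearEquiv.apply_symm_apply]
    rfl
  inv_mem' {A} := by
    rintro ⟨s, hs⟩
    refine ⟨s⁻¹, fun e x => ?_⟩
    have h := hs (s⁻¹ e) (Φ.symm (app A⁻¹ (Φ x)))
    rw [LinearEquiv.apply_symm_apply, app_inv', LinearEquiv.symm_apply_apply,
      show s (s⁻¹ e) = e from s.apply_symm_apply e] at h
    rw [← h, app_inv]

include K hE in
theorem fieldNorm_ne_top [CharP F 3] : fieldNorm (q := q) Φ ≠ ⊤ := by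
  classical
  intro htop
  obtain ⟨y, hy⟩ := K.exists_moved
  have hy0 : y ≠ 0 := fun e => hy (by rw [e, map_zero])
  have hyb : K.bar y ≠ 0 := (_root_.map_ne_zero K.bar).2 hy0
  set c := y * (K.bar y)⁻¹ with hc
  have hcn : c * K.bar c = 1 := by rw [hc, map_mul, map_inv₀, K.bar_bar]; field_simp
  have hc0 : c ≠ 0 := left_ne_zero_of_mul (ne_of_eq_of_ne hcn one_ne_zero)
  set d : V3 := ![1, c, c⁻¹] with hd
  have hdet : (Matrix.diagonal d).det = 1 := by simp [d, Fin.prod_univ_three, hc0]
  have hbd : ∀ i, d i * K.bar (d i) = 1 := fun i => by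
    fin_cases i
    · simp [d]
    · exact hcn
    · show c⁻¹ * K.bar c⁻¹ = 1
      rw [map_inv₀, ← mul_inv, hcn, inv_one]
  let A : SU 3 F q := mkSU hdet fun u v => by
    rw [Unitary.herm_apply K, Unitary.herm_apply K]
    refine Finset.sum_congr rfl fun i _ => ?_
    rw [Matrix.mulVec_diagonal, Matrix.mulVec_diagonal, map_mul]
    linear_combination (u i * K.bar (v i)) * hbd i
  obtain ⟨τ, hτ⟩ : A ∈ fieldNorm Φ := htop ▸ Subgroup.mem_top A
  set u := Φ.symm (Pi.single 0 1) with hu
  have hu0 : u ≠ 0 := fun e => by simpa [u] using congrArg Φ e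
  have hA0 : app A (Φ u) = Φ u := by
    rw [hu, LinearEquiv.apply_symm_apply, app_mkSU]
    funext i
    rw [Matrix.mulVec_diagonal]
    fin_cases i <;> simp [d]
  have hτ' : ∀ e, app A (Φ (e * u)) = Φ (τ e * u) := fun e => by
    rw [hτ, hA0, LinearEquiv.symm_apply_apply]
  have hτ3 : τ ^ 3 = 1 := by
    rw [← hE, ← IsGalois.card_aut_eq_finrank F E]; exact pow_card_eq_one'
  have hfix : app A (app A (app A (Φ (Φ.symm (Pi.single 1 1)) ))) = Φ (Φ.symm (Pi.single 1 1)) := by
    rw [show Φ.symm (Pi.single 1 1) = (Φ.symm (Pi.single 1 1) * u⁻¹) * u by rw [inv_mul_cancel_right₀ hu0],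
      hτ', hτ', hτ']
    congr 2
    exact DFunLike.congr_fun hτ3 _
  rw [LinearEquiv.apply_symm_apply] at hfix
  have h1 := congrFun hfix 1
  simp only [A, app_mkSU, Matrix.mulVec_diagonal] at h1
  simp [d] at h1
  have hc1 : c = 1 := cube_injective (by linear_combination h1)
  rw [hc, mul_inv_eq_one₀ hyb] at hc1
  exact hy hc1.symm

end Model

include K in
/-- `PSU₃(q)` is two-covered in characteristic three. -/
theorem covered_psu_three [CharP F 3] {j : ℕ} (hq : q = 3 ^ j) (hq3 : 3 ≤ q) : Covered (PSU 3 F q) := by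
  classical
  have := Fact.mk Nat.prime_three
  have : Fintype F := Fintype.ofFinite F
  have hF : Fintype.card F = q ^ 2 := by rw [Fintype.card_eq_nat_card, K.card]
  let E := FiniteField.Extension F 3 3
  have hE : Module.finrank F E = 3 := FiniteField.finrank_extension F 3 3
  have : CharP E 3 := charP_of_injective_algebraMap (algebraMap F E).injective 3
  obtain ⟨Φ, hΦ⟩ := exists_frame K 3 j hq hE
  refine covered_of_perfect le_rfl (commutator_eq_top K 3 le_rfl (by omega))
    (subStab_line_ne_top K (n := 3) le_rfl) (fieldNorm_ne_top K hE Φ) fun g => ⟨1, one_mem _, ?_⟩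
  rw [mul_one]
  rcases three_cases K g with ⟨v, hvv, c, hv⟩ | hno | ⟨h3, h2⟩
  · obtain ⟨x, hx⟩ := exists_su_line K (n := 3) (by norm_num) hvv
    refine ⟨x⁻¹, Or.inl (conj_mem_subStab hx fun w hw => ?_)⟩
    obtain ⟨a, rfl⟩ := Submodule.mem_span_singleton.1 hw
    rw [map_smul, hv]
    exact Submodule.smul_mem _ _ (Submodule.smul_mem _ _ (Submodule.mem_span_singleton_self v))
  · -- irreducible
    obtain ⟨r, -, hr, hd⟩ := exists_monic_irreducible_factor (minpoly F (op g)) (minpoly.not_isUnit F (op g))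
    have := Fact.mk hr
    have hdeg3 : r.natDegree = 3 := by
      have h := degree_dvd_of_no_root (op g).charpoly_monic.ne_zero hno hr
        (hd.trans (op g).minpoly_dvd_charpoly)
      rw [LinearMap.charpoly_natDegree, Module.finrank_fin_fun] at h
      omega
    obtain ⟨v, hv0, hv⟩ := exists_ker_ne_zero hr hd
    have hge := le_finrank_ker hr hv hv0
    have htop : LinearMap.ker (aeval (op g) r) = ⊤ := Submodule.eq_top_of_finrank_eq (le_antisymm
      (Submodule.finrank_le _) (by rw [Module.finrank_fin_fun]; omega))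
    have hann : aeval (op g) r = 0 := LinearMap.ker_eq_top.1 htop
    have hroot : AdjoinRoot.root r ≠ 0 := fun e => by
      have h : r ∣ X := by rw [← AdjoinRoot.mk_eq_zero, AdjoinRoot.mk_X, e]
      have := natDegree_le_of_dvd h X_ne_zero
      rw [natDegree_X] at this
      omega
    have htw : aeval ((AdjoinRoot.root r)⁻¹ ^ q) r = 0 := by
      by_contra hne
      have := isotropic_le K (W := LinearMap.ker (aeval (op g) r)) fun a ha b hb =>
        kernel_isotropic K (op_iso g) hroot hne ⟨3, j, Nat.prime_three, inferInstance, hq⟩ ha hb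
      omega
    have hone := (twisted_root K htw).2 hdeg3 hroot
    let pb := AdjoinRoot.powerBasis hr.ne_zero
    have : Module.Finite F (AdjoinRoot r) := pb.finite
    have : Finite (AdjoinRoot r) := Module.finite_of_finite F
    have hR : Module.finrank F (AdjoinRoot r) = 3 := pb.finrank.trans hdeg3
    obtain ⟨f₀⟩ := FiniteField.nonempty_algHom_of_finrank_dvd (F := F) (K := AdjoinRoot r) (L := E)
      (by rw [hR, hE])
    have hfb : Function.Bijective f₀ := ⟨f₀.toRingHom.injective,
      (LinearMap.injective_iff_surjective_of_finrank_eq_finrank (f := f₀.toLinearMap)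
        (by rw [hR, hE])).1 f₀.toRingHom.injective⟩
    let f := AlgEquiv.ofBijective f₀ hfb
    set θ : E := f (AdjoinRoot.root r) with hθ
    have hθn : θ * conjE 3 j θ = 1 := by
      rw [conjE_apply 3 j hq, ← pow_succ', hθ, ← map_pow, hone, map_one]
    let ρ : AdjoinRoot r →ₐ[F] Module.End F V3 :=
      Ideal.Quotient.liftₐ (Ideal.span {r}) (aeval (op g)) fun s hs => by
        obtain ⟨t, rfl⟩ := Ideal.mem_span_singleton'.1 hs
        rw [map_mul, hann, mul_zero]
    have hρ : ρ (AdjoinRoot.root r) = op g := by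
      show aeval (op g) X = _
      rw [aeval_X]
    let L : E →ₗ[F] V3 :=
      { toFun := fun e => ρ (f.symm e) v
        map_add' := fun a b => by simp
        map_smul' := fun a b => by simp }
    have hLinj : Function.Injective L := (injective_iff_map_eq_zero L).2 fun e he => by
      by_contra hne
      refine hv0 ?_
      have h1 : ρ (f.symm e⁻¹) (ρ (f.symm e) v) = v := by
        rw [← Module.End.mul_apply, ← map_mul, ← map_mul, inv_mul_cancel₀ hne, map_one, map_one]
        rfl
      rw [show ρ (f.symm e) v = 0 from he, map_zero] at h1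
      exact h1.symm
    let L' : E ≃ₗ[F] V3 := LinearEquiv.ofBijective L ⟨hLinj,
      (LinearMap.injective_iff_surjective_of_finrank_eq_finrank
        (by rw [hE, Module.finrank_fin_fun])).1 hLinj⟩
    have hgL : ∀ e, op g (L' e) = L' (θ * e) := fun e => by
      show op g (ρ (f.symm e) v) = ρ (f.symm (θ * e)) v
      rw [map_mul, hθ, AlgEquiv.symm_apply_apply, map_mul, Module.End.mul_apply, hρ]
    let P : V3 ≃ₗ[F] V3 := L'.symm.trans Φ
    set Y := eMat Φ (Algebra.lmul F E θ) with hY
    have hYiso : ∀ a b, H3 (Y *ᵥ a) (Y *ᵥ b) = H3 a b := eMat_iso 3 j Φ hΦ _ fun x y => by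
      show Algebra.trace F E (θ * x * conjE 3 j (θ * y)) = _
      rw [map_mul (conjE 3 j), show θ * x * (conjE 3 j θ * conjE 3 j y) = θ * conjE 3 j θ * (x * conjE 3 j y) by ring,
        hθn, one_mul]
    have hconj : LinearMap.toMatrix' (P : V3 →ₗ[F] V3) * (g.1 : Matrix (Fin 3) (Fin 3) F) =
        Y * LinearMap.toMatrix' (P : V3 →ₗ[F] V3) := by
      refine Matrix.ext_iff_mulVec.2 fun w => ?_
      obtain ⟨e, rfl⟩ := L'.surjective w
      rw [← mulVec_mulVec, ← mulVec_mulVec, LinearMap.toMatrix'_mulVec, LinearMap.toMatrix'_mulVec,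
        ← show op g (L' e) = (g.1 : Matrix (Fin 3) (Fin 3) F) *ᵥ L' e from op_apply g _, hgL]
      simp [P, hY, eMat_mulVec]
    have hPdet : (LinearMap.toMatrix' (P : V3 →ₗ[F] V3)).det ≠ 0 := by
      rw [LinearMap.det_toMatrix']; exact P.isUnit_det'.ne_zero
    have hYdet : Y.det = 1 := by
      have := congrArg Matrix.det hconj
      rw [det_mul, det_mul, Matrix.SpecialLinearGroup.det_coe, mul_one] at this
      exact mul_right_cancel₀ hPdet (this.symm.trans (one_mul _).symm)
    obtain ⟨x, hx⟩ := exists_su_conj K hF g (mkSU hYdet hYiso) hPdet hconj fun δ hδ => by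
      obtain ⟨a, ha0, ha⟩ := exists_bar_quot K hδ
      obtain ⟨z, hz⟩ := FiniteField.norm_surjective F E a
      have hz0 : z ≠ 0 := fun e => ha0 (by rw [← hz, e, Algebra.norm_zero])
      have hεn : z * (conjE 3 j z)⁻¹ * conjE 3 j (z * (conjE 3 j z)⁻¹) = 1 := by
        rw [map_mul (conjE 3 j), map_inv₀, conjE_conjE K 3 j hq hE]
        have := (_root_.map_ne_zero (conjE (E := E) 3 j)).2 hz0
        rw [show ∀ a b c d : E, a * b * (c * d) = a * d * (b * c) from fun a b c d => by ring,
          mul_inv_cancel₀ hz0, inv_mul_cancel₀ this, one_mul]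
      refine ⟨eMat Φ (Algebra.lmul F E (z * (conjE 3 j z)⁻¹)), eMat_iso 3 j Φ hΦ _ fun x y => ?_, ?_, ?_⟩
      · show Algebra.trace F E (z * (conjE 3 j z)⁻¹ * x * conjE 3 j (z * (conjE 3 j z)⁻¹ * y)) = _
        rw [map_mul (conjE 3 j), show ∀ a b c d : E, a * b * (c * d) = a * c * (b * d) from
          fun a b c d => by ring, hεn, one_mul]
      · have hi : Algebra.norm F (conjE 3 j z)⁻¹ = (K.bar a)⁻¹ := eq_inv_of_mul_eq_one_left (by
          rw [← hz, ← norm_conjE K 3 j hq, ← map_mul (Algebra.norm F),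
            inv_mul_cancel₀ ((_root_.map_ne_zero _).2 hz0), map_one])
        rw [eMat_det, ← Algebra.norm_apply, map_mul (Algebra.norm F), hi, hz, ha]
      · refine eMat_ext Φ fun e => ?_
        rw [← mulVec_mulVec, ← mulVec_mulVec]
        show _ *ᵥ (Y *ᵥ Φ e) = Y *ᵥ (_ *ᵥ Φ e)
        rw [hY, eMat_mulVec, eMat_mulVec, eMat_mulVec, eMat_mulVec]
        simp [mul_left_comm]
    refine ⟨x, Or.inr (hx ▸ ⟨1, fun e w => ?_⟩)⟩
    rw [app_mkSU, app_mkSU, hY, eMat_mulVec, eMat_mulVec, LinearEquiv.symm_apply_apply]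
    simp [mul_left_comm]
  · -- regular unipotent
    let σ : E ≃ₐ[F] E := FiniteField.frobeniusAlgEquivOfAlgebraic F E
    have hσap : ∀ x, σ x = x ^ q ^ 2 := fun x => by
      show x ^ Fintype.card F = _
      rw [hF]
    have hσ3 : σ ^ 3 = 1 := by
      have h : σ ^ Nat.card (E ≃ₐ[F] E) = 1 := pow_card_eq_one'
      rwa [IsGalois.card_aut_eq_finrank F E, hE] at h
    have hσ3' : ∀ e, σ (σ (σ e)) = e := fun e => DFunLike.congr_fun hσ3 e
    set Y := eMat Φ σ.toLinearMap with hY
    have hYiso : ∀ a b, H3 (Y *ᵥ a) (Y *ᵥ b) = H3 a b := eMat_iso 3 j Φ hΦ _ fun x y => by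
      show Algebra.trace F E (σ x * conjE 3 j (σ y)) = _
      rw [show conjE 3 j (σ y) = σ (conjE 3 j y) by
        rw [hσap, hσap, map_pow], ← map_mul]
      exact Algebra.trace_eq_of_algEquiv σ _
    have hY3 : Y ^ 3 = 1 := eMat_ext Φ fun e => by
      rw [pow_succ', pow_succ', pow_one, ← mulVec_mulVec, ← mulVec_mulVec, hY, eMat_mulVec,
        eMat_mulVec, eMat_mulVec, one_mulVec]
      exact congrArg Φ (hσ3' e)
    have hYdet : Y.det = 1 := cube_injective (by rw [← det_pow, hY3, det_one, one_pow])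
    have hYop : ∀ e, op (mkSU hYdet hYiso) (Φ e) = Φ (σ e) := fun e => by
      rw [op_apply, app_mkSU, hY, eMat_mulVec]
      rfl
    have hthree : (3 : F) = 0 := CharP.cast_eq_zero F 3
    have hN : ∀ e, (op (mkSU hYdet hYiso) - 1) (Φ e) = Φ (σ e - e) := fun e => by
      rw [LinearMap.sub_apply, Module.End.one_apply, hYop, map_sub]
    have hE3 : (3 : E) = 0 := CharP.cast_eq_zero E 3
    have hy3 : (op (mkSU hYdet hYiso) - 1) ^ 3 = 0 := LinearMap.ext fun w => by
      obtain ⟨e, rfl⟩ := Φ.surjective w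
      rw [pow_succ', pow_succ', pow_one, Module.End.mul_apply, Module.End.mul_apply, hN, hN, hN,
        LinearMap.zero_apply, ← map_zero Φ]
      refine congrArg Φ ?_
      simp only [map_sub, hσ3']
      linear_combination (σ e - σ (σ e)) * hE3
    have hy2 : (op (mkSU hYdet hYiso) - 1) ^ 2 ≠ 0 := by
      intro e0
      obtain ⟨z, hz⟩ := Algebra.trace_surjective F E (1 : F)
      have h := LinearMap.congr_fun e0 (Φ z)
      rw [pow_two, Module.End.mul_apply, hN, hN, LinearMap.zero_apply,
        LinearEquiv.map_eq_zero_iff] at h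
      simp only [map_sub] at h
      have ht := FiniteField.algebraMap_trace_eq_sum_pow F E z
      rw [hz, map_one, hE, K.card] at ht
      simp only [Finset.sum_range_succ, Finset.sum_range_zero, zero_add, pow_zero, pow_one,
        pow_mul, ← hσap, pow_two (q ^ 2)] at ht
      exact one_ne_zero (α := E) (by linear_combination ht + h + (σ z) * hE3)
    obtain ⟨P, hP⟩ := exists_similar h3 hy3 h2 hy2
    have hconj : LinearMap.toMatrix' (P : V3 →ₗ[F] V3) * (g.1 : Matrix (Fin 3) (Fin 3) F) =
        Y * LinearMap.toMatrix' (P : V3 →ₗ[F] V3) := by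
      refine Matrix.ext_iff_mulVec.2 fun w => ?_
      rw [← mulVec_mulVec, ← mulVec_mulVec, LinearMap.toMatrix'_mulVec, LinearMap.toMatrix'_mulVec,
        ← show op g w = (g.1 : Matrix (Fin 3) (Fin 3) F) *ᵥ w from op_apply g _]
      exact (hP w).trans (by rw [op_apply, app_mkSU]; rfl)
    have hPdet : (LinearMap.toMatrix' (P : V3 →ₗ[F] V3)).det ≠ 0 := by
      rw [LinearMap.det_toMatrix']; exact P.isUnit_det'.ne_zero
    obtain ⟨x, hx⟩ := exists_su_conj K hF g (mkSU hYdet hYiso) hPdet hconj fun δ hδ => by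
      obtain ⟨c, hc⟩ := (Finite.surjective_of_injective
        (f := fun x : F => x ^ 3) fun a b h => cube_injective h) δ
      simp only at hc
      have hcc : c * K.bar c = 1 := cube_injective (by
        rw [mul_pow, ← map_pow, hc, hδ, one_pow])
      refine ⟨c • 1, fun u v => ?_, ?_, ?_⟩
      · rw [smul_mulVec, one_mulVec, smul_mulVec, one_mulVec, h_smul_left K, h_smul_right K,
          ← mul_assoc, hcc, one_mul]
      · rw [det_smul, det_one, Fintype.card_fin, mul_one, hc]
      · rw [Matrix.smul_mul, one_mul, Matrix.mul_smul, mul_one]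
    refine ⟨x, Or.inr (hx ▸ ⟨σ, fun e w => ?_⟩)⟩
    rw [app_mkSU, app_mkSU, hY, eMat_mulVec, eMat_mulVec, LinearEquiv.symm_apply_apply]
    simp

end CfsgLib.TwoCover
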