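import Cfsg.Agent.Lib.TwoCover.Unitary

/-!
Invariant lines and planes of an element of `SU₃` and `SU₄`.
-/

set_option autoImplicit false

namespace CfsgLib.TwoCover

open Polynomial Matrix Cfsg CfsgLib.Classical.Herm
open CfsgLib.ClassicalAut (Unitary.Conj Unitary.space Unitary.herm_apply)

variable {F : Type*} [Field F] [Finite F] {q : ℕ} {n : ℕ} (K : Unitary.Conj F q)

local notation "H" => hermForm n F q
local notation "V" => (Fin n → F)

omit [Finite F] in
theorem op_mul (g h : SU n F q) : op (g * h) = (op g).comp (op h) :=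
  LinearMap.ext fun x => by rw [LinearMap.comp_apply, op_apply, op_apply, op_apply, app_mul]

omit [Finite F] in
theorem op_one : op (1 : SU n F q) = LinearMap.id :=
  LinearMap.ext fun x => by rw [op_apply, app_one]; rfl

/-- The elements fixing a subspace. -/
noncomputable def subStab (W : Submodule F (Fin n → F)) : Subgroup (SU n F q) where
  carrier := {g | W.map (op g) = W}
  one_mem' := by show W.map (op (1 : SU n F q)) = W; rw [op_one, Submodule.map_id]
  mul_mem' {g h} hg hh := by
    show W.map (op (g * h)) = W
    rw [op_mul, Submodule.map_comp, show W.map (op h) = W from hh, show W.map (op g) = W from hg]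
  inv_mem' {g} hg := by
    show W.map (op g⁻¹) = W
    conv_lhs => rw [← (show W.map (op g) = W from hg)]
    rw [← Submodule.map_comp, ← op_mul, inv_mul_cancel, op_one, Submodule.map_id]

theorem conj_mem_subStab {W W' : Submodule F V} {g x : SU n F q} (hx : W.map (op x) = W')
    (hg : ∀ w ∈ W', op g w ∈ W') : x⁻¹ * g * x⁻¹⁻¹ ∈ subStab W := by
  have hinj : Function.Injective (op g) := fun a b h => by
    rw [op_apply, op_apply] at h
    have := congrArg (app g⁻¹) h
    rwa [app_inv, app_inv] at this
  have he : W'.map (op g) = W' := by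
    refine Submodule.eq_of_le_of_finrank_eq (Submodule.map_le_iff_le_comap.2 hg) ?_
    exact ((Submodule.equivMapOfInjective (op g) hinj W').finrank_eq).symm
  show W.map (op (x⁻¹ * g * x⁻¹⁻¹)) = W
  rw [inv_inv, op_mul, op_mul, Submodule.map_comp, hx, Submodule.map_comp, he, ← hx,
    ← Submodule.map_comp, ← op_mul, inv_mul_cancel, op_one, Submodule.map_id]

include K in
theorem finrank_orth_line {v : V} (hv : v ≠ 0) :
    Module.finrank F (orth K (F ∙ v)) + 1 = n := by
  let L : V →ₗ[F] F :=
    { toFun := fun y => H y v, map_add' := fun x y => h_add_left K x y v,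
      map_smul' := fun a x => h_smul_left K a x v }
  have e : orth K (F ∙ v) = LinearMap.ker L := by
    ext u
    refine ⟨fun hu => h_eq_zero_symm K (hu v (Submodule.mem_span_singleton_self v)), fun hu w hw => ?_⟩
    obtain ⟨a, rfl⟩ := Submodule.mem_span_singleton.1 hw
    rw [h_smul_left K, h_eq_zero_symm K (show H u v = 0 from hu), mul_zero]
  have hL : Function.Surjective L := by
    refine LinearMap.surjective ?_
    intro h0
    exact hv (h_nondeg K fun y => h_eq_zero_symm K (LinearMap.congr_fun h0 y))
  have := L.finrank_range_add_finrank_ker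
  rw [LinearMap.range_eq_top.2 hL, finrank_top, Module.finrank_self, Module.finrank_fin_fun] at this
  rw [e]; omega

omit [Finite F] in
theorem mem_minpoly_of_eigen {T : Module.End F V} {v : V} {c : F} (hv : T v = c • v) {r : F[X]}
    (hr : Irreducible r) (h : aeval T r v = 0) (hv0 : v ≠ 0) : r.natDegree = 1 := by
  rw [Module.End.aeval_apply_of_mem_apply_eq_smul hv] at h
  have hroot : r.IsRoot c := (smul_eq_zero.1 h).resolve_right hv0
  exact natDegree_eq_of_degree_eq_some (degree_eq_one_of_irreducible_of_root hr hroot)

omit [Finite F] in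
/-- An eigenvector modulo a line, when the minimal polynomial splits. -/
theorem exists_eigen_mod {T : Module.End F V} {U : Submodule F V} (hU : ∀ x ∈ U, T x ∈ U) {v : V}
    (hsplit : ∀ r : F[X], Irreducible r → r ∣ minpoly F T → r.natDegree = 1)
    {w₀ : V} (hw₀ : w₀ ∈ U) (hw₀v : w₀ ∉ F ∙ v) :
    ∃ w ∈ U, w ∉ F ∙ v ∧ ∃ μ : F, T w - μ • w ∈ F ∙ v := by
  have key : ∀ k : ℕ, ∀ s : F[X], s.natDegree ≤ k → s ≠ 0 → s ∣ minpoly F T →
      aeval T s w₀ ∈ F ∙ v → ∃ w ∈ U, w ∉ F ∙ v ∧ ∃ μ : F, T w - μ • w ∈ F ∙ v := by
    intro k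
    induction k with
    | zero =>
      intro s hs hs0 _ hmem
      rw [eq_C_of_natDegree_le_zero hs, aeval_C, Module.algebraMap_end_apply] at hmem
      refine absurd ((Submodule.smul_mem_iff _ fun e => hs0 ?_).1 hmem) hw₀v
      rw [eq_C_of_natDegree_le_zero hs, e, C_0]
    | succ k ih =>
      intro s hs hs0 hdvd hmem
      by_cases hu : IsUnit s
      · exact ih s ((natDegree_eq_zero_of_isUnit hu).le.trans (Nat.zero_le k)) hs0 hdvd hmem
      obtain ⟨r, hrm, hr, hrs⟩ := exists_monic_irreducible_factor s hu
      obtain ⟨s', rfl⟩ := hrs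
      have hr1 := hsplit r hr ((dvd_mul_right r s').trans hdvd)
      have hs'0 : s' ≠ 0 := right_ne_zero_of_mul hs0
      rw [natDegree_mul hr.ne_zero hs'0, hr1] at hs
      by_cases hm : aeval T s' w₀ ∈ F ∙ v
      · exact ih s' (by omega) hs'0 ((dvd_mul_left s' r).trans hdvd) hm
      refine ⟨aeval T s' w₀, ?_, hm, -r.coeff 0, ?_⟩
      · have hgen : ∀ p : F[X], aeval T p w₀ ∈ U := fun p => by
          induction p using Polynomial.induction_on' with
          | add a b ha hb => rw [map_add]; exact U.add_mem ha hb
          | monomial m a =>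
            rw [aeval_monomial, Module.End.mul_apply, Module.algebraMap_end_apply]
            refine U.smul_mem _ ?_
            clear hmem hm
            induction m with
            | zero => exact hw₀
            | succ m ihm => rw [pow_succ', Module.End.mul_apply]; exact hU _ ihm
        exact hgen s'
      · have e : r = X + C (r.coeff 0) := hrm.eq_X_add_C hr1
        rw [map_mul, Module.End.mul_apply, e, map_add, aeval_X, aeval_C, LinearMap.add_apply,
          Module.algebraMap_end_apply] at hmem
        rw [neg_smul, sub_neg_eq_add]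
        exact hmem
  exact key _ (minpoly F T) le_rfl (minpoly.ne_zero (Algebra.IsIntegral.isIntegral T)) dvd_rfl
    (by rw [minpoly.aeval, LinearMap.zero_apply]; exact zero_mem _)

include K in
theorem factor_kernel {g : SU n F q} {r : F[X]} (hr : Irreducible r) (hd : r.natDegree ≠ 1)
    (hev : Even r.natDegree) {x y : V} (hx : aeval (op g) r x = 0) (hy : aeval (op g) r y = 0) :
    H x y = 0 := by
  have := Fact.mk hr
  have hq : ∃ p j : ℕ, p.Prime ∧ CharP F p ∧ q = p ^ j := by
    have : Fintype F := Fintype.ofFinite F
    obtain ⟨p, hp, hc, ⟨j, hj⟩, -⟩ := exists_conj_of_card (F := F) (q := q)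
      (by rw [Fintype.card_eq_nat_card, K.card])
    exact ⟨p, j, hp, hc, hj⟩
  have hroot : AdjoinRoot.root r ≠ 0 := fun e => by
    have h : r ∣ X := by rw [← AdjoinRoot.mk_eq_zero, AdjoinRoot.mk_X, e]
    have := natDegree_le_of_dvd h X_ne_zero
    rw [natDegree_X] at this
    have := hr.natDegree_pos
    omega
  refine kernel_isotropic K (op_iso g) hroot (fun e => ?_) hq hx hy
  exact (Nat.not_even_iff_odd.2 (twisted_root K e).1) hev

include K in
/-- The kernel of a cubic factor is orthogonal to every eigenvector. -/
theorem cubic_kernel {g : SU n F q} {r : F[X]} (hr : Irreducible r) (hd : r.natDegree ≠ 1)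
    {v : V} {c : F} (hv : op g v = c • v) (hv0 : v ≠ 0) {x : V} (hx : aeval (op g) r x = 0) :
    H x v = 0 := by
  have hc : c ≠ 0 := fun e => hv0 (by
    rw [e, zero_smul, op_apply] at hv
    rw [← app_inv g v, hv]
    exact Matrix.mulVec_zero _)
  have hkey : ∀ s : F[X], H (aeval (op g) s x) v = H x v * s.eval (K.bar c⁻¹) := by
    intro s
    induction s using Polynomial.induction_on' with
    | add a b ha hb => rw [map_add, LinearMap.add_apply, h_add_left K, ha, hb, eval_add]; ring
    | monomial m a =>
      rw [aeval_monomial, Module.End.mul_apply, Module.algebraMap_end_apply, h_smul_left K, eval_monomial]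
      have : H ((op g ^ m) x) v = H x v * K.bar c⁻¹ ^ m := by
        induction m with
        | zero => simp
        | succ m ih =>
          rw [pow_succ', Module.End.mul_apply]
          have h1 : H (op g ((op g ^ m) x)) v = K.bar c⁻¹ * H ((op g ^ m) x) v := by
            conv_lhs => rw [show v = c⁻¹ • op g v by rw [hv, inv_smul_smul₀ hc]]
            rw [h_smul_right K, op_iso]
          rw [h1, ih, pow_succ]; ring
      rw [this]; ring
  have h := hkey r
  rw [hx, h_zero_left K] at h
  refine (mul_eq_zero.1 h.symm).resolve_right fun e => hd ?_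
  exact natDegree_eq_of_degree_eq_some (degree_eq_one_of_irreducible_of_root hr e)

end CfsgLib.TwoCover
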