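import Cfsg.Agent.Lib.TwoCover.UnitaryCases

/-!
Transitivity of `SU_n` on non-isotropic lines, and on totally isotropic planes for `n = 4`.
-/

set_option autoImplicit false

namespace CfsgLib.TwoCover

open Polynomial Matrix Cfsg CfsgLib.Classical.Herm
open CfsgLib.ClassicalAut (Unitary.Conj Unitary.space Unitary.herm_apply)

variable {F : Type*} [Field F] [Finite F] {q : ℕ} {n : ℕ} (K : Unitary.Conj F q)

local notation "H" => hermForm n F q
local notation "V" => (Fin n → F)

include K in
theorem h_single (i j : Fin n) : H (Pi.single i (1 : F)) (Pi.single j 1) = if i = j then 1 else 0 := by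
  rw [h_single_left K, Pi.single_apply]
  split_ifs <;> simp

include K in
theorem exists_su_line (hn : 2 ≤ n) {v : V} (hv : H v v ≠ 0) :
    ∃ x : SU n F q, (F ∙ (Pi.single ⟨0, by omega⟩ 1 : V)).map (op x) = F ∙ v := by
  classical
  let i0 : Fin n := ⟨0, by omega⟩
  let i1 : Fin n := ⟨1, hn⟩
  have h01 : i0 ≠ i1 := fun e => by simpa [i0, i1] using congrArg Fin.val e
  obtain ⟨t, ht⟩ := K.exists_norm (H v v)⁻¹ (by rw [map_inv₀, bar_self K])
  have ht0 : t ≠ 0 := fun e => hv (by rw [e, zero_mul] at ht; exact inv_eq_zero.1 ht.symm)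
  have h1 : H (t • v) (t • v) = 1 := by
    rw [h_smul_left K, h_smul_right K, ← mul_assoc, ht, inv_mul_cancel₀ hv]
  have hv0 : v ≠ 0 := ne_zero_of_h K hv
  obtain ⟨A, hA, hAe⟩ := exists_iso_map K (fun _ : Fin 1 => (Pi.single i0 1 : V)) (fun _ => t • v)
    ((linearIndependent_subsingleton_index_iff _).2 fun _ => by simp)
    ((linearIndependent_subsingleton_index_iff _).2 fun _ => smul_ne_zero ht0 hv0)
    (fun i j => by rw [h_single K, if_pos rfl, h1])
  have hd := det_norm_one K hA
  have hd0 : A.det ≠ 0 := left_ne_zero_of_mul (ne_of_eq_of_ne hd one_ne_zero)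
  set d : Fin n → F := fun i => if i = i1 then A.det⁻¹ else 1 with hdd
  have hD : ∀ x y, H (Matrix.diagonal d *ᵥ x) (Matrix.diagonal d *ᵥ y) = H x y := fun x y => by
    rw [Unitary.herm_apply K, Unitary.herm_apply K]
    refine Finset.sum_congr rfl fun i _ => ?_
    rw [Matrix.mulVec_diagonal, Matrix.mulVec_diagonal, map_mul, hdd]
    simp only
    split_ifs
    · rw [map_inv₀]
      have e : A.det⁻¹ * (K.bar A.det)⁻¹ = 1 := by rw [← mul_inv, hd, inv_one]
      linear_combination (x i * K.bar (y i)) * e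
    · simp
  have hdet : (A * Matrix.diagonal d).det = 1 := by
    rw [det_mul, det_diagonal, Finset.prod_eq_single i1 (fun i _ hi => by simp [d, hi]) (by simp),
      hdd]
    simp [mul_inv_cancel₀ hd0]
  refine ⟨mkSU (A := A * Matrix.diagonal d) hdet
    (fun x y => by rw [← mulVec_mulVec, ← mulVec_mulVec, hA, hD]), ?_⟩
  have hde : Matrix.diagonal d *ᵥ (Pi.single i0 1 : V) = Pi.single i0 1 := by
    funext i
    rw [Matrix.mulVec_diagonal]
    rcases eq_or_ne i i0 with rfl | hi
    · simp [d, h01]
    · simp [hi]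
  rw [Submodule.map_span, Set.image_singleton, op_apply, app_mkSU, ← mulVec_mulVec, hde, hAe 0]
  exact Submodule.span_singleton_smul_eq (IsUnit.mk0 t ht0) v

include K in
/-- The stabiliser of a non-isotropic line is proper. -/
theorem subStab_line_ne_top (hn : 3 ≤ n) :
    subStab (q := q) (F ∙ (Pi.single ⟨0, by omega⟩ 1 : V)) ≠ ⊤ := by
  classical
  intro htop
  let i0 : Fin n := ⟨0, by omega⟩
  let i1 : Fin n := ⟨1, by omega⟩
  let i2 : Fin n := ⟨2, by omega⟩
  have h01 : i0 ≠ i1 := fun e => by simpa [i0, i1] using congrArg Fin.val e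
  have h02 : i0 ≠ i2 := fun e => by simpa [i0, i2] using congrArg Fin.val e
  have h12 : i1 ≠ i2 := fun e => by simpa [i1, i2] using congrArg Fin.val e
  obtain ⟨w, hw, hw1⟩ : ∃ w : V, H w w ≠ 0 ∧ w i1 = 1 := by
    by_cases h2 : (2 : F) = 0
    · refine ⟨Pi.single i0 1 + Pi.single i1 1 + Pi.single i2 1, ?_, by simp [h01.symm, h12]⟩
      simp only [h_add_left K, h_add_right K, h_single K, if_pos, h01, h02, h12, h01.symm,
        h02.symm, h12.symm, if_false]
      intro e
      exact one_ne_zero (α := F) (by linear_combination e - h2)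
    · refine ⟨Pi.single i0 1 + Pi.single i1 1, ?_, by simp [h01.symm]⟩
      simp only [h_add_left K, h_add_right K, h_single K, if_pos, h01, h01.symm, if_false]
      intro e
      exact h2 (by linear_combination e)
  obtain ⟨x, hx⟩ := exists_su_line K (by omega) hw
  have h : (F ∙ (Pi.single i0 1 : V)).map (op x) = F ∙ (Pi.single i0 1 : V) :=
    (htop ▸ Subgroup.mem_top x : x ∈ subStab _)
  obtain ⟨a, ha⟩ := Submodule.mem_span_singleton.1
    ((hx.symm.trans h) ▸ Submodule.mem_span_singleton_self w)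
  have := congrFun ha i1
  simp [hw1, h01.symm] at this

section Four

local notation "V4" => (Fin 4 → F)
local notation "H4" => hermForm 4 F q

/-- A totally isotropic plane with coordinates. -/
def plane (θ : F) : Fin 2 → (Fin 4 → F) := ![![1, θ, 0, 0], ![0, 0, 1, θ]]

omit [Finite F] in
theorem plane_indep (θ : F) : LinearIndependent F (plane θ) := by
  refine Fintype.linearIndependent_iff.2 fun c hc i => ?_
  have h0 := congrFun hc 0
  have h2 := congrFun hc 2
  simp [plane, Fin.sum_univ_two] at h0 h2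
  fin_cases i <;> assumption

include K in
theorem plane_isotropic {θ : F} (hθ : θ * K.bar θ = -1) (i j : Fin 2) :
    H4 (plane θ i) (plane θ j) = 0 := by
  rw [Unitary.herm_apply K]
  fin_cases i <;> fin_cases j <;> simp [plane, Fin.sum_univ_four, hθ]

include K in
theorem exists_su_plane {θ : F} (hθ : θ * K.bar θ = -1) {W : Submodule F V4}
    (hdim : Module.finrank F W = 2) (hW : ∀ x ∈ W, ∀ y ∈ W, H4 x y = 0) :
    ∃ x : SU 4 F q, (Submodule.span F (Set.range (plane θ))).map (op x) = W := by
  classical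
  let b := Module.finBasisOfFinrankEq F W hdim
  obtain ⟨A, hA, hAe⟩ := exists_iso_map K (plane θ) (fun i => (b i : V4)) (plane_indep θ)
    (b.linearIndependent.map' W.subtype W.ker_subtype)
    (fun i j => by rw [plane_isotropic K hθ, hW _ (b i).2 _ (b j).2])
  have hd := det_norm_one K hA
  have hd0 : A.det ≠ 0 := left_ne_zero_of_mul (ne_of_eq_of_ne hd one_ne_zero)
  obtain ⟨a, ha0, ha⟩ := exists_bar_quot K (c := A.det⁻¹) (by rw [map_inv₀, ← mul_inv, hd, inv_one])
  -- a second square root of the norm `-1`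
  obtain ⟨y, hy⟩ := K.exists_moved
  have hy0 : y ≠ 0 := fun e => hy (by rw [e, map_zero])
  have hyb : K.bar y ≠ 0 := (map_ne_zero K.bar).2 hy0
  set η : F := θ * (y * (K.bar y)⁻¹) with hη
  have hηn : η * K.bar η = -1 := by
    rw [hη, map_mul, map_mul, map_inv₀, K.bar_bar]
    field_simp
    linear_combination hθ
  have hθ0 : θ ≠ 0 := fun e => by rw [e, zero_mul] at hθ; exact one_ne_zero (α := F) (by linear_combination hθ)
  have hne : η - θ ≠ 0 := by
    intro e
    apply hy
    have : y * (K.bar y)⁻¹ = 1 := mul_left_cancel₀ hθ0 (by rw [← hη, mul_one]; exact sub_eq_zero.1 e)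
    exact ((mul_inv_eq_one₀ hyb).1 this).symm
  set b' : F := (K.bar a)⁻¹ with hb
  set u : F := (η - θ)⁻¹ with hu
  set D : Matrix (Fin 4) (Fin 4) F :=
    !![(a * η - b' * θ) * u, (b' - a) * u, 0, 0;
       θ * η * (a - b') * u, (b' * η - a * θ) * u, 0, 0;
       0, 0, 1, 0;
       0, 0, 0, 1] with hD
  have hDdet : D.det = a * b' := by
    rw [hD, Matrix.det_succ_row_zero]
    simp [Fin.sum_univ_succ, Matrix.det_fin_three, Matrix.submatrix, Fin.succAbove]
    rw [hu]
    field_simp
    ring
  have hθb : K.bar θ = -θ⁻¹ := by field_simp; linear_combination hθ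
  have hη0 : η ≠ 0 := fun e => by rw [e, zero_mul] at hηn; exact one_ne_zero (α := F) (by linear_combination hηn)
  have hηb : K.bar η = -η⁻¹ := by field_simp; linear_combination hηn
  have hab : K.bar a ≠ 0 := (map_ne_zero K.bar).2 ha0
  have hbb : K.bar b' = a⁻¹ := by rw [hb, map_inv₀, K.bar_bar]
  have hub : K.bar u = η * θ * u := by
    rw [hu, map_inv₀, map_sub, hθb, hηb]
    field_simp
    rw [show -θ - -η = η - θ by ring, div_self hne]
  have e11 : D 0 0 * K.bar (D 0 0) + D 1 0 * K.bar (D 1 0) = 1 := by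
    simp only [hD, Matrix.of_apply, Matrix.cons_val', Matrix.cons_val_zero, Matrix.cons_val_one,
      map_mul, map_sub, hθb, hηb, hbb, hub]
    rw [hb, hu]
    field_simp
    ring
  have e22 : D 0 1 * K.bar (D 0 1) + D 1 1 * K.bar (D 1 1) = 1 := by
    simp only [hD, Matrix.of_apply, Matrix.cons_val', Matrix.cons_val_zero, Matrix.cons_val_one,
      map_mul, map_sub, hθb, hηb, hbb, hub]
    rw [hb, hu]
    field_simp
    ring
  have e12 : D 0 0 * K.bar (D 0 1) + D 1 0 * K.bar (D 1 1) = 0 := by
    simp only [hD, Matrix.of_apply, Matrix.cons_val', Matrix.cons_val_zero, Matrix.cons_val_one,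
      map_mul, map_sub, hθb, hηb, hbb, hub]
    rw [hb, hu]
    field_simp
    ring
  have e21 : D 0 1 * K.bar (D 0 0) + D 1 1 * K.bar (D 1 0) = 0 := by
    have := congrArg K.bar e12
    rw [map_add, map_mul, map_mul, K.bar_bar, K.bar_bar, map_zero] at this
    linear_combination this
  have hDiso : ∀ x y, H4 (D *ᵥ x) (D *ᵥ y) = H4 x y := fun x z => by
    have hcomp : ∀ w : V4, D *ᵥ w = ![D 0 0 * w 0 + D 0 1 * w 1, D 1 0 * w 0 + D 1 1 * w 1, w 2, w 3] := by
      intro w
      funext i
      fin_cases i <;> simp [hD, Matrix.mulVec, dotProduct, Fin.sum_univ_four]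
    rw [Unitary.herm_apply K, Unitary.herm_apply K, hcomp, hcomp, Fin.sum_univ_four, Fin.sum_univ_four]
    simp only [Matrix.cons_val_zero, Matrix.cons_val_one, Matrix.cons_val, map_add, map_mul]
    linear_combination (x 0 * K.bar (z 0)) * e11 + (x 1 * K.bar (z 1)) * e22 +
      (x 0 * K.bar (z 1)) * e12 + (x 1 * K.bar (z 0)) * e21
  refine ⟨mkSU (A := A * D) (by rw [det_mul, hDdet, hb, ha, mul_inv_cancel₀ hd0])
    (fun x z => by rw [← mulVec_mulVec, ← mulVec_mulVec, hA, hDiso]), ?_⟩
  have hDp : D *ᵥ plane θ 0 = a • plane θ 0 ∧ D *ᵥ plane θ 1 = plane θ 1 := by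
    constructor <;> funext i <;> fin_cases i <;>
      simp [hD, plane, Matrix.mulVec, dotProduct, Fin.sum_univ_four, hu] <;> field_simp <;> ring
  refine Submodule.eq_of_le_of_finrank_eq (Submodule.map_le_iff_le_comap.2
    (Submodule.span_le.2 ?_)) ?_
  · rintro _ ⟨i, rfl⟩
    show op _ (plane θ i) ∈ W
    rw [op_apply, app_mkSU, ← mulVec_mulVec]
    fin_cases i
    · show A *ᵥ (D *ᵥ plane θ 0) ∈ W
      rw [hDp.1, mulVec_smul, hAe]; exact W.smul_mem _ (b 0).2
    · show A *ᵥ (D *ᵥ plane θ 1) ∈ W
      rw [hDp.2, hAe]; exact (b 1).2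
  · have hinj : Function.Injective (op (mkSU (A := A * D)
        (by rw [det_mul, hDdet, hb, ha, mul_inv_cancel₀ hd0])
        (fun x z => by rw [← mulVec_mulVec, ← mulVec_mulVec, hA, hDiso]))) := fun x z h => by
      rw [op_apply, op_apply] at h
      have := congrArg (app (mkSU (A := A * D)
        (by rw [det_mul, hDdet, hb, ha, mul_inv_cancel₀ hd0])
        (fun x z => by rw [← mulVec_mulVec, ← mulVec_mulVec, hA, hDiso]))⁻¹) h
      rwa [app_inv, app_inv] at this
    rw [← (Submodule.equivMapOfInjective _ hinj _).finrank_eq,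
      finrank_span_eq_card (plane_indep θ), Fintype.card_fin, hdim]

include K in
theorem subStab_plane_ne_top {θ : F} (hθ : θ * K.bar θ = -1) :
    subStab (q := q) (Submodule.span F (Set.range (plane θ))) ≠ ⊤ := by
  intro htop
  let f : Fin 2 → V4 := ![![1, 0, θ, 0], ![0, 1, 0, θ]]
  have hf : LinearIndependent F f := by
    refine Fintype.linearIndependent_iff.2 fun c hc i => ?_
    have h0 := congrFun hc 0
    have h1 := congrFun hc 1
    simp [f, Fin.sum_univ_two] at h0 h1
    fin_cases i <;> assumption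
  have hiso : ∀ i j, H4 (f i) (f j) = 0 := fun i j => by
    rw [Unitary.herm_apply K]
    fin_cases i <;> fin_cases j <;> simp [f, Fin.sum_univ_four, hθ]
  obtain ⟨x, hx⟩ := exists_su_plane K hθ (W := Submodule.span F (Set.range f))
    (by rw [finrank_span_eq_card hf, Fintype.card_fin]) (by
      intro x hx y hy
      induction hx using Submodule.span_induction with
      | mem x hx =>
        induction hy using Submodule.span_induction with
        | mem y hy => obtain ⟨i, rfl⟩ := hx; obtain ⟨j, rfl⟩ := hy; exact hiso i j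
        | zero => exact h_zero_right K _
        | add a b _ _ ha hb => rw [h_add_right K, ha, hb, add_zero]
        | smul c a _ ha => rw [h_smul_right K, ha, mul_zero]
      | zero => exact h_zero_left K _
      | add a b _ _ ha hb => rw [h_add_left K, ha, hb, add_zero]
      | smul c a _ ha => rw [h_smul_left K, ha, mul_zero])
  have h : (Submodule.span F (Set.range (plane θ))).map (op x) = Submodule.span F (Set.range (plane θ)) :=
    (htop ▸ Subgroup.mem_top x : x ∈ subStab _)
  have hmem : f 0 ∈ Submodule.span F (Set.range (plane θ)) :=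
    (hx.symm.trans h) ▸ Submodule.subset_span ⟨0, rfl⟩
  obtain ⟨c, hc⟩ := (Submodule.mem_span_range_iff_exists_fun F).1 hmem
  have h0 := congrFun hc 0
  have h1 := congrFun hc 1
  simp [f, plane, Fin.sum_univ_two] at h0 h1
  have hθ0 : θ ≠ 0 := fun e =>
    one_ne_zero (α := F) (by rw [e, zero_mul] at hθ; linear_combination hθ)
  simp [h0, hθ0] at h1

end Four

end CfsgLib.TwoCover
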